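import Cfsg.Agent.Lib.H52.BB3
import Cfsg.Agent.Lib.H51.BauMain2
import Cfsg.Agent.Lib.H56.BmP

/-!
Two subnormal Baumann blocks which agree modulo the centralizer of `Ω₁(Z(O_p(G)))`.
-/

set_option autoImplicit false
set_option linter.unusedSectionVars false
set_option linter.unusedVariables false

namespace H52.BB

open Subgroup Cfsg H51.Bau H51.FF H51.OG H52.PRes H52.PCore H1.Coprime2
open scoped MatrixGroups commutatorElement Pointwise

universe u

theorem Q_or {G : Type*} [Group G] [Finite G] {p : ℕ} [hp : Fact p.Prime] {T E : Subgroup G}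
    (hE : IsBaumannBlock p T E) : p = 3 ∨ pCoreOf p E ≤ ⁅omegaOneCenter p (pCoreOf p E), E⁆ := by
  have key : pCoreOf p E = omegaOneCenter p (pCoreOf p E) → pCoreOf p E ≤ ⁅omegaOneCenter p (pCoreOf p E), E⁆ := by
    intro h
    have h2 := hE.2.2.1
    conv_lhs => rw [← h2]
    exact Subgroup.commutator_mono h.le le_rfl
  rcases hE.2.2.2.2 with ⟨F, i1, i2, n, hF, hiso, h1, h2 | h2⟩ | ⟨-, m, -, -, h2⟩
  · exact Or.inr (key h2)
  · exact Or.inl h2.1
  · exact Or.inr (key h2)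

section three
attribute [local instance] three_prime

theorem QU3 {G : Type u} [Group G] [Finite G] {T : Sylow 3 G} {E : Subgroup G}
    (hG : centralizer (pCore 3 G : Set G) ≤ pCore 3 G)
    (hE : IsBaumannBlock 3 (T : Subgroup G) E) (hQ : pCoreOf 3 E ≤ pCore 3 G) : pCoreOf 3 E ≤ Uf G := by
  have key : pCoreOf 3 E ≤ ⁅Wf E, E⁆ → pCoreOf 3 E ≤ Uf G := fun h =>
    (h.trans (block_le hG hE)).trans Vn_le_Uf
  rcases exists_ex hG hE with h | h | ⟨F, i1, i2, ex⟩
  · apply key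
    have h2 := hE.2.2.1
    conv_lhs => rw [← h2]
    rw [show Wf E = pCoreOf 3 E from h.symm]
  · apply key
    have h2 := hE.2.2.1
    have h3 : pCoreOf 3 E ≤ Wf E := by
      conv_lhs => rw [← h2]
      exact (Subgroup.commutator_mono hQ le_rfl).trans h
    conv_lhs => rw [← h2]
    exact Subgroup.commutator_mono h3 le_rfl
  · exact ex.QU

theorem key3 {G : Type u} [Group G] [Finite G] {T1 T2 : Sylow 3 G} {E F : Subgroup G}
    (hG : centralizer (pCore 3 G : Set G) ≤ pCore 3 G)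
    (hE : IsBaumannBlock 3 (T1 : Subgroup G) E) (hF : IsBaumannBlock 3 (T2 : Subgroup G) F)
    (hQE : pCoreOf 3 E ≤ pCore 3 G) (hQF : pCoreOf 3 F ≤ pCore 3 G) {y : G}
    (hy : y ∈ centralizer (omegaOneCenter 3 (pCore 3 G) : Set G))
    (hyn : ∀ n ∈ pCore 3 G, y * n * y⁻¹ * n⁻¹ ∈ pCoreOf 3 E ⊔ pCoreOf 3 F) :
    (∀ q ∈ pCoreOf 3 E, y * q * y⁻¹ * q⁻¹ ∈ omegaOneCenter 3 (pCore 3 G)) ∧
    (∀ q ∈ pCoreOf 3 F, y * q * y⁻¹ * q⁻¹ ∈ omegaOneCenter 3 (pCore 3 G)) := by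
  have hR : pCoreOf 3 E ⊔ pCoreOf 3 F ≤ Uf G := sup_le (QU3 hG hE hQE) (QU3 hG hF hQF)
  have hD : y ∈ D0 G := mem_D0.2 ⟨fun v hv => (mem_centralizer_iff.1 hy v hv).symm, fun n hn => hR (hyn n hn)⟩
  exact ⟨fix hG hE hQE y hD, fix hG hF hQF y hD⟩

end three

theorem keyp {G : Type u} [Group G] [Finite G] {p : ℕ} [hp : Fact p.Prime] {T1 T2 : Sylow p G} {E F : Subgroup G}
    (hG : centralizer (pCore p G : Set G) ≤ pCore p G)
    (hE : IsBaumannBlock p (T1 : Subgroup G) E) (hF : IsBaumannBlock p (T2 : Subgroup G) F)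
    (hQE : pCoreOf p E ≤ pCore p G) (hQF : pCoreOf p F ≤ pCore p G) {y : G}
    (hy : y ∈ centralizer (omegaOneCenter p (pCore p G) : Set G))
    (hyn : ∀ n ∈ pCore p G, y * n * y⁻¹ * n⁻¹ ∈ pCoreOf p E ⊔ pCoreOf p F) :
    (∀ q ∈ pCoreOf p E, y * q * y⁻¹ * q⁻¹ ∈ omegaOneCenter p (pCore p G)) ∧
    (∀ q ∈ pCoreOf p F, y * q * y⁻¹ * q⁻¹ ∈ omegaOneCenter p (pCore p G)) := by
  by_cases hp3 : p = 3
  · subst hp3
    exact key3 hG hE hF hQE hQF hy hyn
  · have triv : ∀ q ∈ omegaOneCenter p (pCore p G), y * q * y⁻¹ * q⁻¹ ∈ omegaOneCenter p (pCore p G) := by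
      intro q hq
      have : y * q * y⁻¹ * q⁻¹ = 1 := by
        rw [← mem_centralizer_iff.1 hy q hq]; group
      rw [this]; exact one_mem _
    have h1 := ((Q_or hE).resolve_left hp3).trans (block_le hG hE)
    have h2 := ((Q_or hF).resolve_left hp3).trans (block_le hG hF)
    exact ⟨fun q hq => triv q (h1 hq), fun q hq => triv q (h2 hq)⟩

theorem fin {G : Type u} [Group G] [Finite G] {p : ℕ} [hp : Fact p.Prime]
    (hG : centralizer (pCore p G : Set G) ≤ pCore p G) {T1 T2 : Sylow p G} {E F : Subgroup G}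
    (hE : IsBaumannBlock p (T1 : Subgroup G) E) (hF : IsBaumannBlock p (T2 : Subgroup G) F)
    (hEs : E.IsSubnormal) (hFs : F.IsSubnormal)
    (h1 : F ≤ E ⊔ centralizer (omegaOneCenter p (pCore p G) : Set G))
    (h2 : E ≤ F ⊔ centralizer (omegaOneCenter p (pCore p G) : Set G)) : F ≤ E := by
  set N := pCore p G with hNdef
  set V := omegaOneCenter p N with hVdef
  set C := centralizer (V : Set G) with hCdef
  have hNn : N.Normal := inferInstance
  have hVn : ∀ g : G, g ∈ normalizer (V : Set G) := by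
    intro g
    rw [mem_nz_iff]
    show cg g (omegaOne p _) = _
    rw [omegaOne_cg, cg_inf, map_centralizer]
    have : cg g N = N := by
      rw [← mem_nz_iff, Subgroup.normalizer_eq_top]; exact Subgroup.mem_top g
    rw [this]
    rfl
  have hCn : C.Normal := by
    refine ⟨fun c hc g => ?_⟩
    rw [mem_centralizer_iff] at hc ⊢
    intro v hv
    have h3 : g⁻¹ * v * g ∈ V := by
      have := (mem_normalizer_iff.1 (hVn g⁻¹) v).1 hv
      rwa [inv_inv] at this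
    have h4 := hc _ h3
    calc v * (g * c * g⁻¹) = g * ((g⁻¹ * v * g) * c) * g⁻¹ := by group
      _ = g * c * g⁻¹ * v := by rw [h4]; group
  have hCE : C ≤ normalizer (E : Set G) :=
    (Subgroup.centralizer_le (block_le hG hE)).trans (cent_le_nz hG T1 E hE)
  have hCF : C ≤ normalizer (F : Set G) :=
    (Subgroup.centralizer_le (block_le hG hF)).trans (cent_le_nz hG T2 F hF)
  have hFE : F ≤ normalizer (E : Set G) := h1.trans (sup_le Subgroup.le_normalizer hCE)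
  have hEF : E ≤ normalizer (F : Set G) := h2.trans (sup_le Subgroup.le_normalizer hCF)
  have hQE : pCoreOf p E = E ⊓ N := pCoreOf_eq_inf_of_subnormal hEs
  have hQF : pCoreOf p F = F ⊓ N := pCoreOf_eq_inf_of_subnormal hFs
  have hNE : N ≤ normalizer (E : Set G) := core_nz hE
  have hNF : N ≤ normalizer (F : Set G) := core_nz hF
  set R := pCoreOf p E ⊔ pCoreOf p F with hR
  have hRN : R ≤ N := sup_le (hQE.le.trans inf_le_right) (hQF.le.trans inf_le_right)
  have hRn : ∀ {g : G}, g ∈ normalizer (E : Set G) → g ∈ normalizer (F : Set G) → g ∈ normalizer (R : Set G) := by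
    intro g hg1 hg2
    have h3 := normalizer_le_normalizer_pCoreOf (p := p) E hg1
    have h4 := normalizer_le_normalizer_pCoreOf (p := p) F hg2
    rw [mem_nz_iff] at h3 h4 ⊢
    show cg g (pCoreOf p E ⊔ pCoreOf p F) = _
    unfold cg at h3 h4 ⊢
    rw [Subgroup.map_sup, h3, h4]
  have hEn : ∀ {e n : G}, e ∈ E → n ∈ N → e * n * e⁻¹ * n⁻¹ ∈ R := by
    intro e n he hn
    apply Subgroup.mem_sup_left
    rw [hQE]
    refine ⟨?_, ?_⟩
    · have h3 := (mem_normalizer_iff.1 (hNE hn) _).1 (inv_mem he)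
      have : e * n * e⁻¹ * n⁻¹ = e * (n * e⁻¹ * n⁻¹) := by group
      rw [this]; exact mul_mem he h3
    · exact N.mul_mem (hNn.conj_mem n hn e) (N.inv_mem hn)
  have hFn : ∀ {e n : G}, e ∈ F → n ∈ N → e * n * e⁻¹ * n⁻¹ ∈ R := by
    intro e n he hn
    apply Subgroup.mem_sup_right
    rw [hQF]
    refine ⟨?_, ?_⟩
    · have h3 := (mem_normalizer_iff.1 (hNF hn) _).1 (inv_mem he)
      have : e * n * e⁻¹ * n⁻¹ = e * (n * e⁻¹ * n⁻¹) := by group
      rw [this]; exact mul_mem he h3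
    · exact N.mul_mem (hNn.conj_mem n hn e) (N.inv_mem hn)
  have hCR : ∀ {c : G}, c ∈ C → c ∈ normalizer (R : Set G) := fun {c} hc => hRn (hCE hc) (hCF hc)
  let S : Subgroup G :=
    { carrier := {g | g ∈ C ∧ ∀ n ∈ N, g * n * g⁻¹ * n⁻¹ ∈ R}
      one_mem' := ⟨one_mem _, fun n _ => by
        have : 1 * n * 1⁻¹ * n⁻¹ = 1 := by group
        rw [this]; exact one_mem _⟩
      mul_mem' := by
        rintro x y ⟨hx, hx'⟩ ⟨hy, hy'⟩
        refine ⟨mul_mem hx hy, fun n hn => ?_⟩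
        have e : (x * y) * n * (x * y)⁻¹ * n⁻¹ = (x * (y * n * y⁻¹ * n⁻¹) * x⁻¹) * (x * n * x⁻¹ * n⁻¹) := by group
        rw [e]
        exact mul_mem ((mem_normalizer_iff.1 (hCR hx) _).1 (hy' n hn)) (hx' n hn)
      inv_mem' := by
        rintro x ⟨hx, hx'⟩
        refine ⟨inv_mem hx, fun n hn => ?_⟩
        have e : x⁻¹ * n * x⁻¹⁻¹ * n⁻¹ = x⁻¹ * (x * n * x⁻¹ * n⁻¹)⁻¹ * x⁻¹⁻¹ := by group
        rw [e]
        exact (mem_normalizer_iff.1 (inv_mem (hCR hx)) _).1 (inv_mem (hx' n hn)) }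
  have hSm : ∀ g, g ∈ S ↔ g ∈ C ∧ ∀ n ∈ N, g * n * g⁻¹ * n⁻¹ ∈ R := fun g => Iff.rfl
  have hSp : IsPGroup p S := by
    rw [← resOf_eq_bot_iff, eq_bot_iff, resOf_eq_closure, closure_le]
    rintro y ⟨hyS, hyc⟩
    obtain ⟨hyC, hyn⟩ := (hSm y).1 hyS
    obtain ⟨kE, kF⟩ := keyp hG hE hF (hQE.le.trans inf_le_right) (hQF.le.trans inf_le_right) hyC hyn
    let K : Subgroup G :=
      { carrier := {q | y * q * y⁻¹ * q⁻¹ ∈ V}
        one_mem' := by
          show y * 1 * y⁻¹ * 1⁻¹ ∈ V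
          have : y * 1 * y⁻¹ * 1⁻¹ = 1 := by group
          rw [this]; exact one_mem _
        mul_mem' := by
          intro a b ha hb
          show y * (a * b) * y⁻¹ * (a * b)⁻¹ ∈ V
          have e : y * (a * b) * y⁻¹ * (a * b)⁻¹ = (y * a * y⁻¹ * a⁻¹) * (a * (y * b * y⁻¹ * b⁻¹) * a⁻¹) := by group
          rw [e]
          exact mul_mem ha ((mem_normalizer_iff.1 (hVn a) _).1 hb)
        inv_mem' := by
          intro a ha
          show y * a⁻¹ * y⁻¹ * a⁻¹⁻¹ ∈ V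
          have e : y * a⁻¹ * y⁻¹ * a⁻¹⁻¹ = a⁻¹ * (y * a * y⁻¹ * a⁻¹)⁻¹ * a⁻¹⁻¹ := by group
          rw [e]
          exact (mem_normalizer_iff.1 (hVn a⁻¹) _).1 (inv_mem ha) }
    have hKm : ∀ q, q ∈ K ↔ y * q * y⁻¹ * q⁻¹ ∈ V := fun q => Iff.rfl
    have hRK : R ≤ K := sup_le kE kF
    -- powers of `y`
    let Y : Subgroup G :=
      { carrier := {g | g ∈ S ∧ ∀ q ∈ R, g * q * g⁻¹ * q⁻¹ ∈ V}
        one_mem' := ⟨one_mem _, fun n _ => by
          have : 1 * n * 1⁻¹ * n⁻¹ = 1 := by group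
          rw [this]; exact one_mem _⟩
        mul_mem' := by
          rintro a b ⟨ha, ha'⟩ ⟨hb, hb'⟩
          refine ⟨mul_mem ha hb, fun n hn => ?_⟩
          have e : (a * b) * n * (a * b)⁻¹ * n⁻¹ = (a * (b * n * b⁻¹ * n⁻¹) * a⁻¹) * (a * n * a⁻¹ * n⁻¹) := by group
          rw [e]
          exact mul_mem ((mem_normalizer_iff.1 (hVn a) _).1 (hb' n hn)) (ha' n hn)
        inv_mem' := by
          rintro a ⟨ha, ha'⟩
          refine ⟨inv_mem ha, fun n hn => ?_⟩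
          have e : a⁻¹ * n * a⁻¹⁻¹ * n⁻¹ = a⁻¹ * (a * n * a⁻¹ * n⁻¹)⁻¹ * a⁻¹⁻¹ := by group
          rw [e]
          exact (mem_normalizer_iff.1 (hVn a⁻¹) _).1 (inv_mem (ha' n hn)) }
    have hyY : y ∈ Y := ⟨hyS, fun q hq => hRK hq⟩
    have hNp : IsPGroup p N := isPGroup_pCore
    have hcop : ∀ K : Subgroup G, IsPGroup p K → (Nat.card (zpowers y)).Coprime (Nat.card K) := by
      intro K hK
      rw [Nat.card_zpowers]
      obtain ⟨m, hm⟩ := IsPGroup.iff_card.1 hK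
      rw [hm]
      exact Nat.Coprime.pow_right m hyc
    have hsolv : Group.IsSolvable (zpowers y) := by
      have : IsMulCommutative (zpowers y) := inferInstance
      exact isSolvable_of_comm (fun a b => this.is_comm.comm a b)
    have hzC : zpowers y ≤ C := by rw [zpowers_le]; exact hyC
    have a1 : ⁅N, zpowers y⁆ ≤ R := by
      rw [Subgroup.commutator_le]
      intro n hn z hz
      obtain ⟨m, rfl⟩ := mem_zpowers_iff.1 hz
      have h3 := ((hSm _).1 (S.zpow_mem hyS m)).2 n hn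
      have e1 : ⁅n, y ^ m⁆ = (y ^ m * n * (y ^ m)⁻¹ * n⁻¹)⁻¹ := by
        rw [commutatorElement_def]; group
      rw [e1]
      exact inv_mem h3
    have a2 : ⁅R, zpowers y⁆ ≤ V := by
      rw [Subgroup.commutator_le]
      intro n hn z hz
      obtain ⟨m, rfl⟩ := mem_zpowers_iff.1 hz
      have h3 := (Y.zpow_mem hyY m).2 n hn
      have e1 : ⁅n, y ^ m⁆ = (y ^ m * n * (y ^ m)⁻¹ * n⁻¹)⁻¹ := by
        rw [commutatorElement_def]; group
      rw [e1]
      exact inv_mem h3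
    have a3 : ⁅V, zpowers y⁆ = ⊥ := by
      rw [Subgroup.commutator_comm, Subgroup.commutator_eq_bot_iff_le_centralizer]
      exact hzC
    have a4 := le_centralizer_of_series (zpowers y) R V (hzC.trans fun c hc => hCR hc) (hcop R (hNp.to_le hRN))
      (Or.inl hsolv) a2 a3
    have a5 : ⁅R, zpowers y⁆ = ⊥ := by
      rw [Subgroup.commutator_comm, Subgroup.commutator_eq_bot_iff_le_centralizer]
      exact a4
    have hyN : zpowers y ≤ normalizer (N : Set G) := by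
      rw [Subgroup.normalizer_eq_top]; exact le_top
    have a6 := le_centralizer_of_series (zpowers y) N R hyN (hcop N hNp) (Or.inl hsolv) a1 a5
    have h4 : y ∈ N := hG (a6 (mem_zpowers y))
    obtain ⟨k, hk⟩ := hNp ⟨y, h4⟩
    have hk' : y ^ p ^ k = 1 := congrArg Subtype.val hk
    have h5 : orderOf y ∣ p ^ k := orderOf_dvd_of_pow_eq_one hk'
    have h6 := Nat.Coprime.eq_one_of_dvd (Nat.Coprime.pow_right k hyc) h5
    exact orderOf_eq_one_iff.1 h6
  have hFS : F ≤ E ⊔ S := by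
    intro f hf
    have h3 : f ∈ E ⊔ C := h1 hf
    obtain ⟨e, he, d, hd, rfl⟩ := (H13.Norm.mem_sup_of_le_normalizer' hCE).1 h3
    refine mul_mem (Subgroup.mem_sup_left he) (Subgroup.mem_sup_right ((hSm d).2 ⟨hd, fun n hn => ?_⟩))
    have h4 := hFn hf hn
    have h5 := hEn (inv_mem he) hn
    have e1 : d * n * d⁻¹ * n⁻¹ = (e⁻¹ * (e * d * n * (e * d)⁻¹ * n⁻¹) * e⁻¹⁻¹) * (e⁻¹ * n * e⁻¹⁻¹ * n⁻¹) := by group
    rw [e1]
    exact mul_mem ((mem_normalizer_iff.1 (hRn (Subgroup.le_normalizer (inv_mem he)) (hEF (inv_mem he))) _).1 h4) h5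
  have hres := H56.BmP.res_sup hE.1 hSp (fun s hs => hCE ((hSm s).1 hs).1)
  have h3 : F ≤ pResidualOf p (E ⊔ S) := by
    conv_lhs => rw [← hF.1]
    exact resOf_mono hFS
  rwa [hres] at h3

end H52.BB
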