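import Cfsg.Agent.Lib.H52.ClassTwo
import Cfsg.Prelude.Def_LocalEven

/-!
# From the non-existence of offenders to Thompson factorization

`NoOff G` : no offender on an elementary abelian normal 2-subgroup `V` of `G` with `O₂(G/C_G(V)) = 1`.
-/

set_option autoImplicit false

namespace H52.SFLast

open Subgroup H14.MaxIn Cfsg H38.Basic H52.SFour
open scoped commutatorElement

universe u

/-- no offenders -/
def NoOff (G : Type u) [Group G] : Prop :=
  ∀ (V : Subgroup G) [V.Normal], (∀ a ∈ V, ∀ b ∈ V, a * b = b * a) → (∀ a ∈ V, a * a = 1) →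
    (∀ N : Subgroup G, N.Normal → centralizer (V : Set G) ≤ N →
      IsPGroup 2 (N.map (QuotientGroup.mk' (centralizer (V : Set G)))) → N ≤ centralizer (V : Set G)) →
    ∀ A : Subgroup G, IsPGroup 2 A → ¬ IsFFOffenderOn 2 V A

variable {G : Type u} [Group G] [Finite G]

omit [Finite G] in
theorem fix_of_omega {V : Subgroup G} (hV : IsPGroup 2 V) (hVc : ∀ a ∈ V, ∀ b ∈ V, a * b = b * a)
    [hVn : V.Normal] {y : G} (hy : Odd (orderOf y)) (hf : ∀ v ∈ V, v * v = 1 → y * v = v * y) :
    ∀ v ∈ V, y * v = v * y := by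
  have key : ∀ k : ℕ, ∀ v ∈ V, v ^ 2 ^ k = 1 → y * v = v * y := by
    intro k
    induction k with
    | zero =>
      intro v _ h
      rw [pow_zero, pow_one] at h
      rw [h, mul_one, one_mul]
    | succ k ih =>
      intro v hv h
      have h1 : y * (v * v) = v * v * y := ih (v * v) (mul_mem hv hv) (by
        rw [← pow_two, ← pow_mul, mul_comm 2, ← pow_succ]; exact h)
      have hyv : y * v * y⁻¹ ∈ V := hVn.conj_mem v hv y
      set u := y * v * y⁻¹ * v⁻¹ with hu
      have huV : u ∈ V := mul_mem hyv (inv_mem hv)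
      have hu2 : u * u = 1 := by
        have h2 : y * v * y⁻¹ * v⁻¹ * (y * v * y⁻¹ * v⁻¹) = (y * v * y⁻¹) * (y * v * y⁻¹) * (v⁻¹ * v⁻¹) := by
          rw [mul_assoc (y * v * y⁻¹) v⁻¹, ← mul_assoc v⁻¹ (y * v * y⁻¹), hVc v⁻¹ (inv_mem hv) _ hyv]
          group
        have h3 : (y * v * y⁻¹) * (y * v * y⁻¹) = v * v := by
          have : (y * v * y⁻¹) * (y * v * y⁻¹) = y * (v * v) * y⁻¹ := by group
          rw [this, h1]; group
        rw [hu, h2, h3]; group
      have hyu : y * u = u * y := hf u huV hu2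
      have h4 : ∀ i : ℕ, y ^ i * v * (y ^ i)⁻¹ = u ^ i * v := by
        intro i
        induction i with
        | zero => rw [pow_zero, pow_zero, inv_one, mul_one]
        | succ i ihi =>
          have h5 : y * v * y⁻¹ = u * v := by rw [hu]; group
          have h6 : y ^ (i + 1) * v * (y ^ (i + 1))⁻¹ = y * (y ^ i * v * (y ^ i)⁻¹) * y⁻¹ := by
            rw [pow_succ', mul_inv_rev]; group
          have h7 : y * u ^ i = u ^ i * y := (show Commute y (u ^ i) from (show Commute y u from hyu).pow_right i)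
          rw [h6, ihi]
          calc y * (u ^ i * v) * y⁻¹ = (y * u ^ i) * v * y⁻¹ := by group
            _ = u ^ i * (y * v * y⁻¹) := by rw [h7]; group
            _ = u ^ (i + 1) * v := by rw [h5, pow_succ]; group
      have h8 := h4 (orderOf y)
      rw [pow_orderOf_eq_one, one_mul, inv_one, mul_one] at h8
      have h9 : u ^ orderOf y = 1 := by
        have := h8.symm
        rwa [mul_eq_right] at this
      obtain ⟨m, hm⟩ := hy
      have h10 : u = 1 := by
        rw [hm, pow_succ, pow_mul, pow_two, hu2, one_pow, one_mul] at h9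
        exact h9
      have h11 : y * v * y⁻¹ * v⁻¹ = 1 := h10
      calc y * v = (y * v * y⁻¹ * v⁻¹) * v * y := by group
        _ = v * y := by rw [h11]; group
  intro v hv
  obtain ⟨k, hk⟩ := hV ⟨v, hv⟩
  exact key k v hv (by simpa using congrArg Subtype.val hk)

/-- a power of two of every element has odd order -/
theorem exists_odd_pow (x : G) : ∃ k : ℕ, Odd (orderOf (x ^ 2 ^ k)) := by
  obtain ⟨k, m, hm, h⟩ := Nat.exists_eq_two_pow_mul_odd (n := orderOf x) (orderOf_pos x).ne'
  refine ⟨k, ?_⟩
  have h1 : orderOf (x ^ 2 ^ k) = m := by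
    rw [orderOf_pow, h, Nat.gcd_eq_right (Dvd.intro m rfl), Nat.mul_div_cancel_left _ (by positivity)]
  rw [h1]; exact hm

/-- **Thompson factorization from the absence of offenders** -/
theorem factor (hNO : NoOff G) (hc : centralizer (pCore 2 G : Set G) ≤ pCore 2 G) (S : Sylow 2 G) (x : G) :
    ∃ a ∈ centralizer (((S : Subgroup G) ⊓ centralizer ((S : Subgroup G) : Set G) : Subgroup G) : Set G),
      ∃ b ∈ normalizer (thompsonSubgroupOf 2 (S : Subgroup G) : Set G), x = a * b := by
  have h2p : Fact (Nat.Prime 2) := ⟨Nat.prime_two⟩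
  set Q := pCore 2 G with hQ
  have hQn : Q.Normal := inferInstance
  have hQp : IsPGroup 2 Q := H1.Cores.isPGroup_pCore 2
  have hQS : Q ≤ (S : Subgroup G) := H1.Cores.pCore_le_sylow S
  set Z := (S : Subgroup G) ⊓ centralizer ((S : Subgroup G) : Set G) with hZ
  have hZQ : Z ≤ Q ⊓ centralizer (Q : Set G) := by
    have h1 : Z ≤ centralizer (Q : Set G) := inf_le_right.trans (centralizer_le hQS)
    exact le_inf (h1.trans hc) h1
  -- the normal closure of the centre
  set U := normalClosure (Z : Set G) with hU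
  have hUn : U.Normal := normalClosure_normal
  have hZU : Z ≤ U := subset_normalClosure
  have hUZ : U ≤ Q ⊓ centralizer (Q : Set G) := normalClosure_le_normal hZQ
  have hUc : ∀ a ∈ U, ∀ b ∈ U, a * b = b * a := fun a ha b hb =>
    mem_centralizer_iff.1 (mem_inf.1 (hUZ hb)).2 a (mem_inf.1 (hUZ ha)).1
  have hUp : IsPGroup 2 U := hQp.to_le (hUZ.trans inf_le_left)
  set C' := centralizer (U : Set G) with hC'
  have hC'n : C'.Normal := inferInstance
  have hker' : (QuotientGroup.mk' C').ker = C' := QuotientGroup.ker_mk' C'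
  -- `O₂(G/C') = 1`
  have hO : ∀ N : Subgroup G, N.Normal → C' ≤ N → IsPGroup 2 (N.map (QuotientGroup.mk' C')) → N ≤ C' := by
    intro N hN hCN hp
    set P0 := (S : Subgroup G) ⊓ N with hP0
    have hsyl : IsSyl 2 P0 N := (isSyl_sylow S).inf_normal le_top (by rw [normalizer_eq_top])
    have hNe : N ≤ C' ⊔ P0 := by
      obtain ⟨k, hk⟩ := hp.exists_card_eq
      have h1 : C'.relIndex N = 2 ^ k := by
        rw [← hk, ← Subgroup.relIndex_ker, hker']
      have h2 : (C' ⊔ P0).relIndex N ∣ 2 ^ k := by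
        rw [← h1]; exact relIndex_dvd_of_le_left N le_sup_left
      have h3 : (C' ⊔ P0).relIndex N ∣ P0.relIndex N := relIndex_dvd_of_le_left N le_sup_right
      obtain ⟨j, _, hj⟩ := (Nat.dvd_prime_pow Nat.prime_two).1 h2
      have h4 : (C' ⊔ P0).relIndex N = 1 := by
        rcases Nat.eq_zero_or_pos j with h0 | h0
        · rw [hj, h0, pow_zero]
        · exfalso
          apply hsyl.2.2
          refine dvd_trans ?_ h3
          rw [hj]
          exact dvd_pow_self 2 (by omega)
      exact relIndex_eq_one.1 h4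
    have hP0C : P0 ≤ C' := by
      have h1 : U ≤ centralizer (P0 : Set G) := by
        rw [hU, normalClosure, closure_le]
        intro w hw
        obtain ⟨z, hz, hzw⟩ := Group.mem_conjugatesOfSet_iff.1 hw
        obtain ⟨g, hg⟩ := isConj_iff.1 hzw
        rw [← hg]
        obtain ⟨c, hcN, n, hn, hgn⟩ := H13.SylowN.frattini_mem S N g⁻¹
        -- `g = n⁻¹ c⁻¹`
        have hc2 : c⁻¹ ∈ C' ⊔ P0 := hNe (inv_mem hcN)
        rw [mem_sup_of_normal_left] at hc2
        obtain ⟨d, hd, e, he, hde⟩ := hc2
        have hez : e * z = z * e := (mem_centralizer_iff.1 (mem_inf.1 hz).2 e (mem_inf.1 he).1)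
        have hdz : d * z = z * d := (mem_centralizer_iff.1 hd z (hZU hz)).symm
        have hg2 : g * z * g⁻¹ = n⁻¹ * z * n := by
          have h2 : g = n⁻¹ * c⁻¹ := by rw [← inv_inv g, hgn, mul_inv_rev]
          rw [h2, ← hde]
          have h3 : n⁻¹ * (d * e) * z * (n⁻¹ * (d * e))⁻¹ = n⁻¹ * (d * (e * z * e⁻¹) * d⁻¹) * n := by group
          rw [h3, hez]
          have h4 : z * e * e⁻¹ = z := by group
          rw [h4, hdz]; group
        rw [hg2, SetLike.mem_coe, mem_centralizer_iff]
        intro y hy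
        have h5 : n * y * n⁻¹ ∈ P0 := (mem_normalizer_iff.1 hn y).1 hy
        have h6 : (n * y * n⁻¹) * z = z * (n * y * n⁻¹) := mem_centralizer_iff.1 (mem_inf.1 hz).2 _ (mem_inf.1 h5).1
        calc y * (n⁻¹ * z * n) = n⁻¹ * ((n * y * n⁻¹) * z) * n := by group
          _ = n⁻¹ * z * n * y := by rw [h6]; group
      intro y hy
      rw [hC', mem_centralizer_iff]
      intro u hu
      exact (mem_centralizer_iff.1 (h1 hu) y hy).symm
    exact hNe.trans (sup_le le_rfl hP0C)
  -- the involutions
  let V : Subgroup G :=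
    { carrier := {x | x ∈ U ∧ x * x = 1}
      one_mem' := ⟨one_mem _, one_mul 1⟩
      mul_mem' := by
        rintro x y ⟨hx, hx2⟩ ⟨hy, hy2⟩
        refine ⟨mul_mem hx hy, ?_⟩
        have h1 := hUc x hx y hy
        calc x * y * (x * y) = x * (y * x) * y := by group
          _ = (x * x) * (y * y) := by rw [← h1]; group
          _ = 1 := by rw [hx2, hy2, one_mul]
      inv_mem' := by
        rintro x ⟨hx, hx2⟩
        refine ⟨inv_mem hx, ?_⟩
        rw [← mul_inv_rev, hx2, inv_one] }
  have hVU : V ≤ U := fun x hx => hx.1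
  have hVn : V.Normal := ⟨fun v hv g => ⟨hUn.conj_mem v hv.1 g, by
    have : g * v * g⁻¹ * (g * v * g⁻¹) = g * (v * v) * g⁻¹ := by group
    rw [this, hv.2]; group⟩⟩
  set C := centralizer (V : Set G) with hC
  have hCn : C.Normal := inferInstance
  have hC'C : C' ≤ C := centralizer_le hVU
  have hCC' : C ≤ C' := by
    apply hO C hCn hC'C
    rw [IsPGroup]
    rintro ⟨_, x, hx, rfl⟩
    obtain ⟨k, hk⟩ := exists_odd_pow x
    refine ⟨k, ?_⟩
    apply Subtype.ext
    show (QuotientGroup.mk' C' x) ^ 2 ^ k = 1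
    rw [← map_pow]
    apply (QuotientGroup.eq_one_iff _).2
    rw [hC', mem_centralizer_iff]
    intro u hu
    apply Eq.symm
    refine fix_of_omega hUp hUc hk ?_ u hu
    intro v hv hv2
    exact (mem_centralizer_iff.1 (pow_mem hx _) v ⟨hv, hv2⟩).symm
  have hCeq : C = C' := le_antisymm hCC' hC'C
  have hVc : V ≤ centralizer (V : Set G) := by
    intro a ha
    rw [mem_centralizer_iff]
    intro b hb
    exact hUc b (hVU hb) a (hVU ha)
  have hVS : V ≤ (S : Subgroup G) := hVU.trans ((hUZ.trans inf_le_left).trans hQS)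
  -- the Thompson subgroup centralizes `V`
  have hJ : thompsonSubgroupOf 2 (S : Subgroup G) ≤ C := by
    rw [thompsonOf_le_iff]
    intro A hA
    by_contra hAC
    refine hNO V (fun a ha b hb => hUc a (hVU ha) b (hVU hb)) (fun a ha => ha.2) ?_ A (S.2.to_le hA.1) ?_
    · intro N hN hCN hp
      have h1 : N ≤ C' := by
        apply hO N hN (hC'C.trans hCN)
        have h2 : ∀ D : Subgroup G, (hD : D.Normal) → C = D → IsPGroup 2 (N.map (QuotientGroup.mk' D)) := by
          intro D hD h; subst h; exact hp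
        exact h2 C' hC'n hCeq
      exact h1.trans hC'C
    · have hAc : ∀ x ∈ A, ∀ y ∈ A, x * y = y * x := fun x hx y hy => hA.2.1.comm hx hy
      have hA2 : ∀ a ∈ A, a ^ 2 = 1 := fun a ha => hA.2.1.2 rfl a ha
      refine ⟨le_normalizer_of_normal, ?_, ?_, hAC, ?_⟩
      · have h1 : ⁅A, A⁆ = ⊥ := by
          rw [commutator_eq_bot_iff_le_centralizer]
          intro x hx
          rw [mem_centralizer_iff]
          intro y hy
          exact hAc y hy x hx
        rw [h1]; exact bot_le
      · intro a ha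
        rw [hA2 a ha]; exact one_mem _
      · have h1 := H52.ClassTwo.best_of_maxIn hA hVS hVc (fun v hv => by rw [pow_two]; exact hv.2)
          (B := A ⊓ centralizer (V : Set G)) inf_le_left
        have h2 : V ⊓ centralizer ((A ⊓ centralizer (V : Set G) : Subgroup G) : Set G) = V := by
          rw [inf_eq_left]
          intro v hv
          rw [mem_centralizer_iff]
          intro y hy
          exact (mem_centralizer_iff.1 (mem_inf.1 hy).2 v hv).symm
        rw [h2, mul_comm] at h1
        exact h1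
  -- the Frattini argument
  have hTJ : thompsonSubgroupOf 2 ((S : Subgroup G) ⊓ C) = thompsonSubgroupOf 2 (S : Subgroup G) :=
    H52.SFour2.thompsonOf_eq_of_le (le_inf (H13.SylowN.thompsonOf_le _) hJ) inf_le_left
  obtain ⟨c, hcC, n, hn, rfl⟩ := H13.SylowN.frattini_mem S C x
  refine ⟨c, ?_, n, ?_, rfl⟩
  · exact centralizer_le hZU (hCC' hcC)
  · rw [← hTJ]
    exact H13.SylowN.normalizer_le_normalizer_thompsonOf _ hn

end H52.SFLast
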