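import Cfsg.Agent.Lib.H52.EG2
import Cfsg.Agent.Lib.H52.SFLast
import Cfsg.Agent.Lib.H51.Transvection
import Cfsg.Prelude.Def_Local

/-!
# The reduced normal subgroup above the centre of a Sylow subgroup
-/

set_option autoImplicit false
set_option linter.unusedVariables false
set_option linter.unusedSectionVars false

namespace H52.EGr

open Subgroup Cfsg H14.GF H14.MaxIn H38.Basic H52.SFLast H52.SFour
open scoped commutatorElement

universe u

section

variable {G : Type u} [Group G] [Finite G]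

/-- the normal subgroup `V` -/
theorem exists_V (hc : centralizer (pCore 2 G : Set G) ≤ pCore 2 G) (S : Sylow 2 G) :
    ∃ V : Subgroup G, V.Normal ∧ EL V ∧ V ≤ (S : Subgroup G) ∧
      centralizer (V : Set G) ≤ centralizer (((S : Subgroup G) ⊓ centralizer ((S : Subgroup G) : Set G) : Subgroup G) : Set G) ∧
      ∀ N : Subgroup G, N.Normal → centralizer (V : Set G) ≤ N → ∀ (D : Subgroup G) (hD : D.Normal), D = centralizer (V : Set G) →
        IsPGroup 2 (N.map (QuotientGroup.mk' D)) → N ≤ centralizer (V : Set G) := by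
  have h2p : Fact (Nat.Prime 2) := ⟨Nat.prime_two⟩
  set Q := pCore 2 G with hQ
  have hQn : Q.Normal := inferInstance
  have hQp : IsPGroup 2 Q := H1.Cores.isPGroup_pCore 2
  have hQS : Q ≤ (S : Subgroup G) := H1.Cores.pCore_le_sylow S
  set Z := (S : Subgroup G) ⊓ centralizer ((S : Subgroup G) : Set G) with hZ
  have hZQ : Z ≤ Q ⊓ centralizer (Q : Set G) := by
    have h1 : Z ≤ centralizer (Q : Set G) := inf_le_right.trans (centralizer_le hQS)
    exact le_inf (h1.trans hc) h1
  -- the normal closure of the centre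
  set U := normalClosure (Z : Set G) with hU
  have hUn : U.Normal := normalClosure_normal
  have hZU : Z ≤ U := subset_normalClosure
  have hUZ : U ≤ Q ⊓ centralizer (Q : Set G) := normalClosure_le_normal hZQ
  have hUc : ∀ a ∈ U, ∀ b ∈ U, a * b = b * a := fun a ha b hb =>
    mem_centralizer_iff.1 (mem_inf.1 (hUZ hb)).2 a (mem_inf.1 (hUZ ha)).1
  have hUp : IsPGroup 2 U := hQp.to_le (hUZ.trans inf_le_left)
  set C' := centralizer (U : Set G) with hC'
  have hC'n : C'.Normal := inferInstance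
  have hker' : (QuotientGroup.mk' C').ker = C' := QuotientGroup.ker_mk' C'
  -- `O₂(G/C') = 1`
  have hO : ∀ N : Subgroup G, N.Normal → C' ≤ N → IsPGroup 2 (N.map (QuotientGroup.mk' C')) → N ≤ C' := by
    intro N hN hCN hp
    set P0 := (S : Subgroup G) ⊓ N with hP0
    have hsyl : IsSyl 2 P0 N := (isSyl_sylow S).inf_normal le_top (by rw [normalizer_eq_top])
    have hNe : N ≤ C' ⊔ P0 := by
      obtain ⟨k, hk⟩ := hp.exists_card_eq
      have h1 : C'.relIndex N = 2 ^ k := by
        rw [← hk, ← Subgroup.relIndex_ker, hker']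
      have h2 : (C' ⊔ P0).relIndex N ∣ 2 ^ k := by
        rw [← h1]; exact relIndex_dvd_of_le_left N le_sup_left
      have h3 : (C' ⊔ P0).relIndex N ∣ P0.relIndex N := relIndex_dvd_of_le_left N le_sup_right
      obtain ⟨j, _, hj⟩ := (Nat.dvd_prime_pow Nat.prime_two).1 h2
      have h4 : (C' ⊔ P0).relIndex N = 1 := by
        rcases Nat.eq_zero_or_pos j with h0 | h0
        · rw [hj, h0, pow_zero]
        · exfalso
          apply hsyl.2.2
          refine dvd_trans ?_ h3
          rw [hj]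
          exact dvd_pow_self 2 (by omega)
      exact relIndex_eq_one.1 h4
    have hP0C : P0 ≤ C' := by
      have h1 : U ≤ centralizer (P0 : Set G) := by
        rw [hU, normalClosure, closure_le]
        intro w hw
        obtain ⟨z, hz, hzw⟩ := Group.mem_conjugatesOfSet_iff.1 hw
        obtain ⟨g, hg⟩ := isConj_iff.1 hzw
        rw [← hg]
        obtain ⟨c, hcN, n, hn, hgn⟩ := H13.SylowN.frattini_mem S N g⁻¹
        -- `g = n⁻¹ c⁻¹`
        have hc2 : c⁻¹ ∈ C' ⊔ P0 := hNe (inv_mem hcN)
        rw [mem_sup_of_normal_left] at hc2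
        obtain ⟨d, hd, e, he, hde⟩ := hc2
        have hez : e * z = z * e := (mem_centralizer_iff.1 (mem_inf.1 hz).2 e (mem_inf.1 he).1)
        have hdz : d * z = z * d := (mem_centralizer_iff.1 hd z (hZU hz)).symm
        have hg2 : g * z * g⁻¹ = n⁻¹ * z * n := by
          have h2 : g = n⁻¹ * c⁻¹ := by rw [← inv_inv g, hgn, mul_inv_rev]
          rw [h2, ← hde]
          have h3 : n⁻¹ * (d * e) * z * (n⁻¹ * (d * e))⁻¹ = n⁻¹ * (d * (e * z * e⁻¹) * d⁻¹) * n := by group
          rw [h3, hez]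
          have h4 : z * e * e⁻¹ = z := by group
          rw [h4, hdz]; group
        rw [hg2, SetLike.mem_coe, mem_centralizer_iff]
        intro y hy
        have h5 : n * y * n⁻¹ ∈ P0 := (mem_normalizer_iff.1 hn y).1 hy
        have h6 : (n * y * n⁻¹) * z = z * (n * y * n⁻¹) := mem_centralizer_iff.1 (mem_inf.1 hz).2 _ (mem_inf.1 h5).1
        calc y * (n⁻¹ * z * n) = n⁻¹ * ((n * y * n⁻¹) * z) * n := by group
          _ = n⁻¹ * z * n * y := by rw [h6]; group
      intro y hy
      rw [hC', mem_centralizer_iff]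
      intro u hu
      exact (mem_centralizer_iff.1 (h1 hu) y hy).symm
    exact hNe.trans (sup_le le_rfl hP0C)
  -- the involutions
  let V : Subgroup G :=
    { carrier := {x | x ∈ U ∧ x * x = 1}
      one_mem' := ⟨one_mem _, one_mul 1⟩
      mul_mem' := by
        rintro x y ⟨hx, hx2⟩ ⟨hy, hy2⟩
        refine ⟨mul_mem hx hy, ?_⟩
        have h1 := hUc x hx y hy
        calc x * y * (x * y) = x * (y * x) * y := by group
          _ = (x * x) * (y * y) := by rw [← h1]; group
          _ = 1 := by rw [hx2, hy2, one_mul]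
      inv_mem' := by
        rintro x ⟨hx, hx2⟩
        refine ⟨inv_mem hx, ?_⟩
        rw [← mul_inv_rev, hx2, inv_one] }
  have hVU : V ≤ U := fun x hx => hx.1
  have hVn : V.Normal := ⟨fun v hv g => ⟨hUn.conj_mem v hv.1 g, by
    have : g * v * g⁻¹ * (g * v * g⁻¹) = g * (v * v) * g⁻¹ := by group
    rw [this, hv.2]; group⟩⟩
  set C := centralizer (V : Set G) with hC
  have hCn : C.Normal := inferInstance
  have hC'C : C' ≤ C := centralizer_le hVU
  have hCC' : C ≤ C' := by
    apply hO C hCn hC'C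
    rw [IsPGroup]
    rintro ⟨_, x, hx, rfl⟩
    obtain ⟨k, hk⟩ := exists_odd_pow x
    refine ⟨k, ?_⟩
    apply Subtype.ext
    show (QuotientGroup.mk' C' x) ^ 2 ^ k = 1
    rw [← map_pow]
    apply (QuotientGroup.eq_one_iff _).2
    rw [hC', mem_centralizer_iff]
    intro u hu
    apply Eq.symm
    refine fix_of_omega hUp hUc hk ?_ u hu
    intro v hv hv2
    exact (mem_centralizer_iff.1 (pow_mem hx _) v ⟨hv, hv2⟩).symm
  have hCeq : C = C' := le_antisymm hCC' hC'C
  have hVc : V ≤ centralizer (V : Set G) := by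
    intro a ha
    rw [mem_centralizer_iff]
    intro b hb
    exact hUc b (hVU hb) a (hVU ha)
  have hVS : V ≤ (S : Subgroup G) := hVU.trans ((hUZ.trans inf_le_left).trans hQS)
  refine ⟨V, hVn, ⟨fun a ha b hb => hUc a (hVU ha) b (hVU hb), fun a ha => ha.2⟩, hVS, ?_, ?_⟩
  · exact hCC'.trans (centralizer_le hZU)
  · intro N hN hCN D hD hDC hp
    have h1 : N ≤ C' := by
      apply hO N hN (hC'C.trans hCN)
      have h2 : ∀ D' : Subgroup G, (hD' : D'.Normal) → D = D' → IsPGroup 2 (N.map (QuotientGroup.mk' D')) := by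
        intro D' hD' h; subst h; exact hp
      exact h2 C' hC'n (hDC.trans hCeq)
    exact h1.trans hC'C

end

section tt

/-- invariance of a predicate under isomorphism -/
def Inv (P : ∀ (X : Type u) [Group X], Prop) : Prop :=
  ∀ (X Y : Type u) [Group X] [Group Y], (X ≃* Y) → P X → P Y

theorem inv_TT : Inv.{u} (fun X _ => IsSuzukiOrPSL2OddPowerThree X) := by
  intro X Y _ _ e h
  rcases h with ⟨F, i1, i2, m, h1, h2, ⟨f⟩⟩ | ⟨F, i1, i2, n, h1, ⟨f⟩⟩
  · exact Or.inl ⟨F, i1, i2, m, h1, h2, ⟨e.symm.trans f⟩⟩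
  · exact Or.inr ⟨F, i1, i2, n, h1, ⟨e.symm.trans f⟩⟩

theorem comp_of_surj {P : ∀ (X : Type u) [Group X], Prop} (hP : Inv.{u} P) {G H : Type u} [Group G] [Group H]
    (f : G →* H) (hf : Function.Surjective f) (h : IsCompositionKGroupWith P G) : IsCompositionKGroupWith P H := by
  intro K hK N hN hs hna
  let K1 := K.comap f
  let θ : ↥K1 →* ↥K := (f.comp K1.subtype).codRestrict K (fun x => x.2)
  have hθ : Function.Surjective θ := by
    rintro ⟨y, hy⟩
    obtain ⟨x, rfl⟩ := hf y
    exact ⟨⟨x, hy⟩, rfl⟩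
  have hN' : (N.comap θ).Normal := hN.comap θ
  let g : ↥K1 →* ↥K ⧸ N := (QuotientGroup.mk' N).comp θ
  have hg : Function.Surjective g := (QuotientGroup.mk'_surjective N).comp hθ
  have hk : N.comap θ = g.ker := by
    rw [← MonoidHom.comap_ker, QuotientGroup.ker_mk']
  let e : (↥K1 ⧸ N.comap θ) ≃* (↥K ⧸ N) :=
    (QuotientGroup.quotientMulEquivOfEq hk).trans (QuotientGroup.quotientKerEquivOfSurjective g hg)
  have h1 : IsSimpleGroup (↥K1 ⧸ N.comap θ) := by
    have : Nontrivial (↥K1 ⧸ N.comap θ) := e.toEquiv.nontrivial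
    exact IsSimpleGroup.isSimpleGroup_of_surjective e.symm.toMonoidHom e.symm.surjective
  have h2 : ¬ IsMulCommutative (↥K1 ⧸ N.comap θ) := by
    intro hc
    apply hna
    refine ⟨⟨fun x y => ?_⟩⟩
    apply e.symm.injective
    rw [map_mul, map_mul]
    exact hc.is_comm.comm _ _
  exact hP _ _ e (h K1 (hK.comap f) (N.comap θ) h1 h2)

end tt

end H52.EGr
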