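import Cfsg.Agent.Lib.H52.SB0
import Cfsg.Agent.Lib.H51.Involves
import Cfsg.Agent.Lib.H51.NAct
import Cfsg.Agent.Lib.H14.SFS4

/-!
# The section bound for Glauberman's 2-factorization: the group part
-/

set_option autoImplicit false
set_option linter.style.haveILetI false
set_option linter.unusedVariables false

namespace H52.SB

open Subgroup Cfsg

section one

variable {Γ : Type*} [Group Γ] [Finite Γ]

theorem sb0 {Y : Subgroup Γ} (hab : ∀ a ∈ Y, ∀ b ∈ Y, a * b = b * a) (hsq : ∀ a ∈ Y, a * a = 1) {v x : Γ}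
    (hv : v ∈ normalizer (Y : Set Γ)) (hx : x ∈ normalizer (Y : Set Γ)) (hvv : v * v = 1) (hvx : v * x * v⁻¹ = x⁻¹)
    (hxo : Odd (orderOf x)) (hnt : ∃ w ∈ Y, x * w * x⁻¹ ≠ w) :
    ∃ l d : ℕ, l.Prime ∧ l ∣ orderOf x ∧ 0 < d ∧ l ∣ 2 ^ (2 * d) - 1 ∧
      (∀ D : Subgroup Γ, (∀ w ∈ Y, v * w * v⁻¹ * w⁻¹ ∈ D) → 2 ^ d ≤ Nat.card D) ∧
      (∀ C ≤ Y, (∀ c ∈ C, v * c * v⁻¹ = c) → 2 ^ d * Nat.card C ≤ Nat.card Y) ∧
      (¬ Involves (Equiv.Perm (Fin 4)) Γ → 2 ≤ d) := by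
  letI iU : AddCommGroup (Additive ↥Y) := H51.NAct.addV Y hab
  let θ : MulAut ↥Y := Y.normalizerMonoidHom ⟨x, hx⟩
  have hθ : ∀ w : ↥Y, ((θ w : ↥Y) : Γ) = x * w * x⁻¹ := fun w => rfl
  have hθ1 : θ ≠ 1 := by
    intro h
    obtain ⟨w, hw, hw'⟩ := hnt
    apply hw'
    have h1 := hθ ⟨w, hw⟩
    rw [h] at h1
    exact h1.symm
  have hdvd : orderOf θ ∣ orderOf x := by
    have h1 : orderOf θ ∣ orderOf (⟨x, hx⟩ : normalizer (Y : Set Γ)) := orderOf_map_dvd _ _
    rwa [Subgroup.orderOf_mk] at h1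
  have hθo : orderOf θ ≠ 0 := (orderOf_pos θ).ne'
  set l := (orderOf θ).minFac with hl
  have hlp : l.Prime := Nat.minFac_prime (fun h => hθ1 (orderOf_eq_one_iff.1 h))
  have hld : l ∣ orderOf θ := Nat.minFac_dvd _
  have hlx : l ∣ orderOf x := hld.trans hdvd
  have hl2 : l ≠ 2 := by
    intro h
    rw [h] at hlx
    exact (Nat.not_even_iff_odd.2 hxo) (even_iff_two_dvd.2 hlx)
  set n := orderOf θ / l with hn
  have hol : orderOf (θ ^ n) = l := orderOf_pow_orderOf_div hθo hld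
  set y := x ^ n with hy
  have hyN : y ∈ normalizer (Y : Set Γ) := pow_mem hx n
  have hvy : v * y * v⁻¹ = y⁻¹ := by rw [hy, ← conj_pow, hvx, inv_pow]
  let τ : MulAut ↥Y := Y.normalizerMonoidHom ⟨y, hyN⟩
  have hτ : τ = θ ^ n := by
    show Y.normalizerMonoidHom ⟨y, hyN⟩ = (Y.normalizerMonoidHom ⟨x, hx⟩) ^ n
    rw [← map_pow]; rfl
  let α : MulAut ↥Y := Y.normalizerMonoidHom ⟨v, hv⟩
  let X : Additive ↥Y →+ Additive ↥Y := MonoidHom.toAdditive τ.toMonoidHom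
  let A : Additive ↥Y →+ Additive ↥Y := MonoidHom.toAdditive α.toMonoidHom
  have hXc : ∀ u : Additive ↥Y, (((X u).toMul : ↥Y) : Γ) = y * (u.toMul : ↥Y) * y⁻¹ := fun u => rfl
  have hAc : ∀ u : Additive ↥Y, (((A u).toMul : ↥Y) : Γ) = v * (u.toMul : ↥Y) * v⁻¹ := fun u => rfl
  have hext : ∀ u w : Additive ↥Y, ((u.toMul : ↥Y) : Γ) = (w.toMul : ↥Y) → u = w :=
    fun u w h => Additive.toMul.injective (Subtype.ext h)
  have h2 : ∀ u : Additive ↥Y, u + u = 0 := fun u => hext _ _ (hsq _ (u.toMul).2)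
  have hX : ∀ u, X^[l] u = u := by
    have h1 : ∀ k : ℕ, ∀ u : Additive ↥Y, X^[k] u = Additive.ofMul ((τ ^ k) u.toMul) := by
      intro k
      induction k with
      | zero => intro u; rfl
      | succ k ih =>
        intro u
        rw [Function.iterate_succ_apply, ih, pow_succ]
        rfl
    intro u
    rw [h1, hτ]
    have h3 : (θ ^ n) ^ l = 1 := by rw [← hol]; exact pow_orderOf_eq_one _
    rw [h3]; rfl
  have hvi : v⁻¹ = v := inv_eq_of_mul_eq_one_left hvv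
  have hvy' : v * y = y⁻¹ * v := by rw [← hvy]; group
  have hyv : y * v * y = v := by rw [mul_assoc, hvy', mul_inv_cancel_left]
  have hA : ∀ u, A (A u) = u := by
    intro u
    apply hext
    rw [hAc, hAc]
    calc v * (v * (u.toMul : ↥Y) * v⁻¹) * v⁻¹ = (v * v) * (u.toMul : ↥Y) * (v * v)⁻¹ := by group
      _ = _ := by rw [hvv]; group
  have hXA : ∀ u, X (A (X u)) = A u := by
    intro u
    apply hext
    rw [hXc, hAc, hXc, hAc]
    calc y * (v * (y * (u.toMul : ↥Y) * y⁻¹) * v⁻¹) * y⁻¹ = (y * v * y) * (u.toMul : ↥Y) * (y * v * y)⁻¹ := by group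
      _ = _ := by rw [hyv]
  have hne : ∃ u, X u ≠ u := by
    by_contra hcon
    push Not at hcon
    have h1 : τ = 1 := by
      ext w
      exact congrArg (fun z : Additive ↥Y => ((z.toMul : ↥Y) : Γ)) (hcon (Additive.ofMul w))
    rw [hτ] at h1
    rw [h1, orderOf_one] at hol
    exact hlp.one_lt.ne hol
  obtain ⟨d, hd, hdiv, hcard, hd1⟩ := lemL' (U := Additive ↥Y) h2 X A hlp hl2 hX hA hXA hne
  have hCU : ∀ C ≤ Y, (∀ c ∈ C, v * c * v⁻¹ = c) → Nat.card C ≤ Nat.card {u : Additive ↥Y // A u = u} := by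
    intro C hCY hC
    refine Nat.card_le_card_of_injective
      (fun c : C => (⟨Additive.ofMul ⟨c, hCY c.2⟩, hext _ _ (hC c c.2)⟩ : {u : Additive ↥Y // A u = u})) ?_
    intro a b h
    have h1 := congrArg (fun z : {u : Additive ↥Y // A u = u} => (((z : Additive ↥Y).toMul : ↥Y) : Γ)) h
    exact Subtype.ext h1
  have hcY : Nat.card (Additive ↥Y) = Nat.card Y := rfl
  refine ⟨l, d, hlp, hlx, hd, hdiv, ?_, ?_, ?_⟩
  · intro D hD
    have h1 := (A - AddMonoidHom.id (Additive ↥Y)).ker.card_mul_index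
    rw [AddSubgroup.index_ker] at h1
    have h4 : Nat.card (A - AddMonoidHom.id (Additive ↥Y)).ker = Nat.card {u : Additive ↥Y // A u = u} := by
      refine Nat.card_congr ⟨fun z => ⟨z.1, sub_eq_zero.1 z.2⟩, fun z => ⟨z.1, sub_eq_zero.2 z.2⟩,
        fun z => rfl, fun z => rfl⟩
    have h5 : Nat.card (A - AddMonoidHom.id (Additive ↥Y)).range ≤ Nat.card D := by
      refine Nat.card_le_card_of_injective
        (fun z : (A - AddMonoidHom.id (Additive ↥Y)).range => (⟨(((z : Additive ↥Y).toMul : ↥Y) : Γ), ?_⟩ : D)) ?_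
      · obtain ⟨w, hw⟩ := z.2
        rw [← hw]
        have h6 := hD (w.toMul : ↥Y) (w.toMul).2
        have h7 : ((((A - AddMonoidHom.id (Additive ↥Y)) w).toMul : ↥Y) : Γ) = v * (w.toMul : ↥Y) * v⁻¹ * ((w.toMul : ↥Y) : Γ)⁻¹ := by
          rw [AddMonoidHom.sub_apply, sub_eq_add_neg]
          rfl
        rw [h7]; exact h6
      · intro a b h
        have h1 := congrArg Subtype.val h
        exact Subtype.ext (hext _ _ h1)
    have h6 : 0 < Nat.card {u : Additive ↥Y // A u = u} := by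
      rw [← h4]; exact Nat.card_pos
    rw [← h1, h4] at hcard
    have h7 : 2 ^ d ≤ Nat.card (A - AddMonoidHom.id (Additive ↥Y)).range := by
      apply Nat.le_of_mul_le_mul_right _ h6
      rw [mul_comm (Nat.card (A - AddMonoidHom.id (Additive ↥Y)).range)]
      exact hcard
    exact h7.trans h5
  · intro C hCY hC
    rw [← hcY]
    exact (Nat.mul_le_mul_left _ (hCU C hCY hC)).trans hcard
  · intro hfree
    by_contra hlt
    have hd' : d = 1 := by omega
    obtain ⟨c, hc0, hcA, hcX, hcX1⟩ := hd1 hd'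
    apply hfree
    set c' : Γ := ((c.toMul : ↥Y) : Γ) with hc'
    have hcY : c' ∈ Y := (c.toMul).2
    have e1 : v * c' * v⁻¹ = c' := by
      have := congrArg (fun z : Additive ↥Y => ((z.toMul : ↥Y) : Γ)) hcA
      exact this
    have e2 : y * (y * c' * y⁻¹) * y⁻¹ = c' * (y * c' * y⁻¹) := by
      have := congrArg (fun z : Additive ↥Y => ((z.toMul : ↥Y) : Γ)) hcX
      exact this
    have e3 : y * c' * y⁻¹ ≠ c' := by
      intro h
      exact hcX1 (hext _ _ h)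
    have e0 : c' ≠ 1 := fun h => hc0 (hext _ _ h)
    have hwY : y * c' * y⁻¹ ∈ Y := (mem_normalizer_iff.1 hyN c').1 hcY
    have hcc : c' * c' = 1 := hsq c' hcY
    have hww : (y * c' * y⁻¹) * (y * c' * y⁻¹) = 1 := hsq _ hwY
    have hcw : (c' * (y * c' * y⁻¹)) * (c' * (y * c' * y⁻¹)) = 1 := hsq _ (mul_mem hcY hwY)
    have e4 : y⁻¹ * c' * y = c' * (y * c' * y⁻¹) := by
      have h3 : y * c' * y⁻¹ = (y⁻¹ * c' * y) * c' := by
        calc y * c' * y⁻¹ = y⁻¹ * (y * (y * c' * y⁻¹) * y⁻¹) * y := by group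
          _ = y⁻¹ * (c' * (y * c' * y⁻¹)) * y := by rw [e2]
          _ = _ := by group
      have h4 : c' * (y * c' * y⁻¹) = (y * c' * y⁻¹) * c' := hab _ hcY _ hwY
      calc y⁻¹ * c' * y = ((y⁻¹ * c' * y) * c') * c' := by rw [mul_assoc _ c' c', hcc, mul_one]
        _ = (y * c' * y⁻¹) * c' := by rw [← h3]
        _ = _ := h4.symm
    have hyv2 : v * y⁻¹ = y * v := by
      have : v * y * v⁻¹ = y⁻¹ := hvy
      calc v * y⁻¹ = v * (v * y * v⁻¹) := by rw [this]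
        _ = (v * v) * y * v⁻¹ := by group
        _ = y * v := by rw [hvv, hvi, one_mul]
    refine H14.SFS4.involves_S4_of_pair (Y := Y) (Z := ⊥) hab hsq bot_le (u := c') (w := y * c' * y⁻¹)
      (r := y * v * y⁻¹) (s := v) hcY hwY (by rwa [mem_bot]) ?_ ?_ ?_ ?_ ?_ ?_ ?_ ?_
    · rw [mem_bot]
      intro h
      apply e0
      calc c' = y⁻¹ * (y * c' * y⁻¹) * y := by group
        _ = 1 := by rw [h]; group
    · rw [mem_bot]
      intro h
      apply e3
      have h1 : y * c' * y⁻¹ = c'⁻¹ := eq_inv_of_mul_eq_one_right h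
      rw [h1, inv_eq_of_mul_eq_one_left hcc]
    · rw [mem_normalizer_iff]
      intro h
      rw [mem_bot, mem_bot]
      constructor
      · rintro rfl; group
      · intro h1
        rw [mul_inv_eq_one] at h1
        exact mul_eq_left.1 h1
    · rw [mem_normalizer_iff]
      intro h
      rw [mem_bot, mem_bot]
      constructor
      · rintro rfl; group
      · intro h1
        rw [mul_inv_eq_one] at h1
        exact mul_eq_left.1 h1
    · rw [mem_bot]
      have h1 : (y * v * y⁻¹) * c' * (y * v * y⁻¹)⁻¹ = c' * (y * c' * y⁻¹) := by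
        calc (y * v * y⁻¹) * c' * (y * v * y⁻¹)⁻¹ = y * (v * y⁻¹) * c' * (y * (v * y⁻¹))⁻¹ := by group
          _ = y * (y * v) * c' * (y * (y * v))⁻¹ := by rw [hyv2]
          _ = y * (y * (v * c' * v⁻¹) * y⁻¹) * y⁻¹ := by group
          _ = _ := by rw [e1, e2]
      rw [h1]; exact hcw
    · rw [mem_bot]
      have h1 : (y * v * y⁻¹) * (y * c' * y⁻¹) * (y * v * y⁻¹)⁻¹ = y * c' * y⁻¹ := by
        calc (y * v * y⁻¹) * (y * c' * y⁻¹) * (y * v * y⁻¹)⁻¹ = y * (v * c' * v⁻¹) * y⁻¹ := by group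
          _ = _ := by rw [e1]
      rw [h1]; exact hww
    · rw [mem_bot, e1]; exact hcc
    · rw [mem_bot]
      have h1 : v * (y * c' * y⁻¹) * v⁻¹ = c' * (y * c' * y⁻¹) := by
        calc v * (y * c' * y⁻¹) * v⁻¹ = (v * y) * c' * (v * y)⁻¹ := by group
          _ = (y⁻¹ * v) * c' * (y⁻¹ * v)⁻¹ := by rw [hvy']
          _ = y⁻¹ * (v * c' * v⁻¹) * y := by group
          _ = _ := by rw [e1, e4]
      rw [h1]; exact hcw

end one

universe u

/-- the section bound -/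
theorem sb (G : Type u) [Group G] [Finite G] : H14.GF.SBStmt G := by
  intro X1 X2 v x hP h21 hv1 hv2 hx1 hx2 hsq hvv hvx hxo hnt
  have hnorm : X1 ≤ normalizer (X2 : Set G) := by
    have key : ∀ a ∈ X1, ∀ b ∈ X2, a * b * a⁻¹ ∈ X2 := by
      intro a ha b hb
      have h1 := hsq (a * b) (mul_mem ha (h21 hb))
      have h2 := hsq a ha
      have e : a * b * a⁻¹ = (a * b * (a * b)) * b⁻¹ * (a * a)⁻¹ := by group
      rw [e]
      exact mul_mem (mul_mem h1 (inv_mem hb)) (inv_mem h2)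
    intro a ha
    rw [mem_normalizer_iff]
    intro b
    refine ⟨key a ha b, fun h => ?_⟩
    have h3 := key a⁻¹ (inv_mem ha) _ h
    have e : a⁻¹ * (a * b * a⁻¹) * a⁻¹⁻¹ = b := by group
    rwa [e] at h3
  set L := normalizer (X2 : Set G) with hL
  haveI hKn : (X2.subgroupOf L).Normal := Subgroup.normal_in_normalizer
  set π := QuotientGroup.mk' (X2.subgroupOf L) with hπ
  have hπ1 : ∀ g : L, π g = 1 ↔ (g : G) ∈ X2 := by
    intro g
    rw [hπ, QuotientGroup.mk'_apply, QuotientGroup.eq_one_iff, mem_subgroupOf]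
  have hπe : ∀ g h : L, π g = π h ↔ (g : G) * (h : G)⁻¹ ∈ X2 := by
    intro g h
    rw [← mul_inv_eq_one, ← map_inv, ← map_mul, hπ1]
    rfl
  set Y := (X1.subgroupOf L).map π with hY
  set vb : L := ⟨v, hv2⟩ with hvb
  set xb : L := ⟨x, hx2⟩ with hxb
  have hab : ∀ a ∈ Y, ∀ b ∈ Y, a * b = b * a := by
    rintro _ ⟨a, ha, rfl⟩ _ ⟨b, hb, rfl⟩
    rw [← map_mul, ← map_mul, hπe]
    have ha' : (a : G) ∈ X1 := ha
    have hb' : (b : G) ∈ X1 := hb
    have h1 := hsq (a * b) (mul_mem ha' hb')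
    have h2 := hsq a ha'
    have h3 := hsq b hb'
    have h4 : ((a : G) * a)⁻¹ ∈ X2 := inv_mem h2
    -- a b a⁻¹ b⁻¹ = (a b)² · b⁻¹ a⁻² b · b⁻²
    have h6 : (b : G)⁻¹ * (a * a)⁻¹ * b ∈ X2 := by
      have := (mem_normalizer_iff.1 (hnorm (inv_mem hb')) _).1 h4
      rwa [inv_inv] at this
    have e : ((a * b : L) : G) * ((b * a : L) : G)⁻¹ = ((a : G) * b * (a * b)) * ((b : G)⁻¹ * (a * a)⁻¹ * b) * ((b : G) * b)⁻¹ := by
      push_cast; group
    rw [e]
    exact mul_mem (mul_mem h1 h6) (inv_mem h3)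
  have hsq' : ∀ a ∈ Y, a * a = 1 := by
    rintro _ ⟨a, ha, rfl⟩
    rw [← map_mul, hπ1]
    exact hsq a ha
  have hN : ∀ g : L, (g : G) ∈ normalizer (X1 : Set G) → π g ∈ normalizer (Y : Set (L ⧸ X2.subgroupOf L)) := by
    intro g hg
    have key : ∀ g : L, (g : G) ∈ normalizer (X1 : Set G) → ∀ y ∈ Y, π g * y * (π g)⁻¹ ∈ Y := by
      rintro g hg _ ⟨a, ha, rfl⟩
      refine ⟨g * a * g⁻¹, (mem_normalizer_iff.1 hg a).1 ha, ?_⟩
      rw [map_mul, map_mul, map_inv]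
    rw [mem_normalizer_iff]
    intro y
    refine ⟨key g hg y, fun h => ?_⟩
    have h3 := key g⁻¹ (inv_mem hg) _ h
    rw [map_inv] at h3
    have e : (π g)⁻¹ * (π g * y * (π g)⁻¹) * (π g)⁻¹⁻¹ = y := by group
    rwa [e] at h3
  have hvv' : π vb * π vb = 1 := by
    rw [← map_mul, show vb * vb = 1 from Subtype.ext hvv, map_one]
  have hvx' : π vb * π xb * (π vb)⁻¹ = (π xb)⁻¹ := by
    rw [← map_mul, ← map_inv, ← map_mul, ← map_inv]
    exact congrArg π (Subtype.ext hvx)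
  have hdv : orderOf (π xb) ∣ orderOf x := by
    have h1 : orderOf (π xb) ∣ orderOf xb := orderOf_map_dvd _ _
    rwa [hxb, Subgroup.orderOf_mk] at h1
  have hxo' : Odd (orderOf (π xb)) := hxo.of_dvd_nat hdv
  have hnt' : ∃ w ∈ Y, π xb * w * (π xb)⁻¹ ≠ w := by
    obtain ⟨w, hw, hw'⟩ := hnt
    refine ⟨π ⟨w, hnorm hw⟩, ⟨⟨w, hnorm hw⟩, hw, rfl⟩, ?_⟩
    rw [← map_mul, ← map_inv, ← map_mul, Ne, hπe]
    exact hw'
  obtain ⟨l, d, hl, hlx, hd, hdiv, hD, hC, h4⟩ := sb0 hab hsq' (hN vb hv1) (hN xb hx1) hvv' hvx' hxo' hnt'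
  have hcb : ∀ K : Subgroup G, K ≤ L → Nat.card ↥((K.subgroupOf L).map π) * Nat.card ↥(K ⊓ X2) = Nat.card K := by
    intro K hK
    have h1 := H1.Hall.card_map_mul_card_inf_ker π (K.subgroupOf L)
    rw [hπ, QuotientGroup.ker_mk', ← hπ, Nat.card_congr (subgroupOfEquivOfLe hK).toEquiv] at h1
    rw [← h1]
    congr 1
    have h2 : (K.subgroupOf L ⊓ X2.subgroupOf L) = (K ⊓ X2).subgroupOf L := rfl
    rw [h2, Nat.card_congr (subgroupOfEquivOfLe (inf_le_left.trans hK)).toEquiv]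
  refine ⟨l, d, hl, hlx.trans hdv, hd, hdiv, ?_, ?_, ?_⟩
  · intro D hDX hDw
    have hDL : D ≤ L := hDX.trans hnorm
    have h1 := hD ((D.subgroupOf L).map π) (by
      rintro _ ⟨w, hw, rfl⟩
      refine ⟨vb * w * vb⁻¹ * w⁻¹, hDw w hw, ?_⟩
      simp only [map_mul, map_inv])
    have h2 := hcb D hDL
    have h3 : X2.relIndex D * Nat.card ↥(D ⊓ X2) = Nat.card D := by
      rw [← inf_relIndex_left, ← relIndex_bot_left (D ⊓ X2), ← relIndex_bot_left D, mul_comm]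
      exact relIndex_mul_relIndex _ _ _ bot_le inf_le_left
    have h4 : X2.relIndex D = Nat.card ↥((D.subgroupOf L).map π) :=
      Nat.eq_of_mul_eq_mul_right (Nat.card_pos (α := ↥(D ⊓ X2))) (h3.trans h2.symm)
    rw [h4]; exact h1
  · intro C hCX hCc
    have hCL : C ≤ L := hCX.trans hnorm
    have h1 := hC ((C.subgroupOf L).map π) (map_mono (fun y hy => hCX hy)) (by
      rintro _ ⟨c, hc, rfl⟩
      rw [← map_mul, ← map_inv, ← map_mul, hπe]
      exact hCc c hc)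
    have h2 := hcb C hCL
    have h3 := hcb X1 hnorm
    have h5 : C.relIndex X1 * Nat.card C = Nat.card X1 := by
      rw [← relIndex_bot_left C, ← relIndex_bot_left X1, mul_comm]
      exact relIndex_mul_relIndex _ _ _ bot_le hCX
    have h6 : Nat.card ↥(C ⊓ X2) ≤ Nat.card ↥(X1 ⊓ X2) := Nat.card_mono (Set.toFinite _) (inf_le_inf_right _ hCX)
    apply Nat.le_of_mul_le_mul_right _ (Nat.card_pos (α := C))
    rw [h5, ← h3, ← h2]
    calc 2 ^ d * (Nat.card ↥((C.subgroupOf L).map π) * Nat.card ↥(C ⊓ X2))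
        = (2 ^ d * Nat.card ↥((C.subgroupOf L).map π)) * Nat.card ↥(C ⊓ X2) := by ring
      _ ≤ Nat.card Y * Nat.card ↥(X1 ⊓ X2) := Nat.mul_le_mul h1 h6
  · intro hfree
    apply h4
    intro h
    exact hfree (H51.Involves.involves_trans h ⟨L, X2, hKn, ⟨MulEquiv.refl _⟩⟩)

end H52.SB
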