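import Cfsg.Agent.Lib.H52.YL2
import Cfsg.Agent.Lib.H26.GenFitting
import Cfsg.Agent.Lib.H1.Coprime2

set_option autoImplicit false
set_option linter.unusedSectionVars false
set_option linter.unusedVariables false

/-! `p`-groups acting on subnormal subgroups of `F*(H)` when `O_p(H) = 1`. -/

universe u

namespace H52.FStar

open Subgroup Cfsg H52.PCore H52.PRes H52.Cop H52.Syl H52.YL2
open scoped commutatorElement

variable {p : ℕ}

/-- `L = F*(L)` and `O_p(L) = 1`. -/
def Good (p : ℕ) (L : Type*) [Group L] : Prop := generalizedFittingSubgroup L = ⊤ ∧ pCore p L = ⊥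

theorem Good.equiv {L L' : Type*} [Group L] [Finite L] [Group L'] (h : Good p L) (e : L ≃* L') : Good p L' := by
  refine ⟨?_, ?_⟩
  · rw [← H26.Components.map_gFitting_mulEquiv e, h.1, ← MonoidHom.range_eq_map, MonoidHom.range_eq_top]
    exact e.surjective
  · rw [← H1.Cores.map_equiv_pCore p e, h.2, Subgroup.map_bot]

theorem coprime_card_fitting {G : Type*} [Group G] [Finite G] [Fact p.Prime] (h : pCore p G = ⊥) :
    ¬ p ∣ Nat.card (fittingSubgroup G) := by
  have h1 := H1.Cores.not_dvd_relIndex_pCore_fittingSubgroup (G := G) p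
  rw [h, relIndex_bot_left] at h1
  exact h1

variable {X : Type u} [Group X] [Finite X] [Fact p.Prime]

/-- a component is contained in `[L, Y]` or centralized by `Y` -/
theorem component_le {L Y K : Subgroup X} (hLn : L.Normal) (hK : IsComponent K) (hKL : K ≤ L) :
    K ≤ ⁅L, Y⁆ ∨ Y ≤ centralizer (K : Set X) := by
  have hper : ⁅K, K⁆ = K := H26.Components.isPerfect hK
  have hLR : L ≤ normalizer ((⁅L, Y⁆ : Subgroup X) : Set X) := normalizer_commutator_ge_left L Y
  by_cases h : ∀ y ∈ Y, cj y K = K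
  · -- `Y` normalizes `K`
    have hYK : Y ≤ normalizer (K : Set X) := fun y hy => mem_normalizer_of_cj_eq (h y hy)
    have hKY : ⁅K, Y⁆ ≤ K := le_normalizer_iff_commutator_le_left.1 hYK
    have hn : (⁅K, Y⁆.subgroupOf K).Normal := by
      rw [normal_subOf_iff hKY]
      exact normalizer_commutator_ge_left K Y
    rcases H26.Components.normal_eq_or_le_center_of_le hK.2 hn hKY with h1 | h1
    · left
      rw [← h1]; exact commutator_mono hKL le_rfl
    · right
      have h2 := H26.Basic.commutator_eq_bot_of_perfect' hper h1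
      rwa [commutator_comm, commutator_eq_bot_iff_le_centralizer] at h2
  · left
    push Not at h
    obtain ⟨y, hy, hne⟩ := h
    have hK' : IsComponent (cj y K) := (H26.Components.map_conj_iff y).2 hK
    have hcomm : ⁅K, cj y K⁆ = ⊥ := H26.Components.commutator_eq_bot_of_ne hK hK' (Ne.symm hne)
    conv_lhs => rw [← hper]
    rw [commutator_le]
    intro k hk k' hk'
    obtain ⟨c, hc⟩ : ∃ c : X, c = y * k⁻¹ * y⁻¹ := ⟨_, rfl⟩
    have hcK : c ∈ cj y K := by rw [hc]; exact conj_mem_cj (inv_mem hk)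
    have hc1 : ∀ x ∈ K, x * c = c * x := fun x hx => H26.Basic.commute_of_commutator_eq_bot hcomm hx hcK
    have hky : k * c ∈ ⁅L, Y⁆ := by
      have : k * c = ⁅k, y⁆ := by rw [hc, commutatorElement_def]; group
      rw [this]; exact commutator_mem_commutator (hKL hk) hy
    have h2 : ⁅k, k'⁆ = (k * c) * (k' * (k * c)⁻¹ * k'⁻¹) := by
      rw [commutatorElement_def]
      have e1 := hc1 k hk
      have e2 := hc1 k' hk'
      calc k * k' * k⁻¹ * k'⁻¹ = k * (c * k' * c⁻¹) * k⁻¹ * k'⁻¹ := by rw [← e2]; group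
        _ = (k * c) * (k' * (k * c)⁻¹ * k'⁻¹) := by group
    rw [h2]
    refine mul_mem hky ?_
    exact (mem_normalizer_iff.1 (hLR (hKL hk')) _).1 (inv_mem hky)

theorem core {L Y : Subgroup X} (hLn : L.Normal) (hY : IsPGroup p Y) (hL : Good p L) :
    L ≤ ⁅L, Y⁆ ⊔ (L ⊓ centralizer (Y : Set X)) := by
  have hYL : ∀ N : Subgroup X, N.Normal → Y ≤ normalizer (N : Set X) := fun N hN =>
    le_top.trans (normal_iff_top_le_normalizer.1 hN)
  have h1 : (layer L).map L.subtype ⊔ (fittingSubgroup L).map L.subtype = L := by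
    rw [← Subgroup.map_sup]
    have : layer L ⊔ fittingSubgroup L = ⊤ := hL.1
    rw [this, ← MonoidHom.range_eq_map, range_subtype]
  conv_lhs => rw [← h1]
  refine sup_le ?_ ?_
  · rw [map_le_iff_le_comap]
    refine sSup_le ?_
    intro K hK
    rw [← map_le_iff_le_comap]
    have hK' : IsComponent (K.map L.subtype) := (H26.Components.map_subtype_iff hLn.isSubnormal).2 hK
    rcases component_le (Y := Y) hLn hK' (map_subtype_le _) with h | h
    · exact h.trans le_sup_left
    · refine le_trans (le_inf (map_subtype_le _) ?_) le_sup_right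
      rwa [Subgroup.le_centralizer_iff]
  · obtain ⟨F, hF⟩ : ∃ F : Subgroup X, F = (fittingSubgroup L).map L.subtype := ⟨_, rfl⟩
    rw [← hF]
    have hFn : F.Normal := by
      rw [hF, H1.Cores.map_subtype_fittingSubgroup]
      have := H1.Cores.fittingSubgroup_characteristic (G := X)
      infer_instance
    have hFL : F ≤ L := hF ▸ map_subtype_le _
    have hcard : Nat.card F = Nat.card (fittingSubgroup L) := by
      rw [hF]; exact Subgroup.card_map_of_injective L.subtype_injective
    have hcop : (Nat.card Y).Coprime (Nat.card F) := by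
      apply H1.Cores.coprime_card_of_isPGroup hY
      rw [Nat.coprime_comm, hcard]
      exact (Nat.Prime.coprime_iff_not_dvd Fact.out).2 (coprime_card_fitting hL.2)
    have hs : Group.IsSolvable Y := by
      have : Group.IsNilpotent Y := hY.isNilpotent
      infer_instance
    have h2 := H1.Coprime2.commutator_sup_centralizer Y F (hYL F hFn) hcop (Or.inl hs)
    conv_lhs => rw [← h2]
    exact sup_le_sup (commutator_mono hFL le_rfl) (inf_le_inf_right _ hFL)

omit [Finite X] [Fact p.Prime] in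
theorem map_subgroupOf_centralizer {M L Y : Subgroup X} (hL : L ≤ M) (hY : Y ≤ M) :
    (L.subgroupOf M ⊓ centralizer (Y.subgroupOf M : Set M)).map M.subtype ≤ L ⊓ centralizer (Y : Set X) := by
  rintro _ ⟨x, hx, rfl⟩
  obtain ⟨h1, h2⟩ := mem_inf.1 hx
  refine mem_inf.2 ⟨h1, ?_⟩
  rw [mem_centralizer_iff]
  intro y hy
  have := mem_centralizer_iff.1 h2 ⟨y, hY hy⟩ hy
  exact congrArg Subtype.val this

/-- `S2812`, first half. -/
theorem sup_of_good {L Y : Subgroup X} (hY : IsPGroup p Y) (hYL : Y ≤ normalizer (L : Set X)) (hL : Good p L) :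
    ⁅L, Y⁆ ⊔ (L ⊓ centralizer (Y : Set X)) = L := by
  apply le_antisymm (sup_le (le_normalizer_iff_commutator_le_left.1 hYL) inf_le_left)
  obtain ⟨M, hM⟩ : ∃ M : Subgroup X, M = L ⊔ Y := ⟨_, rfl⟩
  have hLM : L ≤ M := hM ▸ le_sup_left
  have hYM : Y ≤ M := hM ▸ le_sup_right
  have hn : (L.subgroupOf M).Normal := by
    rw [normal_subOf_iff hLM, hM]
    exact sup_le le_normalizer hYL
  have hYs : IsPGroup p (Y.subgroupOf M) := hY.comap_subtype
  have h1 := core (X := M) hn hYs (hL.equiv (subgroupOfEquivOfLe hLM).symm)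
  have h2 := map_mono (f := M.subtype) h1
  rw [map_subgroupOf_eq_of_le hLM, Subgroup.map_sup, map_commutator, map_subgroupOf_eq_of_le hLM,
    map_subgroupOf_eq_of_le hYM] at h2
  exact h2.trans (sup_le_sup_left (map_subgroupOf_centralizer hLM hYM) _)

/-- from `L = [L, Y] C_L(Y)` to `[L, Y] = [L, Y, Y]`. -/
theorem comm_of_sup {L Y : Subgroup X} (hYL : Y ≤ normalizer (L : Set X))
    (h : ⁅L, Y⁆ ⊔ (L ⊓ centralizer (Y : Set X)) = L) : ⁅L, Y⁆ = ⁅⁅L, Y⁆, Y⁆ := by
  have hLY : ⁅L, Y⁆ ≤ L := le_normalizer_iff_commutator_le_left.1 hYL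
  apply le_antisymm _ (commutator_mono hLY le_rfl)
  obtain ⟨R, hR⟩ : ∃ R : Subgroup X, R = ⁅L, Y⁆ := ⟨_, rfl⟩
  rw [← hR] at hLY h ⊢
  have hLR : L ≤ normalizer (R : Set X) := by rw [hR]; exact normalizer_commutator_ge_left L Y
  conv_lhs => rw [hR]
  rw [commutator_le]
  intro l hl y hy
  rw [← h, sup_comm, mem_sup_iff_of_le_normalizer (inf_le_left.trans hLR)] at hl
  obtain ⟨c, hc, r, hr, rfl⟩ := hl
  obtain ⟨hc1, hc2⟩ := mem_inf.1 hc
  have hcy : y * c = c * y := mem_centralizer_iff.1 hc2 y hy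
  have h1 : ⁅c * r, y⁆ = c * ⁅r, y⁆ * c⁻¹ := by
    rw [commutatorElement_def, commutatorElement_def]
    calc c * r * y * (c * r)⁻¹ * y⁻¹ = c * (r * y * r⁻¹ * (c⁻¹ * y⁻¹)) := by group
      _ = c * (r * y * r⁻¹ * (y⁻¹ * c⁻¹)) := by rw [← mul_inv_rev, ← mul_inv_rev, hcy]
      _ = c * (r * y * r⁻¹ * y⁻¹) * c⁻¹ := by group
  rw [h1]
  -- `c` normalizes `[R, Y]`
  have hcn : c ∈ normalizer ((⁅R, Y⁆ : Subgroup X) : Set X) := by
    apply normalizer_commutator_le
    exact mem_inf.2 ⟨hLR hc1, Syl.centralizer_le_normalizer Y hc2⟩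
  exact (mem_normalizer_iff.1 hcn _).1 (commutator_mem_commutator hr hy)

theorem good_of_subnormal {H : Type u} [Group H] [Finite H] (hO : pCore p H = ⊥) {L : Subgroup H}
    (hL : L.IsSubnormal) (hLF : L ≤ generalizedFittingSubgroup H) : Good p L := by
  refine ⟨?_, ?_⟩
  · apply Subgroup.map_injective L.subtype_injective
    rw [H26.GenFitting.map_subtype_gFitting hL, inf_eq_left.2 hLF, ← MonoidHom.range_eq_map, range_subtype]
  · apply Subgroup.map_injective L.subtype_injective
    rw [H26.Subnormal.map_subtype_pCore p hL, hO, inf_bot_eq, Subgroup.map_bot]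

theorem good_of_rel {H L : Subgroup X} (hO : pCore p H = ⊥) (hLF : L ≤ (generalizedFittingSubgroup H).map H.subtype)
    (hLsn : (L.subgroupOf H).IsSubnormal) : Good p L := by
  have hLH : L ≤ H := hLF.trans (map_subtype_le _)
  have h1 : L.subgroupOf H ≤ generalizedFittingSubgroup H := by
    have := comap_mono (f := H.subtype) hLF
    rw [comap_map_eq_self_of_injective H.subtype_injective] at this
    exact this
  exact (good_of_subnormal hO hLsn h1).equiv (subgroupOfEquivOfLe hLH)

/-! ### a `p`-subgroup `Y` of `H`, `O_p(H) = 1` -/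

section inside
variable (hO : pCore p X = ⊥)
include hO

theorem gF_good : Good p (generalizedFittingSubgroup X) :=
  good_of_subnormal hO (inferInstance : (generalizedFittingSubgroup X).Normal).isSubnormal le_rfl

theorem sup_eq {L Y : Subgroup X} (hY : IsPGroup p Y) (hL : L.IsSubnormal) (hLF : L ≤ generalizedFittingSubgroup X)
    (hYL : Y ≤ normalizer (L : Set X)) : ⁅L, Y⁆ ⊔ (L ⊓ centralizer (Y : Set X)) = L :=
  sup_of_good hY hYL (good_of_subnormal hO hL hLF)

theorem comm_eq {L Y : Subgroup X} (hY : IsPGroup p Y) (hL : L.IsSubnormal) (hLF : L ≤ generalizedFittingSubgroup X)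
    (hYL : Y ≤ normalizer (L : Set X)) : ⁅L, Y⁆ = ⁅⁅L, Y⁆, Y⁆ :=
  comm_of_sup hYL (sup_eq hO hY hL hLF hYL)

/-- a `p`-subgroup centralizing `F*` is trivial -/
theorem eq_bot_of_centralizes {Y : Subgroup X} (hY : IsPGroup p Y)
    (h : Y ≤ centralizer (generalizedFittingSubgroup X : Set X)) : Y = ⊥ := by
  obtain ⟨F, hF⟩ : ∃ F : Subgroup X, F = generalizedFittingSubgroup X := ⟨_, rfl⟩
  have hCF : centralizer (F : Set X) ≤ F := hF ▸ H26.Components.centralizer_gFitting_le
  rw [← hF] at h
  have hFn : F.Normal := hF ▸ inferInstance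
  obtain ⟨C, hC⟩ : ∃ C : Subgroup X, C = centralizer (F : Set X) := ⟨_, rfl⟩
  have hCn : C.Normal := hC ▸ inferInstance
  rw [← hC] at hCF h
  -- `C` is abelian and normal
  have hCab : C ≤ centralizer (C : Set X) := by
    conv_lhs => rw [hC]
    exact centralizer_le hCF
  have hnil : Group.IsNilpotent C := by
    let : CommGroup C := { (inferInstance : Group C) with
      mul_comm := fun a b => Subtype.ext (mem_centralizer_iff.1 (hCab b.2) a a.2) }
    infer_instance
  have h1 : C ≤ fittingSubgroup X := H1.Cores.le_fittingSubgroup hCn hnil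
  have h2 : ¬ p ∣ Nat.card (fittingSubgroup X) := coprime_card_fitting hO
  have h3 := H1.Cores.disjoint_of_isPGroup hY (Q := fittingSubgroup X) (by
    rw [Nat.coprime_comm]; exact (Nat.Prime.coprime_iff_not_dvd Fact.out).2 h2)
  rw [inf_eq_left.2 (h.trans h1)] at h3
  exact h3

theorem eq_bot_of_comm_eq_bot {Y : Subgroup X} (hY : IsPGroup p Y)
    (h : ⁅generalizedFittingSubgroup X, Y⁆ = ⊥) : Y = ⊥ := by
  rw [commutator_comm, commutator_eq_bot_iff_le_centralizer] at h
  exact eq_bot_of_centralizes hO hY h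

end inside

end H52.FStar
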