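import Cfsg.Agent.Lib.H52.Offender
import Cfsg.Agent.Lib.H52.FStar
import Cfsg.Agent.Lib.H13.SylowN
import Cfsg.Agent.S0601
import Cfsg.Agent.Lib.H1.Solv

/-!
# `S₄`-free solvable groups: the Thompson subgroup centralizes `⟨Ω₁(Z(S))^G⟩`
-/

set_option autoImplicit false

namespace H52.SFour

open Subgroup H14.MaxIn Cfsg H38.Basic
open scoped commutatorElement

variable {G : Type*} [Group G]

theorem thompsonOf_eq (p : ℕ) (D : Subgroup G) : thompsonSubgroupOf p D = sSup (maxIn true p D) := by
  rw [thompsonSubgroupOf, thompsonSubgroup, ← maxIn_true_eq p D, sSup_image, sSup_eq_iSup]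
  exact (gc_map_comap D.subtype).l_iSup₂

theorem thompsonOf_le_iff {p : ℕ} {D K : Subgroup G} :
    thompsonSubgroupOf p D ≤ K ↔ ∀ A ∈ maxIn true p D, A ≤ K := by
  rw [thompsonOf_eq, sSup_le_iff]

variable [Finite G]

/-- `O_p(G / C_G(V)) = 1` for `V = ⟨Ω₁(Z(S))^G⟩`. -/
theorem pCore_quotient_omegaClosure {p : ℕ} [Fact p.Prime]
    (hc : centralizer (pCore p G : Set G) ≤ pCore p G) (C : Subgroup G) [hCn : C.Normal]
    (hC : C = centralizer ((H13.Omega.omegaClosure p G : Subgroup G) : Set G)) :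
    pCore p (G ⧸ C) = ⊥ := by
  obtain ⟨-, -, h3⟩ := Cfsg.Agent.S0601.result hc
  set π := QuotientGroup.mk' C with hπ
  have hπs : Function.Surjective π := QuotientGroup.mk'_surjective C
  have hker : π.ker = C := QuotientGroup.ker_mk' C
  set K := pCore p (G ⧸ C) with hK
  have hKn : K.Normal := H1.Cores.pCore_normal p
  set D := K.comap π with hD
  have hCD : C ≤ D := by
    rw [← hker]; exact ker_le_comap π K
  have h1 : C.relIndex D = Nat.card K := by
    have h2 : Nat.card C * C.relIndex D = Nat.card D := H14.Repl2.card_mul_relIndex hCD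
    have h4 := H1.Cores.card_comap_mk' C K
    rw [← hπ, ← hD, ← h2] at h4
    exact Nat.eq_of_mul_eq_mul_left Nat.card_pos h4
  obtain ⟨k, hk⟩ := (H1.Cores.isPGroup_pCore (G := G ⧸ C) p).exists_card_eq
  have h5 := h3 D inferInstance (by
    have : C ≤ D := hCD
    rw [hC] at this
    exact this) ⟨k, by
      have h6 : C.relIndex D = p ^ k := h1.trans hk
      rw [hC] at h6
      exact h6⟩
  have h7 : D = C := by rw [hC]; exact h5
  have h8 : D.map π = K := map_comap_eq_self_of_surjective hπs K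
  rw [← h8, h7, Subgroup.map_eq_bot_iff, hker]

/-- In an `S₄`-free solvable group `G` with `C_G(O₂(G)) ≤ O₂(G)`, `J(S)` centralizes `⟨Ω₁(Z(S))^G⟩`. -/
theorem thompson_le_centralizer (hs : Group.IsSolvable G) (hfree : ¬ Involves (Equiv.Perm (Fin 4)) G)
    (hc : centralizer (pCore 2 G : Set G) ≤ pCore 2 G) (S : Sylow 2 G) :
    thompsonSubgroupOf 2 (S : Subgroup G) ≤ centralizer ((H13.Omega.omegaClosure 2 G : Subgroup G) : Set G) := by
  have : Fact (Nat.Prime 2) := ⟨Nat.prime_two⟩
  rw [thompsonOf_le_iff]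
  intro A hA
  by_contra hAC
  apply hfree
  set V := H13.Omega.omegaClosure 2 G with hV
  have hVn : V.Normal := H13.Omega.omegaClosure_normal
  have hVe : IsElementaryAbelian 2 V := H13.Omega.isElementaryAbelian_omegaClosure hc
  have hVc : V ≤ centralizer (V : Set G) := H13.ElemAb.le_centralizer hVe
  have hVp : IsPGroup 2 V := H13.ElemAb.isPGroup hVe
  have hVS : V ≤ (S : Subgroup G) := (H1.Cores.le_pCore hVn hVp).trans (H1.Cores.pCore_le_sylow S)
  set C := centralizer (V : Set G) with hC
  have hCn : C.Normal := inferInstance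
  have hO := pCore_quotient_omegaClosure hc C hC
  have hsQ : Group.IsSolvable (G ⧸ C) := inferInstance
  have hF := H52.FStar.coprime_card_fitting (G := G ⧸ C) (p := 2) hO
  have hFc := H1.Solv.centralizer_fitting_le hsQ
  refine H52.Offender.involves_of_offender S.2 hA hVS hVc hVe.2 ?_ (fittingSubgroup (G ⧸ C)) hF ?_
  · intro a ha
    have h1 : a ^ 2 = 1 := hA.2.1.2 rfl a ha
    rw [h1]; exact one_mem _
  · intro hle
    apply hAC
    intro a ha
    have h1 : (QuotientGroup.mk' C) a ∈ fittingSubgroup (G ⧸ C) := by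
      apply hFc
      rw [mem_centralizer_iff]
      intro f hf
      exact (mem_centralizer_iff.1 (hle hf) _ (mem_map_of_mem _ ha)).symm
    have h2 : (QuotientGroup.mk' C) a ^ 2 = 1 := by
      rw [← map_pow, hA.2.1.2 rfl a ha, map_one]
    have h3 : (QuotientGroup.mk' C) a = 1 := by
      by_contra hne
      apply hF
      have h4 : orderOf (⟨_, h1⟩ : fittingSubgroup (G ⧸ C)) = 2 :=
        orderOf_eq_prime (Subtype.ext h2) (fun h => hne (congrArg Subtype.val h))
      rw [← h4]; exact orderOf_dvd_natCard _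
    rw [← MonoidHom.mem_ker, QuotientGroup.ker_mk'] at h3
    exact h3

/-- a complement to a normal `p`-subgroup of `p'`-index, in ambient form -/
theorem exists_compl {p : ℕ} [hp : Fact p.Prime] {H F : Subgroup G} [H.Normal] (hHF : H ≤ F) (hH : IsPGroup p H)
    (hF : ¬ p ∣ H.relIndex F) : ∃ Q ≤ F, H ⊔ Q = F ∧ ¬ p ∣ Nat.card Q := by
  have hn : (H.subgroupOf F).Normal := inferInstance
  obtain ⟨k, hk⟩ := (hH.comap_subtype (K := F)).exists_card_eq
  have hcop : Nat.Coprime (Nat.card (H.subgroupOf F)) (H.subgroupOf F).index := by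
    have h1 : Nat.card (H.subgroupOf F) = p ^ k := hk
    rw [h1]
    exact ((Nat.Prime.coprime_iff_not_dvd hp.out).mpr hF).pow_left k
  obtain ⟨Q, hQ⟩ := Subgroup.exists_right_complement'_of_coprime hcop
  refine ⟨Q.map F.subtype, map_subtype_le Q, ?_, ?_⟩
  · have h1 := hQ.sup_eq_top
    have h2 : ((H.subgroupOf F) ⊔ Q).map F.subtype = F := by
      rw [h1, ← MonoidHom.range_eq_map, range_subtype]
    rw [Subgroup.map_sup, subgroupOf_map_subtype, inf_eq_left.2 hHF] at h2
    exact h2
  · rw [card_map_of_injective F.subtype_injective]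
    have h1 := hQ.symm.index_eq_card
    rw [← h1]; exact hF

/-- If `Ω₁(Z(S))` is central in the solvable group `G` with `C_G(O₂(G)) ≤ O₂(G)` and `S` has class at most `2`, then
`S` is normal. -/
theorem sylow_le_pCore {p : ℕ} [hp : Fact p.Prime] (hs : Group.IsSolvable G)
    (hc : centralizer (pCore p G : Set G) ≤ pCore p G) (S : Sylow p G)
    (hcl : ⁅⁅(S : Subgroup G), (S : Subgroup G)⁆, (S : Subgroup G)⁆ = ⊥)
    (hV : ∀ z ∈ (S : Subgroup G), z ^ p = 1 → (∀ x ∈ (S : Subgroup G), x * z = z * x) → ∀ g : G, g * z = z * g) :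
    (S : Subgroup G) ≤ pCore p G := by
  have hHn : (pCore p G).Normal := H1.Cores.pCore_normal p
  have hHp : IsPGroup p (pCore p G) := H1.Cores.isPGroup_pCore p
  have hHS : pCore p G ≤ (S : Subgroup G) := H1.Cores.pCore_le_sylow S
  have hpQ : pCore p (G ⧸ pCore p G) = ⊥ := H1.Cores.pCore_quotient_pCore (G := G) p
  set H := pCore p G with hH
  set π := QuotientGroup.mk' H with hπ
  have hπs : Function.Surjective π := QuotientGroup.mk'_surjective H
  have hker : π.ker = H := QuotientGroup.ker_mk' H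
  have hker' : ∀ x, π x = 1 ↔ x ∈ H := fun x => by rw [← MonoidHom.mem_ker, hker]
  have hsQ : Group.IsSolvable (G ⧸ H) := inferInstance
  have hFod := H52.FStar.coprime_card_fitting (G := G ⧸ H) (p := p) hpQ
  have hFc := H1.Solv.centralizer_fitting_le hsQ
  set F' := fittingSubgroup (G ⧸ H) with hF'
  have hF'n : F'.Normal := inferInstance
  set F := F'.comap π with hF
  have hFn : F.Normal := inferInstance
  have hHF : H ≤ F := by
    rw [← hker]; exact ker_le_comap π F'
  have hrel : ¬ p ∣ H.relIndex F := by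
    have h2 : Nat.card H * H.relIndex F = Nat.card F := H14.Repl2.card_mul_relIndex hHF
    have h4 := H1.Cores.card_comap_mk' H F'
    rw [← hπ, ← hF, ← h2] at h4
    rw [Nat.eq_of_mul_eq_mul_left Nat.card_pos h4]
    exact hFod
  obtain ⟨Q, hQF, hQsup, hQc⟩ := exists_compl hHF hHp hrel
  set Z := H ⊓ centralizer (H : Set G) with hZ
  have hZn : Z.Normal := inferInstance
  have hZH : Z ≤ H := inf_le_left
  have hZc : Z ≤ centralizer (Z : Set G) := inf_le_right.trans (centralizer_le (SetLike.coe_subset_coe.2 hZH))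
  have hZp : IsPGroup p Z := hHp.to_le hZH
  have hnorm : ∀ (A B : Subgroup G), B.Normal → A ≤ normalizer (B : Set G) := by
    intro A B hB; rw [normalizer_eq_top_iff.2 hB]; exact le_top
  -- `F` centralizes `Z(H)`
  have hU : ⁅Z, Q⁆ = ⊥ := by
    by_contra hne
    have hQcop : (Nat.card Q).Coprime p := ((Nat.Prime.coprime_iff_not_dvd hp.out).mpr hQc).symm
    have h1 := H13.Fix.comm_inf_centralizer (Q := Q) hZc hZp hQcop (hnorm _ _ hZn)
    have h2 : ⁅Z, Q⁆ = ⁅Z, F⁆ := by
      apply le_antisymm (commutator_mono le_rfl hQF)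
      have hn1 : H ⊔ Q ≤ normalizer ((⁅Z, Q⁆ : Subgroup G) : Set G) := by
        refine sup_le ?_ ?_
        · refine le_trans ?_ (centralizer_le_normalizer _)
          rw [le_centralizer_iff]
          refine le_trans (H1.Coprime2.commutator_le_left (hnorm _ _ hZn)) ?_
          exact inf_le_right
        · exact H1.Coprime2.le_normalizer_commutator (hnorm _ _ hZn) le_normalizer
      rw [← hQsup, commutator_le]
      intro z hz x hx
      obtain ⟨h, hh, q, hq, rfl⟩ := mem_sup_of_normal_left.1 hx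
      have h3 : ⁅z, h * q⁆ = h * ⁅z, q⁆ * h⁻¹ := by
        have h4 : h * z = z * h := mem_centralizer_iff.1 (mem_inf.1 hz).2 h hh
        rw [commutatorElement_def, commutatorElement_def]
        calc z * (h * q) * z⁻¹ * (h * q)⁻¹ = (z * h) * q * z⁻¹ * q⁻¹ * h⁻¹ := by group
          _ = (h * z) * q * z⁻¹ * q⁻¹ * h⁻¹ := by rw [h4]
          _ = h * (z * q * z⁻¹ * q⁻¹) * h⁻¹ := by group
      rw [h3]
      exact (mem_normalizer_iff.1 (hn1 (mem_sup_left hh)) _).1 (commutator_mem_commutator hz hq)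
    have hUn : (⁅Z, Q⁆ : Subgroup G).Normal := by rw [h2]; infer_instance
    have hUZ : ⁅Z, Q⁆ ≤ Z := H1.Coprime2.commutator_le_left (hnorm _ _ hZn)
    have h3 := H52.Trace.exists_ne_of_pGroup_action (hZp.to_le hUZ) S.2 (hnorm _ _ hUn) hne
    have h4 : IsPGroup p (⁅Z, Q⁆ ⊓ centralizer ((S : Subgroup G) : Set G) : Subgroup G) :=
      hZp.to_le (inf_le_left.trans hUZ)
    have hnt : Nontrivial (⁅Z, Q⁆ ⊓ centralizer ((S : Subgroup G) : Set G) : Subgroup G) :=
      (nontrivial_iff_ne_bot _).2 h3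
    obtain ⟨k, hk⟩ := h4.exists_card_eq
    have hdvd : p ∣ Nat.card (⁅Z, Q⁆ ⊓ centralizer ((S : Subgroup G) : Set G) : Subgroup G) := by
      rw [hk]
      apply dvd_pow_self
      rintro rfl
      rw [pow_zero] at hk
      exact h3 (Subgroup.card_eq_one.1 hk)
    obtain ⟨⟨z, hz⟩, hzo⟩ := exists_prime_orderOf_dvd_card' p hdvd
    rw [orderOf_mk] at hzo
    have hz1 : z ≠ 1 := by
      rintro rfl
      rw [orderOf_one] at hzo
      exact hp.out.one_lt.ne hzo
    apply hz1
    rw [← mem_bot, ← h1]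
    refine mem_inf.2 ⟨(mem_inf.1 hz).1, ?_⟩
    rw [mem_centralizer_iff]
    intro q _
    refine hV z (hHS (hZH (hUZ (mem_inf.1 hz).1))) (by rw [← hzo]; exact pow_orderOf_eq_one z) ?_ q
    intro x hx
    exact mem_centralizer_iff.1 (mem_inf.1 hz).2 x hx
  have hFZ : F ≤ centralizer (Z : Set G) := by
    rw [← hQsup]
    refine sup_le ?_ ?_
    · rw [le_centralizer_iff]; exact inf_le_right
    · rw [le_centralizer_iff]
      exact commutator_eq_bot_iff_le_centralizer.1 hU
  -- `S' ≤ Z(H)`
  have hS' : ⁅(S : Subgroup G), (S : Subgroup G)⁆ ≤ Z := by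
    have h1 : ⁅(S : Subgroup G), (S : Subgroup G)⁆ ≤ centralizer (H : Set G) :=
      (commutator_eq_bot_iff_le_centralizer.1 hcl).trans (centralizer_le (SetLike.coe_subset_coe.2 hHS))
    exact le_inf (h1.trans hc) h1
  -- `D`
  set D : Subgroup G := (centralizer ((H.map (QuotientGroup.mk' Z) : Subgroup (G ⧸ Z)) : Set (G ⧸ Z))).comap
    (QuotientGroup.mk' Z) with hD
  have hHZn : (H.map (QuotientGroup.mk' Z)).Normal := hHn.map _ (QuotientGroup.mk'_surjective Z)
  have hDn : D.Normal := inferInstance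
  have hmemD : ∀ g, g ∈ D ↔ ∀ h ∈ H, ⁅g, h⁆ ∈ Z := by
    intro g
    rw [hD, mem_comap, mem_centralizer_iff]
    constructor
    · intro h1 h hh
      have h2 := h1 _ (mem_map_of_mem (QuotientGroup.mk' Z) hh)
      rw [← QuotientGroup.eq_one_iff]
      show (QuotientGroup.mk' Z) ⁅g, h⁆ = 1
      rw [map_commutatorElement, commutatorElement_eq_one_iff_mul_comm]
      exact h2.symm
    · rintro h1 _ ⟨h, hh, rfl⟩
      have h2 : (QuotientGroup.mk' Z) ⁅g, h⁆ = 1 := (QuotientGroup.eq_one_iff _).2 (h1 h hh)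
      rw [map_commutatorElement, commutatorElement_eq_one_iff_mul_comm] at h2
      exact h2.symm
  have hSD : (S : Subgroup G) ≤ D := by
    intro s hs'
    rw [hmemD]
    intro h hh
    exact hS' (commutator_mem_commutator hs' (hHS hh))
  have hDF : D ⊓ F ≤ H := by
    refine H1.Cores.le_pCore inferInstance ?_
    apply H52.ThompNPC2.isPGroup_of_coprime_eq_one
    intro y hy hyo
    obtain ⟨hyD, hyF⟩ := mem_inf.1 hy
    have h1 : y ∈ centralizer (H : Set G) := by
      rw [mem_centralizer_iff]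
      intro h hh
      set z := ⁅y, h⁆ with hz
      have hzZ : z ∈ Z := (hmemD y).1 hyD h hh
      have hzy : Commute y z := (mem_centralizer_iff.1 (hFZ hyF) z hzZ).symm
      have hyh : y * h * y⁻¹ = z * h := by rw [hz, commutatorElement_def]; group
      have hpow : ∀ n : ℕ, y ^ n * h * (y ^ n)⁻¹ = z ^ n * h := by
        intro n
        induction n with
        | zero => simp
        | succ n ih =>
          have h5 : y * z ^ n = z ^ n * y := (hzy.pow_right n).eq
          calc y ^ (n + 1) * h * (y ^ (n + 1))⁻¹ = y * (y ^ n * h * (y ^ n)⁻¹) * y⁻¹ := by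
                rw [pow_succ']; group
            _ = (y * z ^ n) * h * y⁻¹ := by rw [ih]; group
            _ = z ^ n * (y * h * y⁻¹) := by rw [h5]; group
            _ = z ^ (n + 1) * h := by rw [hyh, pow_succ]; group
      have h6 := hpow (orderOf y)
      rw [pow_orderOf_eq_one] at h6
      have h7 : z ^ orderOf y = 1 := by
        have h8 : z ^ orderOf y * h = h := by rw [← h6]; group
        exact mul_eq_right.1 h8
      have h9 : orderOf z ∣ orderOf y := orderOf_dvd_of_pow_eq_one h7
      have h10 : (orderOf z).Coprime p := hyo.coprime_dvd_left h9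
      have h11 : z = 1 := H38.PPrime.eq_one_of_coprime_of_isPGroup hZp hzZ h10
      rw [hz, commutatorElement_eq_one_iff_mul_comm] at h11
      exact h11.symm
    exact H38.PPrime.eq_one_of_coprime_of_isPGroup hHp (hc h1) hyo
  have hDF' : D ≤ F := by
    intro d hd
    rw [hF, mem_comap]
    apply hFc
    rw [mem_centralizer_iff]
    intro f' hf'
    obtain ⟨f, rfl⟩ := hπs f'
    have hfF : f ∈ F := hf'
    have h1 : ⁅d, f⁆ ∈ H := by
      apply hDF
      refine mem_inf.2 ⟨?_, ?_⟩
      · have : ⁅d, f⁆ = d * (f * d⁻¹ * f⁻¹) := by rw [commutatorElement_def]; group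
        rw [this]; exact mul_mem hd (hDn.conj_mem _ (inv_mem hd) f)
      · rw [commutatorElement_def]
        exact mul_mem (hFn.conj_mem f hfF d) (inv_mem hfF)
    have h2 : π ⁅d, f⁆ = 1 := (hker' _).2 h1
    rw [map_commutatorElement, commutatorElement_eq_one_iff_mul_comm] at h2
    exact h2.symm
  exact hSD.trans ((le_inf le_rfl hDF').trans hDF)

end H52.SFour
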