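import Cfsg.Agent.Lib.H51.OffSetup
import Cfsg.Agent.Lib.H53.PMin
import Cfsg.Agent.Lib.H52.SFour
import Cfsg.Prelude.Def_BaumannBlocks

/-!
# The local `C**(G,T)`-theorem for `p`-minimal groups: the group side
-/

set_option autoImplicit false
set_option linter.style.haveILetI false
set_option linter.unusedVariables false

namespace H52.CSS

open Subgroup H51.FF H51.SylowAmb H53.PU H51.OG Cfsg

section act

variable {G : Type*} [Group G] (V : Subgroup G) [hN : V.Normal]

/-- the automorphisms induced on `V` -/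
abbrev HH : Subgroup (MulAut V) := (MulAut.conjNormal : G →* MulAut V).range

/-- the natural map -/
abbrev ph : G →* ↥(HH V) := (MulAut.conjNormal : G →* MulAut V).rangeRestrict

theorem ph_surj : Function.Surjective (ph V) := MonoidHom.rangeRestrict_surjective _

@[reducible] def actH (hV : ∀ a ∈ V, ∀ b ∈ V, a * b = b * a) : letI := H51.NAct.addV V hV
    DistribMulAction ↥(HH V) (Additive V) :=
  letI := H51.NAct.addV V hV
  { smul := fun h x => Additive.ofMul ((h : MulAut V) x.toMul)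
    one_smul := fun x => rfl
    mul_smul := fun a b x => rfl
    smul_zero := fun a => congrArg Additive.ofMul (map_one (a : MulAut V))
    smul_add := fun a x y => congrArg Additive.ofMul (map_mul (a : MulAut V) x.toMul y.toMul) }

variable (hV : ∀ a ∈ V, ∀ b ∈ V, a * b = b * a)

theorem ph_smul (g : G) (v : V) :
    letI := H51.NAct.addV V hV
    letI := actH V hV
    ((((ph V g) • (Additive.ofMul v : Additive V)).toMul : V) : G) = g * v * g⁻¹ := rfl

theorem ph_smul_eq (g : G) (v : Additive V) :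
    letI := H51.NAct.addV V hV
    letI := actH V hV
    (ph V g) • v = v ↔ g * ((v.toMul : V) : G) = ((v.toMul : V) : G) * g := by
  letI := H51.NAct.addV V hV
  letI := actH V hV
  rw [← mul_inv_eq_iff_eq_mul]
  constructor
  · intro h
    have h1 := ph_smul V hV g v.toMul
    rw [← h1]
    exact congrArg (fun w : Additive V => ((w.toMul : V) : G)) h
  · intro h
    apply Additive.toMul.injective
    exact Subtype.ext h

include hV in
theorem ph_ker : (ph V).ker = centralizer (V : Set G) := by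
  letI := H51.NAct.addV V hV
  letI := actH V hV
  ext g
  rw [MonoidHom.mem_ker, mem_centralizer_iff]
  constructor
  · intro h v hv
    have h1 := (ph_smul_eq V hV g (Additive.ofMul ⟨v, hv⟩)).1 (by rw [h, one_smul])
    exact h1.symm
  · intro h
    apply Subtype.ext
    ext v
    show g * v * g⁻¹ = v
    rw [mul_inv_eq_iff_eq_mul]
    exact (h v v.2).symm

theorem faith (h : ↥(HH V)) :
    letI := H51.NAct.addV V hV
    letI := actH V hV
    (∀ v : Additive V, h • v = v) → h = 1 := by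
  letI := H51.NAct.addV V hV
  letI := actH V hV
  intro hh
  apply Subtype.ext
  ext v
  have h1 := hh (Additive.ofMul v)
  exact congrArg (fun w : Additive V => ((w.toMul : V) : G)) h1

/-- the projection from `⊤` -/
abbrev pt : ↥(⊤ : Subgroup G) →* ↥(HH V) := (ph V).comp (⊤ : Subgroup G).subtype

theorem tr :
    letI := H51.NAct.addV V hV
    letI := actH V hV
    Tr (⊤ : Subgroup G) V (pt V) (fun w : Additive V => ((w.toMul : V) : G)) := by
  letI := H51.NAct.addV V hV
  letI := actH V hV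
  refine ⟨?_, ?_, ?_, ?_, ?_⟩
  · intro x y h
    exact Additive.toMul.injective (Subtype.ext h)
  · intro g
    constructor
    · intro h
      exact ⟨Additive.ofMul ⟨g, h⟩, rfl⟩
    · rintro ⟨w, rfl⟩
      exact (w.toMul : V).2
  · intro x y
    rfl
  · intro k w
    rfl
  · intro h
    obtain ⟨g, rfl⟩ := ph_surj V h
    exact ⟨⟨g, mem_top g⟩, rfl⟩

omit hN in
theorem up_eq {H : Type*} [Group H] (f : G →* H) (E : Subgroup H) :
    up (f.comp (⊤ : Subgroup G).subtype) E = E.comap f := by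
  ext g
  rw [mem_up]
  exact ⟨fun ⟨_, h⟩ => h, fun h => ⟨mem_top g, h⟩⟩

theorem mem_fx_map (A : Subgroup G) (v : Additive V) :
    letI := H51.NAct.addV V hV
    letI := actH V hV
    v ∈ fx (Additive V) (A.map (ph V)) ↔ ((v.toMul : V) : G) ∈ centralizer (A : Set G) := by
  letI := H51.NAct.addV V hV
  letI := actH V hV
  rw [mem_centralizer_iff]
  constructor
  · intro h a ha
    exact (ph_smul_eq V hV a v).1 (h _ ⟨a, ha, rfl⟩)
  · rintro h _ ⟨a, ha, rfl⟩
    exact (ph_smul_eq V hV a v).2 (h a ha)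

theorem card_fx_map (A : Subgroup G) :
    letI := H51.NAct.addV V hV
    letI := actH V hV
    Nat.card (fx (Additive V) (A.map (ph V))) = Nat.card ↥(V ⊓ centralizer (A : Set G)) := by
  letI := H51.NAct.addV V hV
  letI := actH V hV
  refine Nat.card_congr ⟨fun x => ⟨((x : Additive V).toMul : V), (x : Additive V).toMul.2, ?_⟩,
    fun y => ⟨Additive.ofMul ⟨y, y.2.1⟩, ?_⟩, ?_, ?_⟩
  · exact (mem_fx_map V hV A x).1 x.2
  · exact (mem_fx_map V hV A (Additive.ofMul ⟨y, y.2.1⟩)).2 y.2.2
  · intro x; rfl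
  · intro y; rfl

end act

section pm

variable {G : Type*} [Group G] [Finite G] {p : ℕ} [hp : Fact p.Prime]

/-- the hypotheses of the local theorem and its first consequences -/
structure Loc (p : ℕ) {G : Type*} [Group G] (T : Sylow p G) (M : Subgroup G) : Prop where
  max : IsCoatom M
  TM : (T : Subgroup G) ≤ M
  uniq : ∀ N : Subgroup G, N ≠ ⊤ → (T : Subgroup G) ≤ N → N ≤ M
  cen : centralizer (omegaOneCenter p (T : Subgroup G) : Set G) ≤ M
  nz : normalizer (thompsonSubgroupOf p (T : Subgroup G) : Set G) ≤ M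

theorem exists_loc (hmin : IsPMinimal p G) (T : Sylow p G) (hne : cStarStarOf p (T : Subgroup G) ≠ ⊤) :
    ∃ M, Loc p T M := by
  obtain ⟨_, M, ⟨hM, hTM⟩, hu⟩ := hmin T
  have huniq : ∀ N : Subgroup G, N ≠ ⊤ → (T : Subgroup G) ≤ N → N ≤ M := by
    intro N hN hTN
    obtain ⟨M₁, hM₁, hNM₁⟩ := (eq_top_or_exists_le_coatom N).resolve_left hN
    rw [← hu M₁ ⟨hM₁, hTN.trans hNM₁⟩]
    exact hNM₁
  refine ⟨M, hM, hTM, huniq, ?_, ?_⟩
  · apply huniq
    · intro h
      apply hne
      rw [cStarStarOf, h, top_sup_eq]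
    · rw [omegaOneCenter]
      have h1 : omegaOne p ((T : Subgroup G) ⊓ centralizer ((T : Subgroup G) : Set G)) ≤
          centralizer ((T : Subgroup G) : Set G) := by
        rw [omegaOne, closure_le]
        exact fun x hx => hx.1.2
      exact (Subgroup.le_centralizer_iff).1 h1
  · apply huniq
    · intro h
      apply hne
      rw [cStarStarOf, h, sup_top_eq]
    · exact le_normalizer.trans (H13.SylowN.normalizer_le_normalizer_thompsonOf _)

theorem omegaOneCenter_normal (Q : Subgroup G) [hQ : Q.Normal] : (omegaOneCenter p Q).Normal := by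
  constructor
  intro n hn g
  rw [omegaOneCenter, omegaOne] at hn ⊢
  induction hn using closure_induction with
  | mem x hx =>
    apply Subgroup.subset_closure
    have hZn : (Q ⊓ centralizer (Q : Set G)).Normal := inferInstance
    refine ⟨hZn.conj_mem x hx.1 g, ?_⟩
    rw [conj_pow, hx.2]; group
  | one => rw [mul_one, mul_inv_cancel]; exact one_mem _
  | mul x y _ _ hx hy =>
    have : g * (x * y) * g⁻¹ = (g * x * g⁻¹) * (g * y * g⁻¹) := by group
    rw [this]; exact mul_mem hx hy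
  | inv x _ hx =>
    have : g * x⁻¹ * g⁻¹ = (g * x * g⁻¹)⁻¹ := by group
    rw [this]; exact inv_mem hx

theorem mem_omegaOneCenter {Q : Subgroup G} {x : G} :
    x ∈ omegaOneCenter p Q ↔ x ∈ Q ∧ x ∈ centralizer (Q : Set G) ∧ x ^ p = 1 := by
  constructor
  · intro hx
    rw [omegaOneCenter, omegaOne] at hx
    induction hx using closure_induction with
    | mem x hx => exact ⟨hx.1.1, hx.1.2, hx.2⟩
    | one => exact ⟨one_mem _, one_mem _, one_pow _⟩
    | mul x y _ _ hx hy =>
      refine ⟨mul_mem hx.1 hy.1, mul_mem hx.2.1 hy.2.1, ?_⟩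
      have h1 : Commute x y := (mem_centralizer_iff.1 hy.2.1 x hx.1)
      rw [h1.mul_pow, hx.2.2, hy.2.2, one_mul]
    | inv x _ hx =>
      exact ⟨inv_mem hx.1, inv_mem hx.2.1, by rw [inv_pow, hx.2.2, inv_one]⟩
  · rintro ⟨h1, h2, h3⟩
    exact Subgroup.subset_closure ⟨⟨h1, h2⟩, h3⟩

theorem omegaOneCenter_elem (Q : Subgroup G) : IsElementaryAbelian p (omegaOneCenter p Q) := by
  refine ⟨⟨⟨?_⟩⟩, fun a ha => (mem_omegaOneCenter.1 ha).2.2⟩
  intro x y
  apply Subtype.ext
  exact (mem_centralizer_iff.1 (mem_omegaOneCenter.1 y.2).2.1 x (mem_omegaOneCenter.1 x.2).1)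

/-- the standing hypotheses -/
structure Std (p : ℕ) {G : Type*} [Group G] (T : Sylow p G) (M V : Subgroup G) : Prop extends Loc p T M where
  mn : IsPMinimal p G
  cp : centralizer (pCore p G : Set G) ≤ pCore p G
  eqV : V = omegaOneCenter p (pCore p G)

variable {T : Sylow p G} {M V : Subgroup G} (s : Std p T M V)

include s

theorem Std.memV {x : G} : x ∈ V ↔ x ∈ pCore p G ∧ x ∈ centralizer (pCore p G : Set G) ∧ x ^ p = 1 := by
  rw [s.eqV]; exact mem_omegaOneCenter

theorem Std.nor : V.Normal := by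
  rw [s.eqV]
  have : (pCore p G).Normal := H1.Cores.pCore_normal p
  exact omegaOneCenter_normal _

theorem Std.elV : IsElementaryAbelian p V := by
  rw [s.eqV]; exact omegaOneCenter_elem _

theorem Std.QT : pCore p G ≤ (T : Subgroup G) := H1.Cores.pCore_le_sylow T

theorem Std.VT : V ≤ (T : Subgroup G) := fun x hx => s.QT (s.memV.1 hx).1

theorem Std.QC : pCore p G ≤ centralizer (V : Set G) := by
  intro x hx
  rw [mem_centralizer_iff]
  intro v hv
  exact (mem_centralizer_iff.1 (s.memV.1 hv).2.1 x hx).symm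

theorem Std.zT : omegaOneCenter p (T : Subgroup G) ≤ V ⊓ centralizer ((T : Subgroup G) : Set G) := by
  intro x hx
  obtain ⟨h1, h2, h3⟩ := mem_omegaOneCenter.1 hx
  have h4 : x ∈ centralizer (pCore p G : Set G) := centralizer_le s.QT h2
  exact mem_inf.2 ⟨s.memV.2 ⟨s.cp h4, h4, h3⟩, h2⟩

theorem Std.cen' : centralizer ((V ⊓ centralizer ((T : Subgroup G) : Set G) : Subgroup G) : Set G) ≤ M :=
  (centralizer_le s.zT).trans s.cen

theorem Std.CM : centralizer (V : Set G) ≤ M := by
  refine le_trans (centralizer_le ?_) s.cen'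
  exact inf_le_left (a := V) (b := centralizer ((T : Subgroup G) : Set G))

theorem Std.core {D : Subgroup G} (hD : D.Normal) (hDM : D ≤ M) : D ⊓ (T : Subgroup G) ≤ pCore p G := by
  refine le_trans (inf_le_inf_right _ ?_) (H53.PMin.core_inf_sylow_le_pCore s.mn s.max s.TM)
  exact (normal_le_normalCore).2 hDM

theorem Std.CT : centralizer (V : Set G) ⊓ (T : Subgroup G) ≤ pCore p G := by
  have := s.nor
  exact s.core inferInstance s.CM

theorem Std.ms :
    haveI := s.nor
    MS p ((T : Subgroup G).map (ph V)) (M.map (ph V)) := by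
  haveI := s.nor
  have hab := ab_of s.elV
  have hker := ph_ker V hab
  have hsurj := ph_surj V
  refine ⟨T.2.map _, ?_, ?_, map_mono s.TM, ?_, ?_⟩
  · rw [relIndex_top_right]
    intro h
    exact T.not_dvd_index (h.trans (index_map_dvd _ hsurj))
  · intro h
    apply s.max.1
    have h1 := comap_map_eq (ph V) M
    rw [h, comap_top, hker, sup_eq_left.2 s.CM] at h1
    exact h1.symm
  · intro N hN hTN
    have h1 : N.comap (ph V) ≤ M := by
      apply s.uniq
      · intro h
        apply hN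
        rw [← map_comap_eq_self_of_surjective hsurj N, h, ← MonoidHom.range_eq_map, MonoidHom.range_eq_top.2 hsurj]
      · exact (le_comap_map _ _).trans (comap_mono hTN)
    rw [← map_comap_eq_self_of_surjective hsurj N]
    exact map_mono h1
  · intro N hN hNp
    have hNT : N ≤ (T : Subgroup G).map (ph V) := by
      have h1 := (T.mapSurjective hsurj)
      have h2 : N ≤ ((T.mapSurjective hsurj : Sylow p _) : Subgroup ↥(HH V)) :=
        (H1.Cores.le_pCore hN hNp).trans (H1.Cores.pCore_le_sylow _)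
      exact h2
    have hDn : (N.comap (ph V)).Normal := hN.comap _
    have hCD : centralizer (V : Set G) ≤ N.comap (ph V) := by
      rw [← hker]; exact ker_le_comap _ _
    have h1 : N.comap (ph V) ≤ (T : Subgroup G) ⊔ centralizer (V : Set G) := by
      rw [← hker, ← comap_map_eq]
      exact comap_mono hNT
    have h2 := s.core hDn (h1.trans (sup_le s.TM s.CM))
    have h3 : N.comap (ph V) ≤ centralizer (V : Set G) := by
      intro x hx
      obtain ⟨t, ht, c, hc, rfl⟩ := mem_sup_of_normal_right.1 (h1 hx)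
      have h4 : t ∈ N.comap (ph V) := by
        have := mul_mem hx (inv_mem (hCD hc))
        rwa [mul_inv_cancel_right] at this
      exact mul_mem (s.QC (h2 ⟨h4, ht⟩)) hc
    rw [← map_comap_eq_self_of_surjective hsurj N]
    exact (Subgroup.map_eq_bot_iff _).2 (h3.trans hker.ge)

/-- members of `𝒜` are offenders -/
theorem Std.card_le {K A : Subgroup G} (hA : A ∈ H14.MaxIn.maxIn true p K) (hVK : V ≤ K) :
    haveI := s.nor
    letI := H51.NAct.addV V (ab_of s.elV)
    letI := actH V (ab_of s.elV)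
    Nat.card (Additive V) ≤ vl (Additive V) (A.map (ph V)) := by
  haveI := s.nor
  letI := H51.NAct.addV V (ab_of s.elV)
  letI := actH V (ab_of s.elV)
  have hker := ph_ker V (ab_of s.elV)
  have h1 := H1.Hall.card_map_mul_card_inf_ker (ph V) A
  rw [hker] at h1
  set D := A ⊓ centralizer (V : Set G) with hD
  have hcen : V ≤ centralizer (D : Set G) := by
    rw [Subgroup.le_centralizer_iff]
    exact inf_le_right
  have hVD : V ≤ normalizer (D : Set G) := hcen.trans (centralizer_le_normalizer _)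
  have h2 := H13.Thompson.card_sup_mul_card_inf hVD
  have h3 : Nat.card ↥(V ⊔ D) ≤ Nat.card A := by
    refine hA.2.2 _ (sup_le hVK (inf_le_left.trans hA.1)) ?_
    refine H52.Offender.prE_sup (H14.MaxIn.prE_true.2 s.elV) (hA.2.1.mono inf_le_left) ?_
    intro x hx y hy
    exact ((mem_centralizer_iff.1 hy.2) x hx)
  have h4 : Nat.card ↥(V ⊓ D) ≤ Nat.card ↥(V ⊓ centralizer (A : Set G)) := by
    apply Nat.card_mono (Set.toFinite _)
    have h7 : A ≤ centralizer (A : Set G) := by
      intro x hx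
      rw [mem_centralizer_iff]
      intro y hy
      exact hA.2.1.comm hy hx
    exact inf_le_inf_left V (inf_le_left.trans h7)
  unfold vl
  rw [card_fx_map V (ab_of s.elV)]
  have h5 : Nat.card V * Nat.card D ≤ (Nat.card ↥(A.map (ph V)) * Nat.card D) * Nat.card ↥(V ⊓ centralizer (A : Set G)) := by
    rw [← h2, h1]
    exact Nat.mul_le_mul h3 h4
  have h6 : Nat.card (Additive V) = Nat.card V := rfl
  rw [h6]
  apply Nat.le_of_mul_le_mul_right _ (Nat.card_pos (α := D))
  calc Nat.card V * Nat.card D ≤ _ := h5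
    _ = _ := by ring

omit s in
theorem maxIn_conj {K A : Subgroup G} (hA : A ∈ H14.MaxIn.maxIn true p K) {g : G}
    (h : A.map (MulAut.conj g).toMonoidHom ≤ K) : A.map (MulAut.conj g).toMonoidHom ∈ H14.MaxIn.maxIn true p K := by
  refine H14.MaxIn.mem_maxIn_of_card hA h (hA.2.1.map _) ?_
  exact card_map_of_injective (MulAut.conj g).injective

theorem Std.exA : ∃ A ∈ H14.MaxIn.maxIn true p (T : Subgroup G), ¬ A ≤ centralizer (V : Set G) := by
  by_contra hcon
  push Not at hcon
  apply s.max.1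
  rw [eq_top_iff]
  refine le_trans ?_ s.nz
  intro g _
  have hQ : (pCore p G).Normal := H1.Cores.pCore_normal p
  have key : ∀ g : G, (thompsonSubgroupOf p (T : Subgroup G)).map (MulAut.conj g).toMonoidHom ≤
      thompsonSubgroupOf p (T : Subgroup G) := by
    intro g
    rw [map_le_iff_le_comap, H52.SFour.thompsonOf_le_iff]
    intro A hA
    rw [← map_le_iff_le_comap, H52.SFour.thompsonOf_eq]
    apply le_sSup
    apply maxIn_conj hA
    have h1 : A ≤ pCore p G := (le_inf (hcon A hA) hA.1).trans s.CT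
    refine le_trans (map_mono h1) ?_
    refine le_trans ?_ s.QT
    rintro _ ⟨x, hx, rfl⟩
    exact hQ.conj_mem x hx g
  rw [mem_normalizer_iff_map_conj_eq]
  apply le_antisymm (key g)
  have h2 := map_mono (f := (MulAut.conj g).toMonoidHom) (key g⁻¹)
  rw [Subgroup.map_map] at h2
  have h3 : (MulAut.conj g).toMonoidHom.comp (MulAut.conj g⁻¹).toMonoidHom = MonoidHom.id G := by
    ext x
    show g * (g⁻¹ * x * g⁻¹⁻¹) * g⁻¹ = x
    group
  rwa [h3, Subgroup.map_id] at h2

omit s in
theorem maxIn_top {A : Subgroup G} (hA : A ∈ H14.MaxIn.maxIn true p (T : Subgroup G)) :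
    A ∈ H14.MaxIn.maxIn true p (⊤ : Subgroup G) := by
  refine ⟨le_top, hA.2.1, ?_⟩
  intro B _ hB
  have hBp : IsPGroup p B := H13.ElemAb.isPGroup (H14.MaxIn.prE_true.1 hB)
  obtain ⟨g, hg⟩ : ∃ g : G, B.map (MulAut.conj g).toMonoidHom ≤ (T : Subgroup G) := by
    obtain ⟨S', hS'⟩ := hBp.exists_le_sylow
    obtain ⟨g, hg⟩ := MulAction.exists_smul_eq G S' T
    refine ⟨g, ?_⟩
    rw [← hg]
    exact map_mono hS'
  have h1 := hA.2.2 _ hg (hB.map _)
  rwa [card_map_of_injective (MulAut.conj g).injective] at h1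

omit s in
theorem thompson_eq : thompsonSubgroup p G = sSup (H14.MaxIn.maxIn true p (⊤ : Subgroup G)) := by
  rw [thompsonSubgroup]
  congr 1
  ext A
  simp only [maxElementaryAbelianSubgroups, H14.MaxIn.maxIn, Set.mem_ofPred_eq, H14.MaxIn.prE_true, le_top, true_and,
      forall_true_left]

theorem Std.sit :
    haveI := s.nor
    letI := H51.NAct.addV V (ab_of s.elV)
    letI := actH V (ab_of s.elV)
    Sit p (Additive V) ((T : Subgroup G).map (ph V)) (M.map (ph V)) := by
  haveI := s.nor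
  letI := H51.NAct.addV V (ab_of s.elV)
  letI := actH V (ab_of s.elV)
  refine ⟨s.ms, pz_of s.elV (ab_of s.elV), faith V (ab_of s.elV), ?_, ?_⟩
  · intro h hh
    obtain ⟨g, rfl⟩ := ph_surj V h
    refine ⟨g, s.cen' ?_, rfl⟩
    rw [mem_centralizer_iff]
    rintro x hx
    have hx1 : x ∈ V := hx.1
    have hx2 : x ∈ centralizer ((T : Subgroup G) : Set G) := hx.2
    have h1 := hh (Additive.ofMul ⟨x, hx1⟩) ((mem_fx_map V (ab_of s.elV) _ _).2 hx2)
    exact ((ph_smul_eq V (ab_of s.elV) _ _).1 h1).symm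
  · obtain ⟨A, hA, hAC⟩ := s.exA
    refine ⟨A.map (ph V), (T.2.to_le hA.1).map _, ?_, ?_, s.card_le hA s.VT⟩
    · rintro _ ⟨a, ha, rfl⟩ _ ⟨b, hb, rfl⟩
      rw [← map_mul, ← map_mul, hA.2.1.comm ha hb]
    · intro h
      apply hAC
      rw [← ph_ker V (ab_of s.elV)]
      exact (Subgroup.map_eq_bot_iff _).1 h

/-- the data -/
def Concl (p : ℕ) {G : Type*} [Group G] (T : Sylow p G) (V C J : Subgroup G) : Prop :=
  ∃ (r : ℕ) (E : Fin r → Subgroup G), (∀ i, C ≤ E i) ∧ J ⊔ (T : Subgroup G) ⊔ C = ⊤ ∧ (⨆ i, E i) = J ⊔ C ∧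
    (∀ i j, i ≠ j → ⁅E i, E j⁆ ≤ C) ∧ (∀ i, E i ⊓ (⨆ j ∈ {j | j ≠ i}, E j) ≤ C) ∧
    (∀ i j, ∃ t ∈ (T : Subgroup G), (E i).map (MulAut.conj t).toMonoidHom = E j) ∧
    (V ⊓ Subgroup.centralizer ((⨆ i, E i : Subgroup G) : Set G)) ⊔ (⨆ i, ⁅V, E i⁆) = V ∧
    (∀ i j, i ≠ j → ⁅⁅V, E i⁆, E j⁆ = ⊥) ∧
    ∀ i, ∃ n : ℕ, 1 ≤ n ∧ ((∃ (F : Type) (_ : Field F) (_ : Fintype F), Fintype.card F = p ^ n ∧
      (∃ _ : (C.subgroupOf (E i)).Normal, Nonempty (↥(E i) ⧸ C.subgroupOf (E i) ≃* Matrix.SpecialLinearGroup (Fin 2) F)) ∧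
      Cfsg.ActsAsSL2OnSection F ⊤ (E i) ⁅V, E i⁆ (⁅V, E i⁆ ⊓ Subgroup.centralizer ((E i : Subgroup G) : Set G))) ∨
      (p = 2 ∧ (∃ _ : (C.subgroupOf (E i)).Normal, Nonempty (↥(E i) ⧸ C.subgroupOf (E i) ≃* Equiv.Perm (Fin (2 ^ n + 1)))) ∧
        Cfsg.ActsAsOddPermModuleOnSection (2 ^ n + 1) ⊤ (E i) ⁅V, E i⁆
          (⁅V, E i⁆ ⊓ Subgroup.centralizer ((E i : Subgroup G) : Set G))))

omit s [Finite G] hp in
theorem quot_iso {H K : Type*} [Group H] [Group K] {f : G →* H} (hf : Function.Surjective f) {C : Subgroup G}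
    (hC : f.ker = C) (E : Subgroup H) (ρ : ↥E ≃* K) :
    ∃ _ : (C.subgroupOf (E.comap f)).Normal, Nonempty (↥(E.comap f) ⧸ C.subgroupOf (E.comap f) ≃* K) := by
  subst hC
  let θ : ↥(E.comap f) →* ↥E :=
    { toFun := fun g => ⟨f (g : G), g.2⟩
      map_one' := Subtype.ext (map_one f)
      map_mul' := fun a b => Subtype.ext (map_mul f (a : G) (b : G)) }
  have hθ : Function.Surjective θ := by
    rintro ⟨x, hx⟩
    obtain ⟨k, rfl⟩ := hf x
    exact ⟨⟨k, hx⟩, rfl⟩
  have hk : θ.ker = f.ker.subgroupOf (E.comap f) := by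
    ext x
    rw [MonoidHom.mem_ker, mem_subgroupOf, MonoidHom.mem_ker]
    exact ⟨fun h => congrArg Subtype.val h, fun h => Subtype.ext h⟩
  refine ⟨by rw [← hk]; infer_instance, ⟨?_⟩⟩
  exact ((QuotientGroup.quotientMulEquivOfEq hk.symm).trans (QuotientGroup.quotientKerEquivOfSurjective θ hθ)).trans ρ

theorem Std.concl
    (hfin : haveI := s.nor
      letI := H51.NAct.addV V (ab_of s.elV)
      letI := actH V (ab_of s.elV)
      ∃ (r : ℕ) (E : Fin r → Subgroup ↥(HH V)), Out p (Additive V) ((T : Subgroup G).map (ph V)) E ∧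
        (∀ A : Subgroup ↥(HH V), IsPGroup p A → (∀ a ∈ A, ∀ b ∈ A, a * b = b * a) →
          Nat.card (Additive V) ≤ vl (Additive V) A → A ≤ iSup E) ∧
        (∀ N : Subgroup ↥(HH V), N.Normal → ∀ A ≤ N, IsPGroup p A → (∀ a ∈ A, ∀ b ∈ A, a * b = b * a) → A ≠ ⊥ →
          Nat.card (Additive V) ≤ vl (Additive V) A → iSup E ≤ N)) :
    Concl p T V (centralizer (V : Set G)) (thompsonSubgroup p G) := by
  haveI := s.nor
  letI := H51.NAct.addV V (ab_of s.elV)
  letI := actH V (ab_of s.elV)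
  have hker := ph_ker V (ab_of s.elV)
  have hsurj := ph_surj V
  have tr' := tr V (ab_of s.elV)
  obtain ⟨r, E, o, x1, x2⟩ := hfin
  have hup : ∀ E : Subgroup ↥(HH V), up (pt V) E = E.comap (ph V) := fun E => up_eq (ph V) E
  have hC : ∀ K : Subgroup ↥(HH V), centralizer (V : Set G) ≤ K.comap (ph V) := by
    intro K
    rw [← hker]; exact ker_le_comap _ _
  have hne : Nonempty (Fin r) := ⟨⟨0, o.pos⟩⟩
  have hsup : (⨆ i, (E i).comap (ph V)) = (⨆ i, E i).comap (ph V) := by
    apply le_antisymm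
    · exact iSup_le fun i => comap_mono (le_iSup E i)
    · have h1 : (⨆ i, E i) = (⨆ i, (E i).comap (ph V)).map (ph V) := by
        rw [Subgroup.map_iSup]
        congr 1
        ext1 i
        rw [map_comap_eq_self_of_surjective hsurj]
      rw [h1, comap_map_eq, hker]
      apply sup_le le_rfl
      exact (hC (E (Classical.arbitrary _))).trans (le_iSup (fun i => (E i).comap (ph V)) _)
  have hJ : (thompsonSubgroup p G).map (ph V) = ⨆ i, E i := by
    apply le_antisymm
    · rw [map_le_iff_le_comap, thompson_eq, sSup_le_iff]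
      intro A hA
      rw [← map_le_iff_le_comap]
      refine x1 _ ((H13.ElemAb.isPGroup (H14.MaxIn.prE_true.1 hA.2.1)).map _) ?_ (s.card_le hA le_top)
      rintro _ ⟨a, ha, rfl⟩ _ ⟨b, hb, rfl⟩
      rw [← map_mul, ← map_mul, hA.2.1.comm ha hb]
    · obtain ⟨A, hA, hAC⟩ := s.exA
      have hJn : (thompsonSubgroup p G).Normal := by
        constructor
        intro n hn g
        have h1 : (thompsonSubgroup p G).map (MulAut.conj g).toMonoidHom ≤ thompsonSubgroup p G := by
          rw [map_le_iff_le_comap, thompson_eq, sSup_le_iff]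
          intro A hA
          rw [← map_le_iff_le_comap]
          exact le_sSup (maxIn_conj hA le_top)
        exact h1 ⟨n, hn, rfl⟩
      refine x2 _ (hJn.map _ hsurj) (A.map (ph V)) ?_ ((T.2.to_le hA.1).map _) ?_ ?_ (s.card_le hA s.VT)
      · apply map_mono
        rw [thompson_eq]
        exact le_sSup (maxIn_top hA)
      · rintro _ ⟨a, ha, rfl⟩ _ ⟨b, hb, rfl⟩
        rw [← map_mul, ← map_mul, hA.2.1.comm ha hb]
      · intro h
        apply hAC
        rw [← hker]
        exact (Subgroup.map_eq_bot_iff _).1 h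
  have hJC : (⨆ i, (E i).comap (ph V)) = thompsonSubgroup p G ⊔ centralizer (V : Set G) := by
    rw [hsup, ← hJ, comap_map_eq, hker]
  refine ⟨r, fun i => (E i).comap (ph V), fun i => hC _, ?_, hJC, ?_, ?_, ?_, ?_, ?_, ?_⟩
  · rw [sup_right_comm, ← hJC, hsup]
    have h1 := congrArg (Subgroup.comap (ph V)) o.top
    rw [comap_top, ← Subgroup.comap_sup_eq _ _ _ hsurj, comap_map_eq, hker] at h1
    rw [← h1, sup_comm (T : Subgroup G), ← sup_assoc, sup_eq_left.2 (hC _)]
  · intro i j hij
    rw [← hker, ← Subgroup.map_eq_bot_iff, Subgroup.map_commutator, map_comap_eq_self_of_surjective hsurj,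
      map_comap_eq_self_of_surjective hsurj, Subgroup.commutator_eq_bot_iff_le_centralizer]
    exact cm_iff.1 (o.cm hij)
  · intro i
    rw [← hker, ← Subgroup.map_eq_bot_iff, eq_bot_iff, ← o.inf_bot i]
    refine le_trans (map_inf_le _ _ _) ?_
    rw [map_comap_eq_self_of_surjective hsurj]
    apply inf_le_inf_left
    rw [Subgroup.map_iSup]
    apply iSup_mono
    intro j
    rw [Subgroup.map_iSup]
    apply iSup_mono
    intro _
    rw [map_comap_eq_self_of_surjective hsurj]
  · intro i j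
    obtain ⟨t, ⟨t, ht, rfl⟩, htE⟩ := o.conj i j
    refine ⟨t, ht, ?_⟩
    show ((E i).comap (ph V)).map (MulAut.conj t).toMonoidHom = (E j).comap (ph V)
    ext x
    rw [← htE, mem_comap, mem_cg]
    constructor
    · rintro ⟨y, hy, rfl⟩
      show (ph V t)⁻¹ * ph V (t * y * t⁻¹) * ph V t ∈ E i
      rw [map_mul, map_mul, map_inv]
      have : (ph V t)⁻¹ * (ph V t * ph V y * (ph V t)⁻¹) * ph V t = ph V y := by group
      rw [this]; exact hy
    · intro h
      refine ⟨t⁻¹ * x * t, ?_, ?_⟩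
      · show ph V (t⁻¹ * x * t) ∈ E i
        rw [map_mul, map_mul, map_inv]; exact h
      · show t * (t⁻¹ * x * t) * t⁻¹ = x
        group
  · have h1 := tr'.out7 o
    simp only [hup] at h1
    exact h1
  · intro i j hij
    have h1 := tr'.out8 o hij
    rw [hup, hup] at h1
    exact h1
  · intro i
    obtain ⟨n, hn, h1 | ⟨hp2, h1⟩⟩ := o.str i
    · refine ⟨n, hn, Or.inl ?_⟩
      obtain ⟨F, i2, i3, h0, ⟨ρ⟩, h2⟩ := tr'.outSL o h1
      rw [hup] at h2
      exact ⟨F, i2, i3, h0, quot_iso hsurj hker (E i) ρ, h2⟩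
    · refine ⟨n, hn, Or.inr ⟨hp2, ?_⟩⟩
      obtain ⟨⟨ρ⟩, h2⟩ := tr'.outSy o h1
      rw [hup] at h2
      exact ⟨quot_iso hsurj hker (E i) ρ, h2⟩

end pm

end H52.CSS
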