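import Cfsg.Agent.Lib.H52.SFour
import Cfsg.Agent.Lib.H13.Transport

/-!
# `S₄`-free solvable groups with Sylow 2-subgroups of class at most 2: `G = N_G(J(S)) O_{2'}(G)`
-/

set_option autoImplicit false

namespace H52.SFour2

open Subgroup H14.MaxIn Cfsg H38.Basic H52.SFour
open scoped commutatorElement

/-- reduction: the factorization modulo a normal `p'`-subgroup -/
theorem sup_of_quotient {G : Type*} [Group G] [Finite G] {p : ℕ} [hp : Fact p.Prime] (S : Sylow p G)
    {Y : Subgroup G} [Y.Normal] (hY : (Nat.card Y).Coprime p)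
    (h : (thompsonSubgroupOf p ((S : Subgroup G).map (QuotientGroup.mk' Y))).Normal) :
    normalizer (thompsonSubgroupOf p (S : Subgroup G) : Set G) ⊔ Y = ⊤ := by
  set π := QuotientGroup.mk' Y with hπ
  have hπs : Function.Surjective π := QuotientGroup.mk'_surjective Y
  have hker : π.ker = Y := QuotientGroup.ker_mk' Y
  have h1 : (S : Subgroup G) ⊓ π.ker = ⊥ := by
    rw [hker]; exact H1.Cores.disjoint_of_isPGroup S.2 hY
  rw [← H13.Transport.map_thompsonOf (p := p) (S : Subgroup G) π h1] at h
  have h2 := H52.ThompNPC.map_normalizer (p := p) (Y := Y) (S.2.to_le (H13.SylowN.thompsonOf_le (p := p) (S : Subgroup G))) hY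
  rw [normalizer_eq_top_iff.2 h] at h2
  have h3 : (normalizer (thompsonSubgroupOf p (S : Subgroup G) : Set G) ⊔ Y).map π = ⊤ := by
    rw [Subgroup.map_sup, h2, top_sup_eq]
  have h4 := congrArg (fun X => Subgroup.comap π X) h3
  simp only [comap_top] at h4
  rw [comap_map_eq, hker, sup_assoc, sup_idem] at h4
  exact h4

theorem maxIn_eq_of_le {G : Type*} [Group G] [Finite G] {e : Bool} {p : ℕ} {D E : Subgroup G}
    (h1 : ∀ A ∈ maxIn e p D, A ≤ E) (h2 : E ≤ D) : maxIn e p E = maxIn e p D := by
  have h3 : ∀ A ∈ maxIn e p D, A ∈ maxIn e p E := fun A hA =>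
    ⟨h1 A hA, hA.2.1, fun B hB hB2 => hA.2.2 B (hB.trans h2) hB2⟩
  ext A
  refine ⟨fun hA => ?_, h3 A⟩
  obtain ⟨A₀, hA₀⟩ := maxIn_nonempty e p D
  refine mem_maxIn_of_card hA₀ (hA.1.trans h2) hA.2.1 ?_
  exact le_antisymm (hA₀.2.2 A (hA.1.trans h2) hA.2.1) (hA.2.2 A₀ (h3 A₀ hA₀).1 hA₀.2.1)

theorem thompsonOf_eq_of_le {G : Type*} [Group G] [Finite G] {p : ℕ} {D E : Subgroup G}
    (h1 : thompsonSubgroupOf p D ≤ E) (h2 : E ≤ D) : thompsonSubgroupOf p E = thompsonSubgroupOf p D := by
  rw [thompsonOf_eq, thompsonOf_eq, maxIn_eq_of_le (fun A hA => (thompsonOf_le_iff.1 h1) A hA) h2]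

theorem main_aux : ∀ (n : ℕ) (G : Type*) [Group G] [Finite G], Nat.card G ≤ n → Group.IsSolvable G →
    ¬ Involves (Equiv.Perm (Fin 4)) G → ∀ S : Sylow 2 G,
    ⁅⁅(S : Subgroup G), (S : Subgroup G)⁆, (S : Subgroup G)⁆ = ⊥ →
    normalizer (thompsonSubgroupOf 2 (S : Subgroup G) : Set G) ⊔ pPrimeCore 2 G = ⊤ := by
  have h2p : Fact (Nat.Prime 2) := ⟨Nat.prime_two⟩
  intro n
  induction n with
  | zero =>
    intro G _ _ hn
    have := Nat.card_pos (α := G)
    omega
  | succ n ih =>
    intro G _ _ hn hs hfree S hcl
    by_cases hO : pPrimeCore 2 G = ⊥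
    · rw [hO, sup_bot_eq, normalizer_eq_top_iff]
      have hc := H1.Solv.centralizer_pCore_le hs 2 hO
      set V := H13.Omega.omegaClosure 2 G with hV
      have hVn : V.Normal := H13.Omega.omegaClosure_normal
      have hJ : thompsonSubgroupOf 2 (S : Subgroup G) ≤ centralizer (V : Set G) :=
        thompson_le_centralizer hs hfree hc S
      set C := centralizer (V : Set G) with hC
      have hCn : C.Normal := inferInstance
      by_cases hCt : C = ⊤
      · -- `S` is normal
        have h1 : (S : Subgroup G) ≤ pCore 2 G := by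
          apply sylow_le_pCore hs hc S hcl
          intro z hz hz2 hzS g
          have hzV : z ∈ V := by
            apply H13.Omega.omegaZ_le_omegaClosure S
            apply H13.Omega.mem_omegaOne_of _ hz2
            exact mem_inf.2 ⟨hz, mem_centralizer_iff.2 hzS⟩
          have hg : g ∈ C := by rw [hCt]; trivial
          exact (mem_centralizer_iff.1 hg z hzV).symm
        have h2 : (S : Subgroup G) = pCore 2 G := le_antisymm h1 (H1.Cores.pCore_le_sylow S)
        have hSn : (S : Subgroup G).Normal := by rw [h2]; exact H1.Cores.pCore_normal 2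
        rw [← normalizer_eq_top_iff, eq_top_iff, ← normalizer_eq_top_iff.2 hSn]
        exact H13.SylowN.normalizer_le_normalizer_thompsonOf _
      · -- induction on `C`
        have hcard : Nat.card C ≤ n := by
          have h1 := H14.ZJ.card_lt_of_lt (lt_top_iff_ne_top.mpr hCt)
          rw [card_top] at h1
          omega
        have hT : IsSyl 2 ((S : Subgroup G) ⊓ C) C :=
          (isSyl_sylow S).inf_normal le_top (by rw [normalizer_eq_top])
        set T := hT.toSylow with hTdef
        have hTm : (T : Subgroup C).map C.subtype = (S : Subgroup G) ⊓ C := hT.map_toSylow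
        have hsC : Group.IsSolvable C := inferInstance
        have hfreeC : ¬ Involves (Equiv.Perm (Fin 4)) C :=
          fun h => hfree (H51.Involves.involves_of_injective C.subtype C.subtype_injective h)
        have hclT : ⁅⁅(T : Subgroup C), (T : Subgroup C)⁆, (T : Subgroup C)⁆ = ⊥ := by
          have h1 : (⁅⁅(T : Subgroup C), (T : Subgroup C)⁆, (T : Subgroup C)⁆).map C.subtype ≤
              ⁅⁅(S : Subgroup G), (S : Subgroup G)⁆, (S : Subgroup G)⁆ := by
            rw [map_commutator, map_commutator, hTm]
            exact commutator_mono (commutator_mono inf_le_left inf_le_left) inf_le_left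
          rw [hcl, le_bot_iff] at h1
          exact (Subgroup.map_eq_bot_iff_of_injective _ C.subtype_injective).1 h1
        have hind := ih C hcard hsC hfreeC T hclT
        have hOC : pPrimeCore 2 C = ⊥ := by
          have hn1 : ((pPrimeCore 2 C).map C.subtype).Normal := inferInstance
          have h1 : (pPrimeCore 2 C).map C.subtype ≤ pPrimeCore 2 G := by
            apply H1.Cores.le_pPrimeCore hn1
            rw [card_map_of_injective C.subtype_injective]
            exact H1.Cores.coprime_card_pPrimeCore 2
          rw [hO, le_bot_iff] at h1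
          exact (Subgroup.map_eq_bot_iff_of_injective _ C.subtype_injective).1 h1
        rw [hOC, sup_bot_eq] at hind
        have hTJ : thompsonSubgroupOf 2 ((S : Subgroup G) ⊓ C) = thompsonSubgroupOf 2 (S : Subgroup G) :=
          thompsonOf_eq_of_le (le_inf (H13.SylowN.thompsonOf_le _) hJ) inf_le_left
        have hmapJ : (thompsonSubgroupOf 2 (T : Subgroup C)).map C.subtype =
            thompsonSubgroupOf 2 (S : Subgroup G) := by
          rw [H13.Transport.map_thompsonOf (p := 2) (T : Subgroup C) C.subtype
            (by rw [C.ker_subtype, inf_bot_eq]), hTm, hTJ]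
        have hCJ : C ≤ normalizer (thompsonSubgroupOf 2 (S : Subgroup G) : Set G) := by
          rw [← hmapJ]
          refine le_trans ?_ (le_normalizer_map C.subtype)
          rw [hind, ← MonoidHom.range_eq_map, range_subtype]
        rw [← normalizer_eq_top_iff, eq_top_iff, ← H13.SylowN.frattini S C]
        refine sup_le ?_ hCJ
        rw [← hTJ]
        exact H13.SylowN.normalizer_le_normalizer_thompsonOf _
    · -- reduction modulo `O_{2'}(G)`
      have hYc : (Nat.card (pPrimeCore 2 G)).Coprime 2 := H1.Cores.coprime_card_pPrimeCore 2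
      set Y := pPrimeCore 2 G with hY
      apply sup_of_quotient S hYc
      have hcard : Nat.card (G ⧸ Y) ≤ n := by
        have h1 := Y.card_mul_index
        rw [index_eq_card] at h1
        have h2 : 1 < Nat.card Y := by
          have h3 : Nat.card Y ≠ 1 := fun h => hO (Subgroup.card_eq_one.mp h)
          have h4 := Nat.card_pos (α := Y)
          omega
        have h3 : 0 < Nat.card (G ⧸ Y) := Nat.card_pos
        nlinarith
      set π := QuotientGroup.mk' Y with hπ
      have hπs : Function.Surjective π := QuotientGroup.mk'_surjective Y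
      have hind := ih (G ⧸ Y) hcard inferInstance
        (fun h => hfree (H51.Involves.involves_of_hom π hπs h)) (S.mapSurjective hπs) (by
          show ⁅⁅(S : Subgroup G).map π, (S : Subgroup G).map π⁆, (S : Subgroup G).map π⁆ = ⊥
          rw [← map_commutator, ← map_commutator, hcl, Subgroup.map_bot])
      have hO1 : pPrimeCore 2 (G ⧸ Y) = ⊥ := H1.Cores.pPrimeCore_quotient_pPrimeCore 2
      rw [hO1, sup_bot_eq] at hind
      exact normalizer_eq_top_iff.1 hind

end H52.SFour2
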