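import Cfsg.Agent.Lib.H52.EG1
import Cfsg.Agent.Lib.H52.SFour
import Cfsg.Agent.Lib.H52.SFour2
import Cfsg.Agent.Lib.H52.CSS

/-!
# `Ĵ(S)` and `Ω₁(Z(Ĵ(S)))`
-/

set_option autoImplicit false
set_option linter.unusedVariables false
set_option linter.unusedSectionVars false

namespace H52.EGr

open Subgroup Cfsg H14.GF H14.MaxIn

section

variable {G K : Type*} [Group G] [Group K] [Finite G] [Finite K]

theorem prE_iff {A : Subgroup G} : PrE true 2 A ↔ EL A := by
  constructor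
  · intro h
    refine ⟨fun a ha b hb => h.comm ha hb, fun a ha => ?_⟩
    rw [← pow_two]; exact h.2 rfl a ha
  · intro h
    refine prE_of h.1 (fun _ a ha => ?_)
    rw [pow_two]; exact h.2 a ha

theorem AA_eq (S : Subgroup G) : AA S = maxIn true 2 S := by
  ext A
  rw [mem_AA]
  constructor
  · rintro ⟨h1, h2, h3⟩
    exact ⟨h1, prE_iff.2 h2, fun B hB hE => h3 B hB (prE_iff.1 hE)⟩
  · rintro ⟨h1, h2, h3⟩
    exact ⟨h1, prE_iff.1 h2, fun B hB hE => h3 B hB (prE_iff.2 hE)⟩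

theorem JE_eq (S : Subgroup G) : JE S = thompsonSubgroupOf 2 S := by
  rw [JE, AA_eq, H52.SFour.thompsonOf_eq]

theorem JE_eq_of_le {S T : Subgroup G} (h1 : JE S ≤ T) (h2 : T ≤ S) : JE T = JE S := by
  rw [JE_eq, JE_eq]
  rw [JE_eq] at h1
  exact H52.SFour2.thompsonOf_eq_of_le h1 h2

theorem JE_map {f : K →* G} (hf : Function.Injective f) (S : Subgroup K) : JE (S.map f) = (JE S).map f := by
  rw [JE, JE, AA_eq, AA_eq, maxIn_map true 2 hf, sSup_image, sSup_eq_iSup]
  exact ((gc_map_comap f).l_iSup₂).symm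

theorem EG_map {f : K →* G} (hf : Function.Injective f) (T : Subgroup K) : EG (T.map f) ↔ EG T := by
  rw [← eg_iff T]
  have h := isEGroup_iff (K := ↥T) (f := f.comp T.subtype) (hf.comp T.subtype_injective)
  rw [MonoidHom.range_comp, range_subtype] at h
  exact h.symm

theorem isEGroup_sub (S : Subgroup G) (U : Subgroup ↥S) : IsEGroup ↥U ↔ EG (U.map S.subtype) := by
  rw [EG_map S.subtype_injective, eg_iff]

/-- the specification of `Ĵ(S)` -/
structure Sp (S T : Subgroup G) : Prop where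
  J : JE S ≤ T
  le : T ≤ S
  eg : EG T
  max : ∀ U : Subgroup G, JE S ≤ U → U ≤ S → EG U → U ≤ T

theorem Sp.unique {S T T' : Subgroup G} (h : Sp S T) (h' : Sp S T') : T = T' :=
  le_antisymm (h'.max T h.J h.le h.eg) (h.max T' h'.J h'.le h'.eg)

theorem sp_JH (S : Subgroup G) : Sp S (JH S) ∧
    ∀ X : Subgroup G, X ≤ S → (∀ T : Subgroup G, JE S ≤ T → T ≤ S → X ≤ T → ∀ V, Strong T V → X ≤ centralizer (V : Set G)) →
      X ≤ JH S := by
  obtain ⟨T, h1, h2, h3, h4, h5⟩ := exists_last S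
  have hJ : (thompsonSubgroup 2 ↥S).map S.subtype = JE S := by rw [JE_eq]; rfl
  have h : JH S = T := by
    apply le_antisymm
    · unfold JH jHat
      rw [map_le_iff_le_comap]
      apply sSup_le
      rintro U ⟨hU, hUJ⟩
      rw [← map_le_iff_le_comap]
      refine h4 _ ?_ (map_subtype_le U) ((isEGroup_sub S U).1 hU)
      rw [← hJ]
      exact map_mono hUJ
    · have e : (T.subgroupOf S).map S.subtype = T := by
        rw [subgroupOf_map_subtype, inf_eq_left.2 h2]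
      rw [← e]
      unfold JH jHat
      apply map_mono
      apply le_sSup
      refine ⟨(isEGroup_sub S _).2 (by rw [e]; exact h3), ?_⟩
      have h6 : (thompsonSubgroup 2 ↥S).map S.subtype ≤ (T.subgroupOf S).map S.subtype := by
        rw [hJ, e]; exact h1
      exact (map_le_map_iff_of_injective S.subtype_injective).1 h6
  rw [h]
  exact ⟨⟨h1, h2, h3, h4⟩, h5⟩

theorem JE_le_JH (S : Subgroup G) : JE S ≤ JH S := (sp_JH S).1.J
theorem JH_le (S : Subgroup G) : JH S ≤ S := (sp_JH S).1.le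
theorem JH_EG (S : Subgroup G) : EG (JH S) := (sp_JH S).1.eg

/-- (JH1) -/
theorem le_JH {S X : Subgroup G} (hX : X ≤ S)
    (h : ∀ T : Subgroup G, JE S ≤ T → T ≤ S → X ≤ T → ∀ V : Subgroup G, Strong T V → X ≤ centralizer (V : Set G)) :
    X ≤ JH S := (sp_JH S).2 X hX h

theorem JH_map {f : K →* G} (hf : Function.Injective f) (S : Subgroup K) : JH (S.map f) = (JH S).map f := by
  refine (sp_JH (S.map f)).1.unique ⟨?_, map_mono (JH_le S), (EG_map hf _).2 (JH_EG S), ?_⟩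
  · rw [JE_map hf]; exact map_mono (JE_le_JH S)
  · intro U h1 h2 h3
    have e : (U.comap f).map f = U := by
      rw [Subgroup.map_comap_eq, inf_eq_right]
      exact h2.trans (map_le_range f S)
    rw [← e]
    apply map_mono
    refine (sp_JH S).1.max _ ?_ ?_ ?_
    · rw [← map_le_iff_le_comap, ← JE_map hf]; exact h1
    · rw [← map_le_map_iff_of_injective hf, e]; exact h2
    · rw [← EG_map hf, e]; exact h3

theorem Z1_eq (S : Subgroup G) : Z1 S = omegaOneCenter 2 (JH S) := rfl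

theorem mem_Z1 {S : Subgroup G} {x : G} : x ∈ Z1 S ↔ x ∈ JH S ∧ x ∈ centralizer (JH S : Set G) ∧ x * x = 1 := by
  rw [Z1_eq, H52.CSS.mem_omegaOneCenter, pow_two]

theorem Z1_le (S : Subgroup G) : Z1 S ≤ JH S := fun x hx => (mem_Z1.1 hx).1

theorem Z1_EL (S : Subgroup G) : EL (Z1 S) :=
  ⟨fun a ha b hb => mem_centralizer_iff.1 (mem_Z1.1 hb).2.1 a (mem_Z1.1 ha).1, fun a ha => (mem_Z1.1 ha).2.2⟩

/-- (JH2) -/
theorem Z1_le_AA {S A : Subgroup G} (hA : A ∈ AA S) : Z1 S ≤ A := by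
  refine le_of_AA hA ((Z1_le S).trans (JH_le S)) (Z1_EL S) ?_
  intro a ha z hz
  exact mem_centralizer_iff.1 (mem_Z1.1 hz).2.1 a (((le_sSup hA).trans (JE_le_JH S)) ha)

theorem Z1_map {f : K →* G} (hf : Function.Injective f) (S : Subgroup K) : Z1 (S.map f) = (Z1 S).map f := by
  ext x
  constructor
  · intro hx
    obtain ⟨h1, h2, h3⟩ := mem_Z1.1 hx
    rw [JH_map hf] at h1 h2
    obtain ⟨y, hy, rfl⟩ := h1
    refine ⟨y, mem_Z1.2 ⟨hy, (mem_cen_map hf).1 h2, hf ?_⟩, rfl⟩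
    rw [map_mul, map_one]; exact h3
  · rintro ⟨y, hy, rfl⟩
    obtain ⟨h1, h2, h3⟩ := mem_Z1.1 hy
    rw [mem_Z1, JH_map hf]
    exact ⟨⟨y, h1, rfl⟩, (mem_cen_map hf).2 h2, by rw [← map_mul, h3, map_one]⟩

theorem nz_iff {S : Subgroup G} {g : G} : g ∈ normalizer (S : Set G) ↔ S.map (MulAut.conj g).toMonoidHom = S := by
  rw [mem_normalizer_iff_map_conj_eq]
  rfl

/-- conjugation invariance -/
theorem normalizer_le_JH (S : Subgroup G) : normalizer (S : Set G) ≤ normalizer (JH S : Set G) := by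
  intro g hg
  rw [nz_iff] at hg ⊢
  rw [← JH_map (MulAut.conj g).injective, hg]

theorem normalizer_JH_le_Z1 (S : Subgroup G) : normalizer (JH S : Set G) ≤ normalizer (Z1 S : Set G) := by
  have key : ∀ g ∈ normalizer (JH S : Set G), ∀ x ∈ Z1 S, g * x * g⁻¹ ∈ Z1 S := by
    intro g hg x hx
    obtain ⟨h1, h2, h3⟩ := mem_Z1.1 hx
    refine mem_Z1.2 ⟨(mem_normalizer_iff.1 hg x).1 h1, ?_, ?_⟩
    · rw [mem_centralizer_iff] at h2 ⊢
      intro y hy
      have h4 := h2 (g⁻¹ * y * g) (by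
        have := (mem_normalizer_iff.1 (inv_mem hg) y).1 hy
        rwa [inv_inv] at this)
      calc y * (g * x * g⁻¹) = g * ((g⁻¹ * y * g) * x) * g⁻¹ := by group
        _ = g * (x * (g⁻¹ * y * g)) * g⁻¹ := by rw [h4]
        _ = g * x * g⁻¹ * y := by group
    · have : g * x * g⁻¹ * (g * x * g⁻¹) = g * (x * x) * g⁻¹ := by group
      rw [this, h3]; group
  intro g hg
  rw [mem_normalizer_iff]
  intro x
  refine ⟨key g hg x, fun hx => ?_⟩
  have h1 := key g⁻¹ (inv_mem hg) _ hx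
  have e : g⁻¹ * (g * x * g⁻¹) * g⁻¹⁻¹ = x := by group
  rwa [e] at h1

theorem normalizer_le_Z1 (S : Subgroup G) : normalizer (S : Set G) ≤ normalizer (Z1 S : Set G) :=
  (normalizer_le_JH S).trans (normalizer_JH_le_Z1 S)

theorem S_le_normalizer_Z1 (S : Subgroup G) : S ≤ normalizer (Z1 S : Set G) := le_normalizer.trans (normalizer_le_Z1 S)

/-- E4 -/
theorem JH_of_strong {S V : Subgroup G} (hV : Strong S V) : JH S ≤ S ⊓ centralizer (V : Set G) ∧
    JH (S ⊓ centralizer (V : Set G)) = JH S := by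
  have h1 : JH S ≤ S ⊓ centralizer (V : Set G) :=
    le_inf (JH_le S) (le_cen_of_EG (JE_le_JH S) (JH_le S) le_rfl (JH_EG S) hV)
  refine ⟨h1, ?_⟩
  have hJ : JE (S ⊓ centralizer (V : Set G)) = JE S := JE_eq_of_le ((JE_le_JH S).trans h1) inf_le_left
  refine (sp_JH _).1.unique ⟨by rw [hJ]; exact JE_le_JH S, h1, JH_EG S, ?_⟩
  intro U h2 h3 h4
  rw [hJ] at h2
  exact (sp_JH S).1.max U h2 (h3.trans inf_le_left) h4

end

end H52.EGr
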