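import Cfsg.Agent.Lib.H52.QD3

/-!
The Thompson subgroup acts quadratically on the factors of an exceptional block.
-/

set_option autoImplicit false
set_option linter.unusedSectionVars false
set_option linter.unusedVariables false

namespace H52.QD

open Subgroup Cfsg H51.Bau H51.Bau.Ex
open scoped MatrixGroups commutatorElement

attribute [local instance] three_prime

section main

variable {G : Type*} [Group G] [Finite G] {T : Sylow 3 G} {E : Subgroup G} {F : Type} [Field F] [Fintype F]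

theorem exists_zet (ex : Ex T E F) : ∃ z, Zet E z := by
  obtain ⟨ρ, ψ, c⟩ := exists_crd ex.a2
  have h := neg_mem ex.hF
  rw [← c.rng] at h
  obtain ⟨z, hz⟩ := h
  exact ⟨z, ex.zet c hz⟩

/-- `W_E ∩ Z = 1` -/
theorem inf_triv (ex : Ex T E F) {x : G} (hx : x ∈ ⁅Wf E, E⁆) (hz : x ∈ Zf E) : x = 1 := by
  obtain ⟨z, hZ⟩ := exists_zet ex
  have hWn : ∀ {e w : G}, e ∈ E → w ∈ Wf E → e * w * e⁻¹ ∈ Wf E := fun {e w} he hw =>
    (mem_normalizer_iff.1 (nzEW (Subgroup.le_normalizer he)) w).1 hw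
  have hWc : ∀ {a b : G}, a ∈ Wf E → b ∈ Wf E → a * b = b * a := fun {a b} ha hb => Wcen hb (Wle ha)
  let K : Subgroup G :=
    { carrier := {w | w ∈ Wf E ∧ w * (z * w * z⁻¹) = 1}
      one_mem' := ⟨one_mem _, by group⟩
      mul_mem' := by
        rintro a b ⟨ha, ha'⟩ ⟨hb, hb'⟩
        refine ⟨mul_mem ha hb, ?_⟩
        have h1 := hWc hb (hWn hZ.zE ha)
        calc a * b * (z * (a * b) * z⁻¹) = a * (b * (z * a * z⁻¹)) * (z * b * z⁻¹) := by group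
          _ = (a * (z * a * z⁻¹)) * (b * (z * b * z⁻¹)) := by rw [h1]; group
          _ = 1 := by rw [ha', hb', one_mul]
      inv_mem' := by
        rintro a ⟨ha, ha'⟩
        refine ⟨inv_mem ha, ?_⟩
        have h1 : z * a * z⁻¹ = a⁻¹ := (inv_eq_of_mul_eq_one_right ha').symm
        have h2 : z * a⁻¹ * z⁻¹ = a := by
          calc z * a⁻¹ * z⁻¹ = (z * a * z⁻¹)⁻¹ := by group
            _ = a := by rw [h1, inv_inv]
        rw [h2, inv_mul_cancel] }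
  have hKm : ∀ w, w ∈ K ↔ w ∈ Wf E ∧ w * (z * w * z⁻¹) = 1 := fun w => Iff.rfl
  have hWK : ⁅Wf E, E⁆ ≤ K := by
    rw [Subgroup.commutator_le]
    intro w hw e he
    rw [commutatorElement_def, hKm]
    have hw' := hWn he (inv_mem hw)
    have e0 : w * e * w⁻¹ * e⁻¹ = w * (e * w⁻¹ * e⁻¹) := by group
    rw [e0]
    refine ⟨mul_mem hw hw', ?_⟩
    -- `q = z⁻¹ e⁻¹ z e ∈ Q`
    have hq : z⁻¹ * e⁻¹ * z * e ∈ Qf E := by
      have h1 := hZ.zc e⁻¹ (inv_mem he)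
      rw [inv_inv] at h1
      have h2 := (mem_normalizer_iff.1 (EQ (inv_mem hZ.zE)) _).1 h1
      have e1 : z⁻¹ * (e⁻¹ * z * e * z⁻¹) * z⁻¹⁻¹ = z⁻¹ * e⁻¹ * z * e := by group
      rwa [e1] at h2
    have hqw := Wcen (inv_mem hw) hq
    have h3 : z * (e * w⁻¹ * e⁻¹) * z⁻¹ = e * (z * w⁻¹ * z⁻¹) * e⁻¹ := by
      calc z * (e * w⁻¹ * e⁻¹) * z⁻¹ = e * z * ((z⁻¹ * e⁻¹ * z * e) * w⁻¹) * e⁻¹ * z⁻¹ := by group
        _ = e * z * (w⁻¹ * (z⁻¹ * e⁻¹ * z * e)) * e⁻¹ * z⁻¹ := by rw [hqw]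
        _ = e * (z * w⁻¹ * z⁻¹) * e⁻¹ := by group
    -- `τ(w⁻¹) ∈ Z`
    have h4 := hZ.zw _ (inv_mem hw)
    have h5 := Zcen h4 he
    have h6 : (e * w⁻¹ * e⁻¹) * (z * (e * w⁻¹ * e⁻¹) * z⁻¹) = w⁻¹ * (z * w⁻¹ * z⁻¹) := by
      rw [h3]
      calc e * w⁻¹ * e⁻¹ * (e * (z * w⁻¹ * z⁻¹) * e⁻¹) = (e * (w⁻¹ * (z * w⁻¹ * z⁻¹))) * e⁻¹ := by group
        _ = w⁻¹ * (z * w⁻¹ * z⁻¹) := by rw [h5]; group
    have h7 := hWc hw' (hWn hZ.zE hw)
    have h8 := hWc (inv_mem hw) (hWn hZ.zE hw)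
    calc w * (e * w⁻¹ * e⁻¹) * (z * (w * (e * w⁻¹ * e⁻¹)) * z⁻¹)
        = w * ((e * w⁻¹ * e⁻¹) * (z * w * z⁻¹)) * (z * (e * w⁻¹ * e⁻¹) * z⁻¹) := by group
      _ = w * (z * w * z⁻¹) * ((e * w⁻¹ * e⁻¹) * (z * (e * w⁻¹ * e⁻¹) * z⁻¹)) := by rw [h7]; group
      _ = w * ((z * w * z⁻¹) * w⁻¹) * (z * w⁻¹ * z⁻¹) := by rw [h6]; group
      _ = 1 := by rw [← h8]; group
  obtain ⟨h1, h2⟩ := (hKm x).1 (hWK hx)
  have h3 : z * x * z⁻¹ = x := by rw [Zcen hz hZ.zE]; group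
  rw [h3] at h2
  have h4 := W3 h1
  have : x ^ 3 = x * x * x := by rw [pow_succ, pow_two]
  rw [this, h2, one_mul] at h4
  exact h4

variable {ρ : ↥E →* SL(2, F)} {ψ : ↥(Wf E) →* Multiplicative (Fin 2 → F)}

theorem nz_le (hb : G) (h : hb ∈ normalizer (E : Set G)) : hb ∈ Nm (Wf E) (Zf E) ∧ hb ∈ Nm (Qf E) (Wf E) :=
  ⟨Subgroup.mem_inf.2 ⟨nzEW h, nzEZ h⟩, Subgroup.mem_inf.2 ⟨nzEQ h, nzEW h⟩⟩

theorem rep (c : Crd F E (Wf E) (Zf E) ρ ψ) {A : Subgroup G} (hAN : A ≤ normalizer (E : Set G)) :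
    Rep ↥A (fun a => bt ψ (a : G)) :=
  ⟨fun v => bt_one c v, fun a b v => bt_mul c (nz_le _ (hAN a.2)).1 (nz_le _ (hAN b.2)).1 v,
    fun a => cmp c (nz_le _ (hAN a.2)).1 (hAN a.2)⟩

/-- the offender inequality -/
theorem off (ex : Ex T E F) (c : Crd F E (Wf E) (Zf E) ρ ψ) {A : Subgroup G} (hAT : A ≤ (T : Subgroup G))
    (hAe : IsElementaryAbelian 3 A)
    (hmax : ∀ B ≤ (T : Subgroup G), IsElementaryAbelian 3 B → Nat.card B ≤ Nat.card A) (hAN : A ≤ normalizer (E : Set G)) :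
    Nat.card (Fin 2 → F) * Nat.card (rep c hAN).ker ≤ Nat.card A * Nat.card (rep c hAN).fix := by
  set X := ⁅Wf E, E⁆ with hX
  have hXW : X ≤ Wf E := ex.WE_W
  have hXV : X ≤ omegaOneCenter 3 (pCore 3 G) := ex.WE_V
  have hXT : X ≤ (T : Subgroup G) := (hXV.trans (H13.Omega.omegaZ_le _)).trans (H13.Cores.pCore_le_sylow T)
  have hXe : IsElementaryAbelian 3 X := H13.ElemAb.of_le Wel hXW
  have hXn : ∀ {a x : G}, a ∈ A → x ∈ X → a * x * a⁻¹ ∈ X := by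
    intro a x ha hx
    have h1 : a ∈ normalizer (X : Set G) := by
      have h2 := nzEW (hAN ha)
      have h3 := hAN ha
      rw [mem_normalizer_iff_map_conj_eq] at h2 h3 ⊢
      rw [hX, Subgroup.map_commutator, h2, h3]
    exact (mem_normalizer_iff.1 h1 x).1 hx
  have hac : ∀ {a b : G}, a ∈ A → b ∈ A → a * b = b * a := fun {a b} ha hb => H13.ElemAb.comm hAe ha hb
  set C := A ⊓ centralizer (X : Set G) with hC
  have hCX : C ≤ centralizer (X : Set G) := inf_le_right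
  have hCe : IsElementaryAbelian 3 C := H13.ElemAb.of_le hAe inf_le_left
  have hsup : IsElementaryAbelian 3 (C ⊔ X : Subgroup G) := H13.ElemAb.sup hCe hXe hCX
  have h1 := H13.Thompson.card_sup_mul_card_inf (hCX.trans (Subgroup.centralizer_le_normalizer _))
  have h2 := hmax (C ⊔ X) (sup_le (inf_le_left.trans hAT) hXT) hsup
  -- (1)
  have k1 : Nat.card (Fin 2 → F) ≤ Nat.card X := by
    refine Nat.card_le_card_of_surjective (fun x : X => Multiplicative.toAdd (ψ ⟨x, hXW x.2⟩)) ?_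
    intro v
    obtain ⟨u, rfl⟩ := ex_u c v
    obtain ⟨a, ha, y, hy, hay⟩ := ex.Wdec u.2
    refine ⟨⟨a, ha⟩, ?_⟩
    have : ψ u = ψ ⟨a, hXW ha⟩ := (c.eq_iff _ _).2 ⟨y, hy, hay⟩
    show Multiplicative.toAdd (ψ ⟨a, hXW ha⟩) = _
    rw [this]
  -- (2)
  have k2 : Nat.card (rep c hAN).ker ≤ Nat.card C := by
    refine Nat.card_le_card_of_injective (fun a : (rep c hAN).ker => (⟨(a.1 : G), ?_⟩ : C)) ?_
    · refine Subgroup.mem_inf.2 ⟨a.1.2, ?_⟩
      rw [mem_centralizer_iff]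
      intro x hx
      have h3 : bt ψ (a.1 : G) (Multiplicative.toAdd (ψ ⟨x, hXW hx⟩)) = Multiplicative.toAdd (ψ ⟨x, hXW hx⟩) := a.2 _
      have hx' := hXn a.1.2 hx
      rw [bt_eq c (nz_le _ (hAN a.1.2)).1 ⟨x, hXW hx⟩ ⟨_, hXW hx'⟩ rfl] at h3
      obtain ⟨w, hw, hxw⟩ := (c.eq_iff _ _).1 (Multiplicative.toAdd.injective h3)
      have h4 : (a.1 : G) * x * (a.1 : G)⁻¹ = x * w := hxw
      have h5 : w = x⁻¹ * ((a.1 : G) * x * (a.1 : G)⁻¹) := by rw [h4]; group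
      have h6 : w = 1 := inf_triv ex (by rw [h5]; exact mul_mem (inv_mem hx) hx') hw
      rw [h6, mul_one] at h4
      exact (mul_inv_eq_iff_eq_mul.1 h4).symm
    · intro a b h
      exact Subtype.ext (Subtype.ext (congrArg (fun y : C => (y : G)) h))
  -- (3)
  have k3 : Nat.card ↥(C ⊓ X) ≤ Nat.card (rep c hAN).fix := by
    refine Nat.card_le_card_of_injective
      (fun x : ↥(C ⊓ X) => (⟨Multiplicative.toAdd (ψ ⟨x, hXW (Subgroup.mem_inf.1 x.2).2⟩), ?_⟩ : (rep c hAN).fix)) ?_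
    · intro a
      apply bt_eq c (nz_le _ (hAN a.2)).1
      show (x : G) = (a : G) * x * (a : G)⁻¹
      rw [hac a.2 (Subgroup.mem_inf.1 (Subgroup.mem_inf.1 x.2).1).1]
      group
    · intro x y h
      have h3 : Multiplicative.toAdd (ψ ⟨x, hXW (Subgroup.mem_inf.1 x.2).2⟩) =
        Multiplicative.toAdd (ψ ⟨y, hXW (Subgroup.mem_inf.1 y.2).2⟩) := congrArg Subtype.val h
      obtain ⟨w, hw, hxw⟩ := (c.eq_iff _ _).1 (Multiplicative.toAdd.injective h3)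
      have h4 : (x : G) = y * w := hxw
      have h5 : w = (y : G)⁻¹ * x := by rw [h4]; group
      have h6 : w = 1 := inf_triv ex (by
        rw [h5]; exact mul_mem (inv_mem (Subgroup.mem_inf.1 y.2).2) (Subgroup.mem_inf.1 x.2).2) hw
      rw [h6, mul_one] at h4
      exact Subtype.ext h4
  calc Nat.card (Fin 2 → F) * Nat.card (rep c hAN).ker ≤ Nat.card X * Nat.card C := Nat.mul_le_mul k1 k2
    _ = Nat.card ↥(C ⊔ X) * Nat.card ↥(C ⊓ X) := by rw [h1, mul_comm]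
    _ ≤ Nat.card A * Nat.card (rep c hAN).fix := Nat.mul_le_mul h2 k3

theorem J_nz (ex : Ex T E F) : thompsonSubgroupOf 3 (T : Subgroup G) ≤ normalizer (E : Set G) :=
  (thompson_le_bau _).trans (le_nz_of_comm ex.hE.2.1)

theorem J_lin (ex : Ex T E F) (c : Crd F E (Wf E) (Zf E) ρ ψ) {b : G} (hb : b ∈ thompsonSubgroupOf 3 (T : Subgroup G))
    (t : F) (v : Fin 2 → F) : bt ψ b (t • v) = t • bt ψ b v := by
  let LG : Subgroup G :=
    { carrier := {b | b ∈ Nm (Wf E) (Zf E) ∧ ∀ (t : F) v, bt ψ b (t • v) = t • bt ψ b v}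
      one_mem' := ⟨one_mem _, fun t v => by rw [bt_one c, bt_one c]⟩
      mul_mem' := by
        rintro a b ⟨ha, ha'⟩ ⟨hb, hb'⟩
        exact ⟨mul_mem ha hb, fun t v => by rw [bt_mul c ha hb, bt_mul c ha hb, hb', ha']⟩
      inv_mem' := by
        rintro a ⟨ha, ha'⟩
        refine ⟨inv_mem ha, fun t v => ?_⟩
        have h1 : bt ψ a⁻¹ (t • bt ψ a (bt ψ a⁻¹ v)) = t • bt ψ a⁻¹ v := by
          rw [← ha', bt_inv c ha]
        rwa [bt_inv' c ha] at h1 }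
  have hle : thompsonSubgroupOf 3 (T : Subgroup G) ≤ LG := by
    unfold Cfsg.thompsonSubgroupOf
    rw [Subgroup.map_le_iff_le_comap]
    refine sSup_le fun B hB => ?_
    rw [← Subgroup.map_le_iff_le_comap]
    set A := B.map (T : Subgroup G).subtype with hA
    have hAJ : A ≤ thompsonSubgroupOf 3 (T : Subgroup G) := Subgroup.map_mono (le_sSup hB)
    have hAT : A ≤ (T : Subgroup G) := Subgroup.map_subtype_le _
    have hAN : A ≤ normalizer (E : Set G) := hAJ.trans (J_nz ex)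
    have hAe : IsElementaryAbelian 3 A := H13.ElemAb.map hB.1 _
    have hcA : Nat.card A = Nat.card B := H13.Thompson.card_map_of_injective (T : Subgroup G).subtype_injective
    have hmax : ∀ D ≤ (T : Subgroup G), IsElementaryAbelian 3 D → Nat.card D ≤ Nat.card A := by
      intro D hD hDe
      have h1 := hB.2 (D.subgroupOf (T : Subgroup G)) (H13.ElemAb.subgroupOf hDe _)
      rwa [Nat.card_congr (Subgroup.subgroupOfEquivOfLe hD).toEquiv, ← hcA] at h1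
    have hoff := off ex c hAT hAe hmax hAN
    intro a ha
    refine ⟨(nz_le _ (hAN ha)).1, ?_⟩
    exact all_lin ex.hF (A := ↥A) (fun a b => Subtype.ext (H13.ElemAb.comm hAe a.2 b.2))
      (fun a => Subtype.ext (hAe.2 a a.2)) (rep c hAN) hoff ⟨a, ha⟩
  exact (hle hb).2 t v

/-- the quadratic action of the Thompson subgroup -/
theorem quad (ex : Ex T E F) {b : G} (hb : b ∈ thompsonSubgroupOf 3 (T : Subgroup G)) :
    (∀ w ∈ Wf E, ∀ c d : G, c = b * w * b⁻¹ * w⁻¹ → b * c * b⁻¹ * c⁻¹ ∈ Zf E) ∧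
    (∀ q ∈ Qf E, b * (b * q * b⁻¹ * q⁻¹) * b⁻¹ * (b * q * b⁻¹ * q⁻¹)⁻¹ ∈ Wf E) := by
  obtain ⟨ρ₁, ψ₁, c₁⟩ := exists_crd ex.a1
  obtain ⟨ρ₂, ψ₂, c₂⟩ := exists_crd ex.a2
  have hbE := J_nz ex hb
  obtain ⟨hn1, hn2⟩ := nz_le b hbE
  have hbT : b ∈ (T : Subgroup G) := H13.SylowN.thompsonOf_le _ hb
  obtain ⟨k, hk⟩ : ∃ k, b ^ 3 ^ k = 1 := by
    obtain ⟨k, hk⟩ := T.2 ⟨b, hbT⟩
    exact ⟨k, congrArg Subtype.val hk⟩
  have hlin := J_lin ex c₁ hb
  obtain ⟨M, hM1, hM2, hM3⟩ := lin_quad ex.hF (fun v w => bt_add c₁ hn1 v w) hlin (k := k) (by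
    intro v
    rw [iter c₁ hn1, hk, bt_one c₁])
  refine ⟨?_, ?_⟩
  · rintro w hw c d rfl
    exact quad_sec c₁ hn1 hM1 hM2 hw
  -- the second section
  have hlin2 : ∀ (t : F) v, bt ψ₂ b (t • v) = t • bt ψ₂ b v := by
    have hC := cmp c₂ hn2 hbE
    rcases card_or ex.hF with h3 | h5
    · intro t v
      rcases f3_cases h3 t with rfl | rfl | rfl
      · rw [zero_smul, zero_smul, hC.zero]
      · rw [one_smul, one_smul]
      · rw [neg_one_smul, neg_one_smul, hC.neg]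
    · have htop := comm_top h5
      have hMr : ∀ g : SL(2, F), g ∈ ρ₁.range := fun g => by rw [c₁.rng, htop]; exact Subgroup.mem_top g
      obtain ⟨e, he⟩ := hMr ⟨M, hM3⟩
      have hbe : ∀ v, bt ψ₁ b v = bt ψ₁ (e : G) v := by
        intro v
        rw [bt_rho c₁, he, hM1]
      have heN1 := E_le c₁ e.2
      have heN2 := E_le c₂ e.2
      have hd1 : b * (e : G)⁻¹ ∈ Nm (Wf E) (Zf E) := mul_mem hn1 (inv_mem heN1)
      have hd2 : b * (e : G)⁻¹ ∈ Nm (Qf E) (Wf E) := mul_mem hn2 (inv_mem heN2)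
      have hdE : b * (e : G)⁻¹ ∈ normalizer (E : Set G) := mul_mem hbE (inv_mem (Subgroup.le_normalizer e.2))
      set d := b * (e : G)⁻¹ with hd
      have hdt : ∀ v, bt ψ₁ d v = v := by
        intro v
        rw [hd, bt_mul c₁ hn1 (inv_mem heN1), hbe, bt_inv' c₁ heN1]
      have hx : ∀ (x : ↥E) v, bt ψ₂ d (((ρ₂ x : SL(2, F)) : Matrix (Fin 2) (Fin 2) F).mulVec v) =
          ((ρ₂ x : SL(2, F)) : Matrix (Fin 2) (Fin 2) F).mulVec (bt ψ₂ d v) := by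
        intro x v
        have hy : d * (x : G) * d⁻¹ ∈ E := (mem_normalizer_iff.1 hdE _).1 x.2
        have hr1 : ρ₁ ⟨_, hy⟩ = ρ₁ x := by
          apply Subtype.ext
          apply Matrix.toLin'.injective
          apply LinearMap.ext
          intro u
          rw [Matrix.toLin'_apply, Matrix.toLin'_apply, ← bt_rho c₁, ← bt_rho c₁]
          show bt ψ₁ (d * (x : G) * d⁻¹) u = _
          rw [bt_mul c₁ (mul_mem hd1 (E_le c₁ x.2)) (inv_mem hd1), bt_mul c₁ hd1 (E_le c₁ x.2), hdt]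
          have h1 := bt_inv' c₁ hd1 u
          rw [hdt] at h1
          rw [h1]
        have hr2 : ρ₁ (⟨_, hy⟩ * x⁻¹) = 1 := by rw [map_mul, map_inv, hr1, mul_inv_cancel]
        have hr3 := (ex.ker1 c₁ (⟨_, hy⟩ * x⁻¹ : ↥E).2).1 hr2
        have hr4 := (ex.ker2 c₂ (⟨_, hy⟩ * x⁻¹ : ↥E).2).2 hr3
        have hr5 : ρ₂ (⟨_, hy⟩ * x⁻¹) = 1 := hr4
        have hr6 : ρ₂ ⟨_, hy⟩ = ρ₂ x := by
          rw [map_mul, map_inv] at hr5
          exact mul_inv_eq_one.1 hr5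
        rw [← bt_rho c₂ x, ← bt_mul c₂ hd2 (E_le c₂ x.2)]
        have h2 : d * (x : G) = (d * (x : G) * d⁻¹) * d := by group
        rw [h2, bt_mul c₂ (E_le c₂ hy) hd2]
        have h3 := bt_rho c₂ ⟨_, hy⟩ (bt ψ₂ d v)
        rw [hr6] at h3
        exact h3
      have hall : ∀ (g : SL(2, F)) v, bt ψ₂ d ((g : Matrix (Fin 2) (Fin 2) F).mulVec v) =
          (g : Matrix (Fin 2) (Fin 2) F).mulVec (bt ψ₂ d v) := by
        intro g v
        have hg : g ∈ ρ₂.range := by rw [c₂.rng, htop]; exact Subgroup.mem_top g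
        obtain ⟨x, rfl⟩ := hg
        exact hx x v
      have hD := cmp c₂ hd2 hdE
      have hdl : ∀ (t : F) v, bt ψ₂ d (t • v) = t • bt ψ₂ d v := by
        intro t v
        rw [smul_eq t v, smul_eq t (bt ψ₂ d v)]
        simp only [hD.add, hD.sub, hall]
      intro t v
      have hb' : b = d * (e : G) := by rw [hd]; group
      rw [hb', bt_mul c₂ hd2 heN2, bt_mul c₂ hd2 heN2, bt_rho c₂, bt_rho c₂, Matrix.mulVec_smul, hdl]
  obtain ⟨M', hM1', hM2', hM3'⟩ := lin_quad ex.hF (fun v w => bt_add c₂ hn2 v w) hlin2 (k := k) (by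
    intro v
    rw [iter c₂ hn2, hk, bt_one c₂])
  intro q hq
  exact quad_sec c₂ hn2 hM1' hM2' hq

end main

end H52.QD
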