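import Cfsg.Agent.Lib.H52.BB1

/-!
Nonsolvable Baumann blocks.
-/

set_option autoImplicit false
set_option linter.unusedSectionVars false
set_option linter.unusedVariables false

namespace H52.BB

open Subgroup Cfsg H51.Bau H51.FF H51.OG H52.PRes H52.PCore H53.PU
open scoped MatrixGroups commutatorElement Pointwise

variable {G : Type*} [Group G] [Finite G] {p : ℕ} [hp : Fact p.Prime]

theorem comp {T E : Subgroup G} (hE : IsBaumannBlock p T E) (hEs : E.IsSubnormal) (hns : ¬ Group.IsSolvable E) :
    IsComponent (E.map (QuotientGroup.mk' (pCore p G))) := by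
  set π := QuotientGroup.mk' (pCore p G) with hπ
  refine ⟨hEs.map (QuotientGroup.mk'_surjective _), ?_⟩
  have hf : Function.Surjective (π.subgroupMap E) := MonoidHom.subgroupMap_surjective π E
  have hk : (π.subgroupMap E).ker = pCore p ↥E := by
    have h1 : (π.subgroupMap E).ker = (pCore p G).subgroupOf E := by
      ext x
      rw [MonoidHom.mem_ker, Subgroup.mem_subgroupOf]
      constructor
      · intro h
        have h2 : π (x : G) = 1 := congrArg Subtype.val h
        exact (QuotientGroup.eq_one_iff _).1 h2
      · intro h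
        apply Subtype.ext
        exact (QuotientGroup.eq_one_iff _).2 h
    rw [h1, ← pCoreOf_subgroupOf, pCoreOf_eq_inf_of_subnormal hEs]
    ext x
    simp [Subgroup.mem_subgroupOf, Subgroup.mem_inf]
  have e1 : (↥E ⧸ pCore p ↥E) ≃* ↥(E.map π) :=
    (QuotientGroup.quotientMulEquivOfEq hk.symm).trans (QuotientGroup.quotientKerEquivOfSurjective _ hf)
  exact H26.Quasisimple.of_mulEquiv e1 (qs hE hns)

theorem big {T1 T2 : Sylow p G} {E F : Subgroup G} (hG : centralizer (pCore p G : Set G) ≤ pCore p G)
    (hE : IsBaumannBlock p (T1 : Subgroup G) E) (hF : IsBaumannBlock p (T2 : Subgroup G) F)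
    (hEs : E.IsSubnormal) (hFs : F.IsSubnormal) (hns : ¬ Group.IsSolvable E) : E = F ∨ ⁅E, F⁆ ≤ pCore p G := by
  set π := QuotientGroup.mk' (pCore p G) with hπ
  have hEc := comp hE hEs hns
  have hFm : (F.map π).IsSubnormal := hFs.map (QuotientGroup.mk'_surjective _)
  rcases H26.Components.le_or_commutator_eq_bot hEc hFm with h | h
  · left
    have hFns : ¬ Group.IsSolvable F := by
      intro hs
      have h1 : Group.IsSolvable ↥(F.map π) :=
        Group.isSolvable_of_surjective (MonoidHom.subgroupMap_surjective π F)
      have h2 : Group.IsSolvable ↥(E.map π) :=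
        Group.isSolvable_of_isSolvable_injective (Subgroup.inclusion_injective h)
      exact H26.Quasisimple.not_isSolvable hEc.2 h2
    have hFc := comp hF hFs hFns
    have h1 := H26.Components.eq_of_le hEc hFc h
    have h2 := congrArg (Subgroup.comap π) h1
    rw [Subgroup.comap_map_eq, Subgroup.comap_map_eq, hπ, QuotientGroup.ker_mk'] at h2
    rw [← block_res hE, ← block_res hF, h2]
  · right
    rw [← Subgroup.map_commutator, Subgroup.map_eq_bot_iff, QuotientGroup.ker_mk'] at h
    exact h

end H52.BB
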