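import Cfsg.Agent.Lib.H52.BB2

/-!
Small Baumann blocks for `p = 3`.
-/

set_option autoImplicit false
set_option linter.unusedSectionVars false
set_option linter.unusedVariables false

namespace H52.BB

open Subgroup Cfsg H51.Bau H51.FF H51.OG H52.PRes H52.PCore H53.PU
open scoped MatrixGroups commutatorElement Pointwise

theorem comm_pow4 {F : Type} [Field F] [Fintype F] (h3 : Fintype.card F = 3) {k : SL(2, F)}
    (hk : k ∈ commutator SL(2, F)) : k ^ 4 = 1 := by
  classical
  have hF : ∃ n, Fintype.card F = 3 ^ n := ⟨1, by rw [h3, pow_one]⟩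
  have hc := card_comm (F := F) (by omega)
  rw [h3] at hc
  have hc8 : Nat.card ↥(commutator SL(2, F)) = 8 := by rw [hc]; norm_num
  by_contra hne
  set k' : ↥(commutator SL(2, F)) := ⟨k, hk⟩ with hk'
  have hne' : k' ^ 4 ≠ 1 := fun h => hne (congrArg Subtype.val h)
  have ho : orderOf k' ∣ 8 := by rw [← hc8]; exact orderOf_dvd_natCard k'
  have ho4 : ¬ orderOf k' ∣ 4 := fun h => hne' (orderOf_dvd_iff_pow_eq_one.1 h)
  have ho8 : orderOf k' = 8 := by
    have hle := Nat.le_of_dvd (by norm_num) ho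
    interval_cases hh : orderOf k' <;> first | rfl | (exfalso; revert ho ho4; decide)
  have htop : zpowers k' = ⊤ := by
    apply Subgroup.eq_top_of_card_eq
    rw [Nat.card_zpowers, ho8, hc8]
  obtain ⟨hi, hj⟩ := q_mem (three_zero hF)
  have hcomm : ∀ a b : ↥(commutator SL(2, F)), a * b = b * a := by
    intro a b
    obtain ⟨m, rfl⟩ := Subgroup.mem_zpowers_iff.1 (show a ∈ zpowers k' by rw [htop]; exact Subgroup.mem_top a)
    obtain ⟨n, rfl⟩ := Subgroup.mem_zpowers_iff.1 (show b ∈ zpowers k' by rw [htop]; exact Subgroup.mem_top b)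
    rw [← zpow_add, ← zpow_add, add_comm]
  have h1 : (qi : SL(2, F)) * qj (three_zero hF) = qj (three_zero hF) * qi :=
    congrArg Subtype.val (hcomm ⟨qi, hi⟩ ⟨qj (three_zero hF), hj⟩)
  rw [qij (three_zero hF)] at h1
  apply neg_one_ne (F := F) hF
  have h2 : (-1 : SL(2, F)) * (qj (three_zero hF) * qi) = 1 * (qj (three_zero hF) * qi) := by
    rw [neg_one_mul, one_mul]; exact h1
  exact mul_right_cancel h2

variable {G : Type*} [Group G] [Finite G] {p : ℕ} [hp : Fact p.Prime] {T E : Subgroup G}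

theorem exp4 (hE : IsBaumannBlock p T E) (hs : Group.IsSolvable E) (hp3 : p = 3) : ∀ e ∈ E, e ^ 4 ∈ pCoreOf p E := by
  intro e he
  obtain ⟨-, -, -, -, h' | h'⟩ := hE
  · obtain ⟨F, i1, i2, n, hF, ⟨i⟩, h1, -⟩ := h'
    have h4 : Fintype.card F ≤ 3 := by
      by_contra hcon
      have htop := comm_top4 (F := F) (by omega)
      have h5 : IsQuasisimple (↥E ⧸ pCore p ↥E) :=
        H26.Quasisimple.of_mulEquiv ((i.trans (MulEquiv.subgroupCongr htop)).trans Subgroup.topEquiv).symm
          (H28.GLComp.sl_quasisimple 2 le_rfl (by omega))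
      exact absurd (inferInstance : Group.IsSolvable (↥E ⧸ pCore p ↥E)) (H26.Quasisimple.not_isSolvable h5)
    have h5 := Fintype.one_lt_card (α := F)
    have hF3 : Fintype.card F = 3 := by
      have hn : n ≠ 0 := by
        rintro rfl
        rw [pow_zero] at hF
        omega
      have hpd : p ∣ Fintype.card F := by rw [hF]; exact dvd_pow_self p hn
      rw [hp3] at hpd
      have := Nat.le_of_dvd (by omega) hpd
      omega
    have h6 : i ((⟨e, he⟩ : ↥E) : ↥E ⧸ pCore p ↥E) ^ 4 = 1 := by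
      apply Subtype.ext
      show ((i ((⟨e, he⟩ : ↥E) : ↥E ⧸ pCore p ↥E) ^ 4 : ↥(commutator SL(2, F))) : SL(2, F)) = 1
      rw [Subgroup.coe_pow]
      exact comm_pow4 hF3 (i ((⟨e, he⟩ : ↥E) : ↥E ⧸ pCore p ↥E)).2
    rw [← map_pow] at h6
    have h7 : (((⟨e, he⟩ : ↥E) : ↥E ⧸ pCore p ↥E)) ^ 4 = 1 := i.injective (by rw [h6, map_one])
    rw [← QuotientGroup.mk_pow, QuotientGroup.eq_one_iff] at h7
    exact ⟨_, h7, rfl⟩
  · obtain ⟨hp2, -⟩ := h'
    omega

end H52.BB
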