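import Cfsg.Agent.Lib.H52.BB0
import Cfsg.Agent.Lib.H2.BGCop
import Cfsg.Agent.Lib.H26.Components

/-!
Dictionary for Baumann blocks.
-/

set_option autoImplicit false
set_option linter.unusedSectionVars false
set_option linter.unusedVariables false

namespace H52.BB

open Subgroup Cfsg H51.Bau H51.FF H51.OG H52.PRes H52.PCore H53.PU
open scoped MatrixGroups commutatorElement Pointwise

variable {G : Type*} [Group G] [Finite G] {p : ℕ} [hp : Fact p.Prime] {T E : Subgroup G}

omit hp in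
theorem ker_eq' {X : Type*} [Group X] (ρ : ↥E →* X) {R : Subgroup X} (hr : ρ.range = R)
    (hiso : Nonempty (↥E ⧸ pCore p ↥E ≃* ↥R)) (h : pCore p ↥E ≤ ρ.ker) : ρ.ker = pCore p ↥E := by
  symm
  apply Subgroup.eq_of_le_of_card_ge h
  obtain ⟨i⟩ := hiso
  have h1 : Nat.card (↥E ⧸ pCore p ↥E) = Nat.card ↥R := Nat.card_congr i.toEquiv
  have h2 : Nat.card (↥E ⧸ ρ.ker) = Nat.card ↥R := by
    rw [← hr]
    exact Nat.card_congr (QuotientGroup.quotientKerEquivRange ρ).toEquiv
  have h3 := Subgroup.card_eq_card_quotient_mul_card_subgroup (pCore p ↥E)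
  have h4 := Subgroup.card_eq_card_quotient_mul_card_subgroup ρ.ker
  rw [h1] at h3
  rw [h2, h3] at h4
  have h5 : 0 < Nat.card ↥R := by
    rw [← h1]; exact Nat.card_pos
  exact (Nat.eq_of_mul_eq_mul_left h5 h4).ge

theorem QWc {q w : G} (hq : q ∈ pCoreOf p E) (hw : w ∈ omegaOneCenter p (pCoreOf p E)) : q * w = w * q :=
  mem_centralizer_iff.1 (H13.Omega.omegaZ_le_centralizer (p := p) (pCoreOf p E) hw) q hq

/-- the elements acting trivially on the section are in `O_p(E)` -/
theorem ker_sec (hE : IsBaumannBlock p T E) {e : G} (he : e ∈ E)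
    (h : ∀ w ∈ omegaOneCenter p (pCoreOf p E), e * w * e⁻¹ * w⁻¹ ∈ omegaOneCenter p (pCoreOf p E) ⊓ centralizer (E : Set G)) :
    e ∈ pCoreOf p E := by
  obtain ⟨-, -, -, -, h' | h'⟩ := hE
  · obtain ⟨F, i1, i2, n, hF, hiso, h1, h2⟩ := h'
    obtain ⟨ρ, ψ, c⟩ := exists_crd h1
    have hk : pCore p ↥E ≤ ρ.ker := by
      intro x hx
      apply c.rho_eq_one
      intro u hu
      have hxQ : (x : G) ∈ pCoreOf p E := ⟨x, hx, rfl⟩
      have : (x : G) * u * (x : G)⁻¹ * u⁻¹ = 1 := by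
        rw [QWc hxQ hu]; group
      rw [this]; exact one_mem _
    have hk' := ker_eq' ρ c.rng hiso hk
    have h3 : ρ ⟨e, he⟩ = 1 := c.rho_eq_one (e := ⟨e, he⟩) h
    have h4 : (⟨e, he⟩ : ↥E) ∈ pCore p ↥E := by
      rw [← hk']; exact h3
    exact ⟨_, h4, rfl⟩
  · obtain ⟨-, m, hiso, h1, h2⟩ := h'
    obtain ⟨hEU, hU₀, ρ, ψ, hρ, hsum, hψ, hker, hact⟩ := h1
    have triv : ∀ e : ↥E, (∀ w ∈ omegaOneCenter p (pCoreOf p E), (e : G) * w * (e : G)⁻¹ * w⁻¹ ∈
        omegaOneCenter p (pCoreOf p E) ⊓ centralizer (E : Set G)) → ρ e = 1 := by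
      intro e he
      rcases Nat.eq_zero_or_pos m with hm | hm
      · subst hm
        exact Subsingleton.elim (α := Equiv.Perm (Fin 1)) _ _
      · apply perm_faithful (by omega)
        intro v hv i
        obtain ⟨u, hu⟩ := hψ v hv
        obtain ⟨w, hw1, hw2⟩ := hact e u
        have h3 : ψ w = ψ u := by
          have h4 := he u u.2
          have h5 : ψ (w * u⁻¹) = 1 := by
            rw [hker]
            show (w : G) * (u : G)⁻¹ ∈ _
            rw [hw1]; exact h4
          rw [map_mul, map_inv] at h5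
          exact mul_inv_eq_one.1 h5
        rw [← hu, ← hw2 i, h3]
    have hk : pCore p ↥E ≤ ρ.ker := by
      intro x hx
      apply triv
      intro u hu
      have hxQ : (x : G) ∈ pCoreOf p E := ⟨x, hx, rfl⟩
      have : (x : G) * u * (x : G)⁻¹ * u⁻¹ = 1 := by
        rw [QWc hxQ hu]; group
      rw [this]; exact one_mem _
    have hk' := ker_eq' ρ hρ hiso hk
    have h3 : ρ ⟨e, he⟩ = 1 := triv ⟨e, he⟩ h
    have h4 : (⟨e, he⟩ : ↥E) ∈ pCore p ↥E := by
      rw [← hk']; exact h3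
    exact ⟨_, h4, rfl⟩

theorem not_p (hE : IsBaumannBlock p T E) : ¬ IsPGroup p E := by
  intro h
  have h1 : resOf p E = ⊥ := resOf_eq_bot_iff.2 h
  have h2 : E = ⊥ := by
    rw [← h1]; exact hE.1.symm
  apply hE.2.2.2.1
  rw [h2, Subgroup.commutator_bot_left]

theorem card_quot : Nat.card (↥E ⧸ pCore p ↥E) = (pCoreOf p E).relIndex E := by
  unfold Subgroup.relIndex
  rw [pCoreOf_subgroupOf]
  rfl

theorem kind (hE : IsBaumannBlock p T E) : IsQuasisimple (↥E ⧸ pCore p ↥E) ∨
    ((p = 2 ∧ (pCoreOf p E).relIndex E = 3) ∨ (p = 3 ∧ (pCoreOf p E).relIndex E = 8)) := by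
  have hnp := not_p hE
  rw [← card_quot]
  obtain ⟨-, -, -, -, h' | h'⟩ := hE
  · obtain ⟨F, i1, i2, n, hF, ⟨i⟩, h1, h2⟩ := h'
    by_cases h4 : 4 ≤ Fintype.card F
    · left
      have htop := comm_top4 h4
      exact H26.Quasisimple.of_mulEquiv ((i.trans (MulEquiv.subgroupCongr htop)).trans Subgroup.topEquiv).symm
        (H28.GLComp.sl_quasisimple 2 le_rfl (by omega))
    · right
      have h5 := Fintype.one_lt_card (α := F)
      have hc : Nat.card (↥E ⧸ pCore p ↥E) = Fintype.card F ^ 2 - 1 := by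
        rw [Nat.card_congr i.toEquiv, card_comm (by omega)]
      have hn : n ≠ 0 := by
        rintro rfl
        rw [pow_zero] at hF
        omega
      have hpd : p ∣ Fintype.card F := by rw [hF]; exact dvd_pow_self p hn
      have h6 : Fintype.card F = 2 ∨ Fintype.card F = 3 := by omega
      rcases h6 with h6 | h6
      · left
        rw [h6] at hpd hc
        exact ⟨(Nat.prime_dvd_prime_iff_eq hp.out Nat.prime_two).1 hpd, hc⟩
      · right
        rw [h6] at hpd hc
        exact ⟨(Nat.prime_dvd_prime_iff_eq hp.out Nat.prime_three).1 hpd, hc⟩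
  · obtain ⟨hp2, m, ⟨i⟩, h1, h2⟩ := h'
    rcases Nat.lt_or_ge m 2 with hm | hm
    · have hm' : m = 0 ∨ m = 1 := by omega
      rcases hm' with rfl | rfl
      · exfalso
        apply hnp
        have h3 : Nat.card (↥E ⧸ pCore p ↥E) = 1 := by
          rw [Nat.card_congr i.toEquiv, Nat.card_eq_fintype_card]
          rfl
        have h4 : pCore p ↥E = ⊤ := by
          rw [← Subgroup.index_eq_one]; exact h3
        have h5 : IsPGroup p (⊤ : Subgroup ↥E) := by rw [← h4]; exact isPGroup_pCore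
        exact h5.of_equiv Subgroup.topEquiv
      · right; left
        refine ⟨hp2, ?_⟩
        rw [Nat.card_congr i.toEquiv, Nat.card_eq_fintype_card]
        rfl
    · left
      exact H26.Quasisimple.of_mulEquiv i.symm (H54.ThreeCyc.isQuasisimple_alt (by omega))

theorem Xn (hE : IsBaumannBlock p T E) : ¬ ⁅omegaOneCenter p (pCoreOf p E), E⁆ ≤
    omegaOneCenter p (pCoreOf p E) ⊓ centralizer (E : Set G) := by
  intro h
  apply not_p hE
  have h1 : E ≤ pCoreOf p E := by
    intro e he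
    apply ker_sec hE he
    intro w hw
    have h2 := h (Subgroup.commutator_mem_commutator hw he)
    rw [commutatorElement_def] at h2
    have h3 : e * w * e⁻¹ * w⁻¹ = (w * e * w⁻¹ * e⁻¹)⁻¹ := by group
    rw [h3]
    exact inv_mem h2
  exact (isPGroup_pCoreOf E).to_le h1

theorem nzW : normalizer (E : Set G) ≤ normalizer (omegaOneCenter p (pCoreOf p E) : Set G) := by
  intro g hg
  rw [mem_nz_iff]
  show cg g (omegaOne p _) = _
  rw [omegaOne_cg, cg_inf, map_centralizer]
  have : cg g (pCoreOf p E) = pCoreOf p E := by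
    rw [← mem_nz_iff]; exact normalizer_le_normalizer_pCoreOf E hg
  rw [this]
  rfl

theorem XW : ⁅omegaOneCenter p (pCoreOf p E), E⁆ ≤ omegaOneCenter p (pCoreOf p E) :=
  le_normalizer_iff_commutator_le_left.1 (Subgroup.le_normalizer.trans nzW)

theorem Wdec (hE : IsBaumannBlock p T E) {w : G} (hw : w ∈ omegaOneCenter p (pCoreOf p E)) :
    ∃ a ∈ ⁅omegaOneCenter p (pCoreOf p E), E⁆, ∃ z ∈ omegaOneCenter p (pCoreOf p E) ⊓ centralizer (E : Set G), w = a * z :=
  (block_irr hE).1 _ XW (normalizer_commutator_ge_right _ _) (Xn hE) w hw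

/-- the kernel of the action -/
theorem cent (hE : IsBaumannBlock p T E) :
    E ⊓ centralizer ((⁅omegaOneCenter p (pCoreOf p E), E⁆ : Subgroup G) : Set G) = pCoreOf p E := by
  apply le_antisymm
  · intro e he
    obtain ⟨he, hc⟩ := Subgroup.mem_inf.1 he
    apply ker_sec hE he
    intro w hw
    obtain ⟨a, ha, z, hz, rfl⟩ := Wdec hE hw
    have h1 : a * e = e * a := mem_centralizer_iff.1 hc a ha
    have h2 : e * z = z * e := mem_centralizer_iff.1 (Subgroup.mem_inf.1 hz).2 e he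
    have : e * (a * z) * e⁻¹ * (a * z)⁻¹ = 1 := by
      have h3 : e * (a * z) = (a * z) * e := by rw [← mul_assoc, ← h1, mul_assoc, h2, mul_assoc]
      rw [h3]; group
    rw [this]; exact one_mem _
  · refine le_inf (pCoreOf_le E) ?_
    intro q hq
    rw [mem_centralizer_iff]
    intro x hx
    exact (QWc hq (XW hx)).symm

/-- nonsolvable blocks -/
theorem qs (hE : IsBaumannBlock p T E) (hns : ¬ Group.IsSolvable E) : IsQuasisimple (↥E ⧸ pCore p ↥E) := by
  rcases kind hE with h | h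
  · exact h
  · exfalso
    apply hns
    have h1 : Group.IsSolvable (↥E ⧸ pCore p ↥E) := by
      apply H41.OsA.burnside (p := 2) (q := 3) (a := 3) (b := 1) Nat.prime_two Nat.prime_three
      rw [card_quot]
      rcases h with ⟨-, h⟩ | ⟨-, h⟩ <;> rw [h] <;> decide
    have h2 := (isPGroup_pCore (G := ↥E) (p := p)).isNilpotent
    have h3 : Group.IsSolvable ↥(pCore p ↥E) := inferInstance
    exact solvable_of_ker_le_range (pCore p ↥E).subtype (QuotientGroup.mk' (pCore p ↥E))
      (by rw [QuotientGroup.ker_mk', range_subtype])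

theorem perf (hE : IsBaumannBlock p T E) (hns : ¬ Group.IsSolvable E) : ⁅E, E⁆ ⊔ pCoreOf p E = E := by
  have h1 := H26.Quasisimple.commutator_eq_top (qs hE hns)
  have h2 : (commutator ↥E).map (QuotientGroup.mk' (pCore p ↥E)) = ⊤ := by
    rw [commutator_def, Subgroup.map_commutator, Subgroup.map_top_of_surjective _ (QuotientGroup.mk'_surjective _),
      ← commutator_def, h1]
  have h3 : commutator ↥E ⊔ pCore p ↥E = ⊤ := by
    have h4 := congrArg (Subgroup.comap (QuotientGroup.mk' (pCore p ↥E))) h2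
    rwa [Subgroup.comap_map_eq, QuotientGroup.ker_mk', Subgroup.comap_top] at h4
  have h4 := congrArg (Subgroup.map E.subtype) h3
  rw [Subgroup.map_sup, ← MonoidHom.range_eq_map, Subgroup.range_subtype] at h4
  have h5 : (commutator ↥E).map E.subtype = ⁅E, E⁆ := by
    rw [commutator_def, Subgroup.map_commutator, ← MonoidHom.range_eq_map, Subgroup.range_subtype]
  rw [h5] at h4
  exact h4

/-- coprime quotient -/
theorem inf_of_coprime (hc : ((pCoreOf p E).relIndex E).Coprime p) :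
    ⁅omegaOneCenter p (pCoreOf p E), E⁆ ⊓ centralizer (E : Set G) = ⊥ := by
  obtain ⟨k, hk⟩ := IsPGroup.iff_card.1 (isPGroup_pCore (G := ↥E) (p := p))
  have hcop : Nat.Coprime (Nat.card ↥(pCore p ↥E)) (pCore p ↥E).index := by
    rw [hk]
    apply Nat.Coprime.pow_left
    have : (pCore p ↥E).index = (pCoreOf p E).relIndex E := by rw [← card_quot]; rfl
    rw [this]
    exact hc.symm
  obtain ⟨H, hH⟩ := Subgroup.exists_right_complement'_of_coprime hcop
  set A := H.map E.subtype with hA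
  have hAE : A ≤ E := Subgroup.map_subtype_le _
  have hAc : Nat.card A = (pCoreOf p E).relIndex E := by
    rw [hA, Nat.card_congr (H.equivMapOfInjective _ E.subtype_injective).toEquiv.symm, ← card_quot]
    have h1 := hH.card_mul
    have h2 := Subgroup.card_eq_card_quotient_mul_card_subgroup (pCore p ↥E)
    rw [h2, mul_comm] at h1
    exact Nat.eq_of_mul_eq_mul_right Nat.card_pos h1
  have hdec : ∀ e ∈ E, ∃ q ∈ pCoreOf p E, ∃ a ∈ A, e = a * q := by
    intro e he
    have h1 : (⟨e⁻¹, inv_mem he⟩ : ↥E) ∈ ((pCore p ↥E : Set ↥E) * (H : Set ↥E)) := by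
      rw [hH.mul_eq]; trivial
    obtain ⟨q, hq, a, ha, hqa⟩ := Set.mem_mul.1 h1
    refine ⟨(q : G)⁻¹, inv_mem ⟨q, hq, rfl⟩, (a : G)⁻¹, inv_mem ⟨a, ha, rfl⟩, ?_⟩
    have h2 : (q : G) * a = e⁻¹ := congrArg Subtype.val hqa
    rw [← mul_inv_rev, h2, inv_inv]
  set W := omegaOneCenter p (pCoreOf p E) with hW
  have hWe : IsElementaryAbelian p W := H13.Omega.isElementaryAbelian_omegaZ _
  have hWp : IsPGroup p W := (isPGroup_pCoreOf E).to_le (H13.Omega.omegaZ_le _)
  have h1 : ⁅W, E⁆ ≤ ⁅W, A⁆ := by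
    rw [Subgroup.commutator_le]
    intro w hw e he
    obtain ⟨q, hq, a, ha, rfl⟩ := hdec e he
    have h2 : ⁅w, a * q⁆ = ⁅w, a⁆ := by
      rw [commutatorElement_def, commutatorElement_def]
      have h3 := QWc hq (inv_mem hw)
      calc w * (a * q) * w⁻¹ * (a * q)⁻¹ = w * a * (q * w⁻¹) * q⁻¹ * a⁻¹ := by group
        _ = w * a * w⁻¹ * a⁻¹ := by rw [h3]; group
    rw [h2]
    exact Subgroup.commutator_mem_commutator hw ha
  have h2 : (Nat.card A).Coprime (Nat.card W) := by
    obtain ⟨j, hj⟩ := IsPGroup.iff_card.1 hWp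
    rw [hAc, hj]
    exact Nat.Coprime.pow_right _ hc
  have h3 := H2.BGCop.commutator_inf_centralizer_eq_bot (A := A) (Q := W) hWe.1
    (hAE.trans (Subgroup.le_normalizer.trans nzW)) h2
  rw [eq_bot_iff, ← h3]
  exact inf_le_inf h1 (Subgroup.centralizer_le hAE)

theorem a3 : ∀ σ : Equiv.Perm (Fin 3), Equiv.Perm.sign σ = 1 → ∀ v : Fin 3 → ZMod 2, ∑ i, v i = 0 → v ≠ 0 →
    (∀ i, v (σ⁻¹ i) = v i) → σ = 1 := by decide

theorem card_even3 : Nat.card {v : Fin 3 → ZMod 2 // ∑ i, v i = 0} = 4 := by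
  rw [Nat.card_eq_fintype_card]; decide

theorem small (hE : IsBaumannBlock p T E) (hs : Group.IsSolvable E) :
    Nat.card ↥⁅omegaOneCenter p (pCoreOf p E), E⁆ = p ^ 2 ∧
    ⁅omegaOneCenter p (pCoreOf p E), E⁆ ⊓ centralizer (E : Set G) = ⊥ ∧
    (∀ e ∈ E, ∀ w ∈ ⁅omegaOneCenter p (pCoreOf p E), E⁆, w ≠ 1 → e * w * e⁻¹ = w → e ∈ pCoreOf p E) ∧
    ((p = 2 ∧ (pCoreOf p E).relIndex E = 3) ∨ (p = 3 ∧ (pCoreOf p E).relIndex E = 8)) := by
  have hsm : (p = 2 ∧ (pCoreOf p E).relIndex E = 3) ∨ (p = 3 ∧ (pCoreOf p E).relIndex E = 8) := by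
    rcases kind hE with h | h
    · exact absurd (inferInstance : Group.IsSolvable (↥E ⧸ pCore p ↥E)) (H26.Quasisimple.not_isSolvable h)
    · exact h
  have hc : ((pCoreOf p E).relIndex E).Coprime p := by
    rcases hsm with ⟨h1, h2⟩ | ⟨h1, h2⟩
    · rw [h2, h1]; decide
    · rw [h2, h1]; decide
  have hinf := inf_of_coprime hc
  set W := omegaOneCenter p (pCoreOf p E) with hW
  set X := ⁅W, E⁆ with hX
  have hXW : X ≤ W := XW
  have hX1 : ∀ {x : G}, x ∈ X → x ∈ W ⊓ centralizer (E : Set G) → x = 1 := by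
    intro x hx hz
    have : x ∈ X ⊓ centralizer (E : Set G) := ⟨hx, (Subgroup.mem_inf.1 hz).2⟩
    rw [hinf] at this
    exact Subgroup.mem_bot.1 this
  have hdec := fun {w : G} (hw : w ∈ W) => Wdec hE hw
  suffices hh : Nat.card ↥X = p ^ 2 ∧ (∀ e ∈ E, ∀ w ∈ X, w ≠ 1 → e * w * e⁻¹ = w → e ∈ pCoreOf p E) from
    ⟨hh.1, hinf, hh.2, hsm⟩
  have hker0 := fun {e : G} (he : e ∈ E) => ker_sec hE he
  obtain ⟨-, -, -, -, h' | h'⟩ := id hE
  · obtain ⟨F, i1, i2, n, hF, hiso, h1, -⟩ := h'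
    obtain ⟨ρ, ψ, c⟩ := exists_crd h1
    have h4 : Fintype.card F ≤ 3 := by
      by_contra hcon
      obtain ⟨i⟩ := hiso
      have htop := comm_top4 (F := F) (by omega)
      have h5 : IsQuasisimple (↥E ⧸ pCore p ↥E) :=
        H26.Quasisimple.of_mulEquiv ((i.trans (MulEquiv.subgroupCongr htop)).trans Subgroup.topEquiv).symm
          (H28.GLComp.sl_quasisimple 2 le_rfl (by omega))
      exact absurd (inferInstance : Group.IsSolvable (↥E ⧸ pCore p ↥E)) (H26.Quasisimple.not_isSolvable h5)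
    have h5 := Fintype.one_lt_card (α := F)
    have hFp : Fintype.card F = p := by
      have hn : n ≠ 0 := by
        rintro rfl
        rw [pow_zero] at hF
        omega
      have hpd : p ∣ Fintype.card F := by rw [hF]; exact dvd_pow_self p hn
      have h6 : Fintype.card F = 2 ∨ Fintype.card F = 3 := by omega
      rcases h6 with h6 | h6
      · rw [h6] at hpd ⊢
        exact ((Nat.prime_dvd_prime_iff_eq hp.out Nat.prime_two).1 hpd).symm
      · rw [h6] at hpd ⊢
        exact ((Nat.prime_dvd_prime_iff_eq hp.out Nat.prime_three).1 hpd).symm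
    have hk : pCore p ↥E ≤ ρ.ker := by
      intro x hx
      apply c.rho_eq_one
      intro u hu
      have hxQ : (x : G) ∈ pCoreOf p E := ⟨x, hx, rfl⟩
      have : (x : G) * u * (x : G)⁻¹ * u⁻¹ = 1 := by
        rw [QWc hxQ hu]; group
      rw [this]; exact one_mem _
    have hk' := ker_eq' ρ c.rng hiso hk
    refine ⟨?_, ?_⟩
    · have hb : Function.Bijective (fun x : ↥X => Multiplicative.toAdd (ψ ⟨x, hXW x.2⟩)) := by
        constructor
        · intro x y h
          obtain ⟨w, hw, hxw⟩ := (c.eq_iff _ _).1 (Multiplicative.toAdd.injective h)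
          have h6 : (x : G) = y * w := hxw
          have h7 : w = (y : G)⁻¹ * x := by rw [h6]; group
          have h8 : w = 1 := hX1 (by rw [h7]; exact mul_mem (inv_mem y.2) x.2) hw
          rw [h8, mul_one] at h6
          exact Subtype.ext h6
        · intro v
          obtain ⟨u, hu⟩ := c.sur (Multiplicative.ofAdd v)
          obtain ⟨a, ha, y, hy, hay⟩ := hdec u.2
          refine ⟨⟨a, ha⟩, ?_⟩
          have : ψ u = ψ ⟨a, hXW ha⟩ := (c.eq_iff _ _).2 ⟨y, hy, hay⟩
          show Multiplicative.toAdd (ψ ⟨a, hXW ha⟩) = v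
          rw [← this, hu]; rfl
      rw [Nat.card_congr (Equiv.ofBijective _ hb), Nat.card_eq_fintype_card]
      simp [hFp]
    · intro e he w hw hw1 hew
      have hw0 : Multiplicative.toAdd (ψ ⟨w, hXW hw⟩) ≠ 0 := by
        intro h
        apply hw1
        apply hX1 hw
        exact (c.ker ⟨w, hXW hw⟩).1 (Multiplicative.toAdd.injective h)
      obtain ⟨w', hw'1, hw'2⟩ := c.act ⟨e, he⟩ ⟨w, hXW hw⟩
      have h6 : w' = ⟨w, hXW hw⟩ := Subtype.ext (by rw [hw'1]; exact hew)
      rw [h6] at hw'2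
      have h7 : ρ ⟨e, he⟩ ∈ commutator SL(2, F) := by rw [← c.rng]; exact ⟨_, rfl⟩
      have h8 := comm_free h4 h7 hw0 hw'2.symm
      have h9 : (⟨e, he⟩ : ↥E) ∈ pCore p ↥E := by rw [← hk']; exact h8
      exact ⟨_, h9, rfl⟩
  · obtain ⟨hp2, m, hiso, h1, -⟩ := h'
    have hm : m = 1 := by
      obtain ⟨i⟩ := hiso
      rcases Nat.lt_or_ge m 2 with hm | hm
      · have hm' : m = 0 ∨ m = 1 := by omega
        rcases hm' with rfl | rfl
        · exfalso
          have h3 : Nat.card (↥E ⧸ pCore p ↥E) = 1 := by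
            rw [Nat.card_congr i.toEquiv, Nat.card_eq_fintype_card]
            rfl
          rw [card_quot] at h3
          rcases hsm with ⟨-, h⟩ | ⟨-, h⟩ <;> omega
        · rfl
      · exfalso
        have h5 : IsQuasisimple (↥E ⧸ pCore p ↥E) :=
          H26.Quasisimple.of_mulEquiv i.symm (H54.ThreeCyc.isQuasisimple_alt (by omega))
        exact absurd (inferInstance : Group.IsSolvable (↥E ⧸ pCore p ↥E)) (H26.Quasisimple.not_isSolvable h5)
    subst hm
    obtain ⟨hEU, hU₀, ρ, ψ, hρ, hsum, hψ, hker, hact⟩ := h1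
    have heq : ∀ u v : ↥W, ψ u = ψ v ↔ ∃ w ∈ W ⊓ centralizer (E : Set G), (u : G) = v * w := by
      intro u v
      constructor
      · intro h
        refine ⟨(v : G)⁻¹ * u, ?_, by group⟩
        have h1 : ψ (v⁻¹ * u) = 1 := by rw [map_mul, map_inv, h, inv_mul_cancel]
        exact (hker _).1 h1
      · rintro ⟨w, hw, h⟩
        have h1 : u = v * ⟨w, hU₀ hw⟩ := Subtype.ext h
        rw [h1, map_mul, (hker ⟨w, hU₀ hw⟩).2 hw]
        exact mul_one (ψ v)
    refine ⟨?_, ?_⟩
    · have hb : Function.Bijective (fun x : ↥X => (⟨Multiplicative.toAdd (ψ ⟨x, hXW x.2⟩), hsum _⟩ :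
          {v : Fin 3 → ZMod 2 // ∑ i, v i = 0})) := by
        constructor
        · intro x y h
          obtain ⟨w, hw, hxw⟩ := (heq _ _).1 (Multiplicative.toAdd.injective (congrArg Subtype.val h))
          have h6 : (x : G) = y * w := hxw
          have h7 : w = (y : G)⁻¹ * x := by rw [h6]; group
          have h8 : w = 1 := hX1 (by rw [h7]; exact mul_mem (inv_mem y.2) x.2) hw
          rw [h8, mul_one] at h6
          exact Subtype.ext h6
        · rintro ⟨v, hv⟩
          obtain ⟨u, hu⟩ := hψ v hv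
          obtain ⟨a, ha, y, hy, hay⟩ := hdec u.2
          refine ⟨⟨a, ha⟩, ?_⟩
          have : ψ u = ψ ⟨a, hXW ha⟩ := (heq _ _).2 ⟨y, hy, hay⟩
          apply Subtype.ext
          show Multiplicative.toAdd (ψ ⟨a, hXW ha⟩) = v
          rw [← this, hu]
      rw [Nat.card_congr (Equiv.ofBijective _ hb), card_even3, hp2]
      rfl
    · intro e he w hw hw1 hew
      have hw0 : Multiplicative.toAdd (ψ ⟨w, hXW hw⟩) ≠ 0 := by
        intro h
        apply hw1
        apply hX1 hw
        exact (hker ⟨w, hXW hw⟩).1 (Multiplicative.toAdd.injective h)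
      obtain ⟨w', hw'1, hw'2⟩ := hact ⟨e, he⟩ ⟨w, hXW hw⟩
      have h6 : w' = ⟨w, hXW hw⟩ := Subtype.ext (by rw [hw'1]; exact hew)
      rw [h6] at hw'2
      have h7 : ρ ⟨e, he⟩ ∈ alternatingGroup (Fin 3) := by
        have : ρ ⟨e, he⟩ ∈ ρ.range := ⟨_, rfl⟩
        rw [hρ] at this
        exact this
      have h8 : ρ ⟨e, he⟩ = 1 := a3 _ (Equiv.Perm.mem_alternatingGroup.1 h7) _ (hsum _) hw0 (fun i => (hw'2 i).symm)
      apply hker0 he
      intro u hu
      obtain ⟨u', hu'1, hu'2⟩ := hact ⟨e, he⟩ ⟨u, hu⟩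
      have h9 : ψ u' = ψ ⟨u, hu⟩ := by
        apply Multiplicative.toAdd.injective
        funext i
        rw [hu'2 i, h8]
        rfl
      have h10 : ψ (u' * ⟨u, hu⟩⁻¹) = 1 := by rw [map_mul, map_inv, h9, mul_inv_cancel]
      have h11 := (hker _).1 h10
      have h12 : ((u' * ⟨u, hu⟩⁻¹ : ↥W) : G) = e * u * e⁻¹ * u⁻¹ := by
        show (u' : G) * u⁻¹ = _
        rw [hu'1]
      rwa [h12] at h11

end H52.BB
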