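import Cfsg.Agent.Lib.H51.BauExB
import Cfsg.Agent.Lib.H28.GLComp
import Cfsg.Agent.Lib.H54.ThreeCyc2
import Cfsg.Agent.Lib.H43.GL2Card
import Cfsg.Agent.Lib.H41.OsA

/-!
Dictionary for the groups `SL₂(F)'` and `A_n`.
-/

set_option autoImplicit false
set_option linter.unusedSectionVars false
set_option linter.unusedVariables false

namespace H52.BB

open Subgroup Cfsg H51.Bau
open scoped MatrixGroups commutatorElement

section sl

variable {F : Type} [Field F] [Fintype F]

theorem comm_top4 (h : 4 ≤ Fintype.card F) : commutator SL(2, F) = ⊤ :=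
  H26.Quasisimple.commutator_eq_top (H28.GLComp.sl_quasisimple 2 le_rfl (by omega))

theorem card_comm (h : Fintype.card F ≤ 3) : Nat.card ↥(commutator SL(2, F)) = Fintype.card F ^ 2 - 1 := by
  classical
  have h1 := Fintype.one_lt_card (α := F)
  have hq : (Fintype.card F).Prime := by
    generalize Fintype.card F = q at h h1
    interval_cases q <;> norm_num
  have hsl := H43.GL2Card.card_SL (F := F)
  have hsolv : Group.IsSolvable SL(2, F) := by
    apply H41.OsA.burnside (p := 2) (q := 3) (a := 3) (b := 1) Nat.prime_two Nat.prime_three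
    rw [hsl]
    generalize Fintype.card F = q at h h1
    interval_cases q <;> decide
  have hntr : Nontrivial SL(2, F) := by
    rw [← Finite.one_lt_card_iff_nontrivial, hsl]
    generalize Fintype.card F = q at h h1
    interval_cases q <;> decide
  have hne : commutator SL(2, F) ≠ ⊤ := by
    intro htop
    exact (IsSolvable.commutator_lt_top_of_nontrivial SL(2, F)).ne htop
  let f : Multiplicative F →* SL(2, F) ⧸ commutator SL(2, F) :=
    { toFun := fun s => ((H85.SL2.up (Multiplicative.toAdd s) : SL(2, F)) : SL(2, F) ⧸ commutator SL(2, F))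
      map_one' := by
        show ((H85.SL2.up (0 : F) : SL(2, F)) : SL(2, F) ⧸ commutator SL(2, F)) = 1
        rw [H85.SL2.up_zero]; rfl
      map_mul' := by
        intro a b
        show ((H85.SL2.up (Multiplicative.toAdd a + Multiplicative.toAdd b) : SL(2, F)) : SL(2, F) ⧸ commutator SL(2, F)) = _
        rw [H85.SL2.up_add]; rfl }
  have hf : Function.Surjective f := by
    intro x
    obtain ⟨g, rfl⟩ := QuotientGroup.mk_surjective x
    obtain ⟨s, hs⟩ := exists_up g
    refine ⟨Multiplicative.ofAdd (-s), ?_⟩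
    show ((H85.SL2.up (-s) : SL(2, F)) : SL(2, F) ⧸ commutator SL(2, F)) = g
    rw [← H85.SL2.up_inv]
    symm
    rw [QuotientGroup.eq]
    have : g⁻¹ * (H85.SL2.up s)⁻¹ = (H85.SL2.up s * g)⁻¹ := by group
    rw [this]
    apply inv_mem
    have h2 := Subgroup.Normal.conj_mem (inferInstance : (commutator SL(2, F)).Normal) _ hs (H85.SL2.up s)
    have e : H85.SL2.up s * (g * H85.SL2.up s) * (H85.SL2.up s)⁻¹ = H85.SL2.up s * g := by group
    rwa [e] at h2
  have hd : Nat.card (SL(2, F) ⧸ commutator SL(2, F)) ∣ Fintype.card F := by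
    have := Subgroup.card_dvd_of_surjective f hf
    rwa [Nat.card_eq_fintype_card (α := Multiplicative F), Fintype.card_multiplicative] at this
  have hi : Nat.card (SL(2, F) ⧸ commutator SL(2, F)) = Fintype.card F := by
    rcases (Nat.dvd_prime hq).1 hd with h2 | h2
    · exfalso
      apply hne
      rw [← Subgroup.index_eq_one]
      exact h2
    · exact h2
  have h3 := Subgroup.card_eq_card_quotient_mul_card_subgroup (commutator SL(2, F))
  rw [hsl, hi] at h3
  exact (Nat.eq_of_mul_eq_mul_left (by omega) h3).symm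

/-- the derived subgroup acts freely on the nonzero vectors -/
theorem comm_free (h : Fintype.card F ≤ 3) {k : SL(2, F)} (hk : k ∈ commutator SL(2, F)) {v : Fin 2 → F} (hv : v ≠ 0)
    (hkv : (k : Matrix (Fin 2) (Fin 2) F).mulVec v = v) : k = 1 := by
  classical
  have hne : ∀ g : SL(2, F), (g : Matrix (Fin 2) (Fin 2) F).mulVec v ≠ 0 := by
    intro g hg
    apply hv
    have : (((g⁻¹ * g : SL(2, F)) : Matrix (Fin 2) (Fin 2) F)).mulVec v = 0 := by
      rw [Matrix.SpecialLinearGroup.coe_mul, ← Matrix.mulVec_mulVec, hg, Matrix.mulVec_zero]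
    rwa [inv_mul_cancel, Matrix.SpecialLinearGroup.coe_one, Matrix.one_mulVec] at this
  let f : ↥(commutator SL(2, F)) → {w : Fin 2 → F // w ≠ 0} := fun g => ⟨(g.1 : Matrix (Fin 2) (Fin 2) F).mulVec v, hne _⟩
  have hf : Function.Surjective f := by
    rintro ⟨w, hw⟩
    obtain ⟨r, hr, hrv⟩ := exists_comm hv hw
    exact ⟨⟨r, hr⟩, Subtype.ext hrv⟩
  have hc : Nat.card ↥(commutator SL(2, F)) = Nat.card {w : Fin 2 → F // w ≠ 0} := by
    rw [card_comm h, Nat.card_eq_fintype_card, Fintype.card_subtype_compl, Fintype.card_subtype_eq]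
    simp
  have hb : Function.Bijective f := (Nat.bijective_iff_surjective_and_card f).2 ⟨hf, hc⟩
  have h1 : f ⟨k, hk⟩ = f 1 := by
    apply Subtype.ext
    show (k : Matrix (Fin 2) (Fin 2) F).mulVec v = ((1 : SL(2, F)) : Matrix (Fin 2) (Fin 2) F).mulVec v
    rw [hkv, Matrix.SpecialLinearGroup.coe_one, Matrix.one_mulVec]
  exact congrArg Subtype.val (hb.1 h1)

end sl

section perm

theorem perm_faithful {n : ℕ} (hn : 3 ≤ n) {σ : Equiv.Perm (Fin n)}
    (h : ∀ v : Fin n → ZMod 2, ∑ i, v i = 0 → ∀ i, v (σ⁻¹ i) = v i) : σ = 1 := by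
  classical
  by_contra hne
  obtain ⟨i, hi⟩ : ∃ i, σ i ≠ i := by
    by_contra hcon
    push Not at hcon
    exact hne (Equiv.ext hcon)
  obtain ⟨j, hj⟩ : ∃ j : Fin n, j ∉ ({i, σ i} : Finset (Fin n)) := by
    by_contra hcon
    push Not at hcon
    have h1 : (Finset.univ : Finset (Fin n)) ⊆ {i, σ i} := fun x _ => hcon x
    have h2 := Finset.card_le_card h1
    rw [Finset.card_univ, Fintype.card_fin] at h2
    have h3 := Finset.card_le_two (a := i) (b := σ i)
    omega
  rw [Finset.mem_insert, Finset.mem_singleton, not_or] at hj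
  have h1 := h (Pi.single i 1 + Pi.single j 1) (by
    simp only [Pi.add_apply, Finset.sum_add_distrib]
    rw [Finset.sum_pi_single', Finset.sum_pi_single']
    simp
    decide) (σ i)
  have h0 : σ⁻¹ (σ i) = i := σ.symm_apply_apply i
  rw [h0] at h1
  simp [hi, hj.1, hj.2, Ne.symm hj.1, Ne.symm hj.2, Pi.single_apply] at h1

end perm

end H52.BB
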