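import Mathlib
import Cfsg.Agent.Lib.H56.BZ0
import Cfsg.Agent.Lib.H25.BzA2c

set_option autoImplicit false
set_option linter.all false

/-! S2987, A2: `alt_HP`. -/

namespace H52.BZ

open Subgroup Cfsg H51.FF H51.OG H52.PRes H52.PCore H51.Bau H1.Coprime2 H56.BmP H56.BmQ H56.BmV H56.BZ
open scoped commutatorElement MatrixGroups

variable {G : Type*} [Group G] [Finite G]
variable {E : Subgroup G}

theorem alt_HP (hG : centralizer (pCore 2 G : Set G) ≤ pCore 2 G) {T : Sylow 2 G} {m : ℕ} (hm : 2 ≤ m)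
    (hE : IsBaumannBlock 2 (T : Subgroup G) E)
    (hiso : Nonempty (↥E ⧸ pCore 2 ↥E ≃* ↥(alternatingGroup (Fin (2 * m + 1)))))
    (hact : ActsAsOddPermModuleOnSection (2 * m + 1) (alternatingGroup (Fin (2 * m + 1))) E
          (omegaOneCenter 2 (pCoreOf 2 E)) (omegaOneCenter 2 (pCoreOf 2 E) ⊓ centralizer (E : Set G))) :
    HP 2 (T : Subgroup G) E := by
  haveI : Fact (Nat.Prime 2) := ⟨Nat.prime_two⟩
  set U := omegaOneCenter 2 (pCoreOf 2 E) with hU
  obtain ⟨hEU, hU0, ρ, ψ, hρ, hsum, hsurj, hker, hact⟩ := hact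
  refine ⟨normalizer (E : Set G), Subgroup.le_normalizer, le_rfl, Subgroup.le_normalizer, le_nz_of_comm hE.2.1, ?_⟩
  intro h hh
  refine ⟨1, ?_⟩
  rw [pow_one]
  have hUe : IsElementaryAbelian 2 U := H13.Omega.isElementaryAbelian_omegaZ _
  have hUc : ∀ a ∈ U, ∀ b ∈ U, a * b = b * a := fun a ha b hb =>
    congrArg Subtype.val (hUe.1.is_comm.comm (⟨a, ha⟩ : U) ⟨b, hb⟩)
  have nU : normalizer (E : Set G) ≤ normalizer (U : Set G) := nz_omegaOneCenter
  have nC : normalizer (E : Set G) ≤ normalizer (centralizer (E : Set G) : Set G) :=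
    le_normalizer_centralizer (le_refl (normalizer (E : Set G)))
  have hhU : ∀ u ∈ U, h * u * h⁻¹ ∈ U := fun u hu => (mem_normalizer_iff.1 (nU hh) u).1 hu
  let c : ↥U →* ↥U :=
    { toFun := fun u => ⟨h * u * h⁻¹, hhU u u.2⟩
      map_one' := by apply Subtype.ext; simp
      map_mul' := fun a b => by
        apply Subtype.ext
        change h * (a * b : G) * h⁻¹ = h * a * h⁻¹ * (h * b * h⁻¹)
        group }
  have hc1 : ∀ u : ↥U, ψ (c u) = 1 ↔ ψ u = 1 := by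
    intro u
    rw [hker, hker]
    constructor
    · rintro ⟨-, h2⟩
      exact ⟨u.2, (mem_normalizer_iff.1 (nC hh) u).2 h2⟩
    · rintro ⟨-, h2⟩
      exact ⟨(c u).2, (mem_normalizer_iff.1 (nC hh) u).1 h2⟩
  have hceq : ∀ u u' : ↥U, ψ u = ψ u' → ψ (c u) = ψ (c u') := by
    intro u u' h1
    have h2 : ψ (u * u'⁻¹) = 1 := by rw [map_mul, map_inv, h1, mul_inv_cancel]
    have h3 := (hc1 _).2 h2
    rw [map_mul, map_mul, map_inv, map_inv] at h3
    exact mul_inv_eq_one.1 h3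
  have hex : ∀ v : Fin (2 * m + 1) → ZMod 2, ∃ y : Fin (2 * m + 1) → ZMod 2,
      ∀ u : ↥U, Multiplicative.toAdd (ψ u) = v → y = Multiplicative.toAdd (ψ (c u)) := by
    intro v
    by_cases hv : ∃ u : ↥U, Multiplicative.toAdd (ψ u) = v
    · obtain ⟨u, hu⟩ := hv
      refine ⟨Multiplicative.toAdd (ψ (c u)), fun u' hu' => ?_⟩
      have h1 : ψ u = ψ u' := Multiplicative.toAdd.injective (hu.trans hu'.symm)
      rw [hceq u u' h1]
    · exact ⟨0, fun u hu => absurd ⟨u, hu⟩ hv⟩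
  choose x hx using hex
  have hxu : ∀ u : ↥U, x (Multiplicative.toAdd (ψ u)) = Multiplicative.toAdd (ψ (c u)) := fun u => hx _ u rfl
  obtain ⟨π, hπ⟩ := H25.BZ.norm_perm (n := 2 * m + 1) (by omega) x (by
      intro v hv
      obtain ⟨u, rfl⟩ := hsurj v hv
      rw [hxu]; exact hsum _) (by
      intro v w hv hw
      obtain ⟨u, rfl⟩ := hsurj v hv
      obtain ⟨u', rfl⟩ := hsurj w hw
      rw [← toAdd_mul, ← map_mul, hxu, hxu, hxu, map_mul, map_mul, toAdd_mul]) (by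
      intro v hv h0
      obtain ⟨u, rfl⟩ := hsurj v hv
      rw [hxu] at h0
      have h1 : ψ (c u) = 1 := Multiplicative.toAdd.injective h0
      rw [(hc1 u).1 h1]; rfl) (by
      intro w hw
      obtain ⟨u', rfl⟩ := hsurj w hw
      have h1 : h⁻¹ * u' * h ∈ U := by
        have := (mem_normalizer_iff.1 (inv_mem (nU hh)) (u' : G)).1 u'.2
        rwa [inv_inv] at this
      have h2 : c ⟨h⁻¹ * u' * h, h1⟩ = u' := by
        apply Subtype.ext
        change h * (h⁻¹ * u' * h) * h⁻¹ = u'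
        group
      exact ⟨_, hsum ⟨h⁻¹ * u' * h, h1⟩, by rw [hxu, h2]⟩) (by
      intro σ hσ
      rw [← hρ] at hσ
      obtain ⟨e, rfl⟩ := hσ
      have he' : h * e * h⁻¹ ∈ E := (mem_normalizer_iff.1 hh (e : G)).1 e.2
      refine ⟨ρ ⟨h * e * h⁻¹, he'⟩, by rw [← hρ]; exact ⟨_, rfl⟩, ?_⟩
      intro v hv i
      obtain ⟨u, rfl⟩ := hsurj v hv
      obtain ⟨w, hw1, hw2⟩ := hact e u
      obtain ⟨w', hw1', hw2'⟩ := hact ⟨h * e * h⁻¹, he'⟩ (c u)
      have h1 : (fun i => Multiplicative.toAdd (ψ u) ((ρ e)⁻¹ i)) = Multiplicative.toAdd (ψ w) := by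
        funext i; exact (hw2 i).symm
      have h2 : c w = w' := by
        apply Subtype.ext
        change h * (w : G) * h⁻¹ = w'
        rw [hw1, hw1']
        change h * (e * u * (e : G)⁻¹) * h⁻¹ = h * e * h⁻¹ * (h * u * h⁻¹) * (h * e * h⁻¹)⁻¹
        group
      rw [h1, hxu, hxu, h2]
      exact hw2' i)
  have hπ' : ∀ (u : ↥U) (i), Multiplicative.toAdd (ψ (c u)) i = Multiplicative.toAdd (ψ u) (π⁻¹ i) := by
    intro u i
    rw [← hxu]; exact hπ _ (hsum u) i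
  have hsq : π ^ 2 ∈ alternatingGroup (Fin (2 * m + 1)) := by
    rw [Equiv.Perm.mem_alternatingGroup, map_pow]
    exact Int.units_sq _
  rw [← hρ] at hsq
  obtain ⟨e, he⟩ := hsq
  have hg : (e : G)⁻¹ * (h * h) ∈ normalizer (E : Set G) :=
    mul_mem (inv_mem (Subgroup.le_normalizer e.2)) (mul_mem hh hh)
  have hWU : WB 2 E ≤ U := H1.Coprime2.commutator_le_left (Subgroup.le_normalizer.trans nz_omegaOneCenter)
  have key := ts hG hE hg (by
    intro w hw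
    have hwU := hWU hw
    obtain ⟨w', hw1', hw2'⟩ := hact e ⟨w, hwU⟩
    have h1 : ψ (c (c ⟨w, hwU⟩)) = ψ w' := by
      apply Multiplicative.toAdd.injective
      funext i
      rw [hπ', hπ', hw2', he, sq, mul_inv_rev, Equiv.Perm.mul_apply]
    have h2 : ψ (w'⁻¹ * c (c ⟨w, hwU⟩)) = 1 := by rw [map_mul, map_inv, h1, inv_mul_cancel]
    rw [hker] at h2
    have h3 : (w'⁻¹ * c (c ⟨w, hwU⟩) : ↥U) = ((w' : G)⁻¹ * (h * (h * w * h⁻¹) * h⁻¹) : G) := rfl
    rw [h3, hw1'] at h2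
    have h4 : ((e : G) * w * (e : G)⁻¹)⁻¹ * (h * (h * w * h⁻¹) * h⁻¹) ∈ centralizer (E : Set G) := h2.2
    have h5 := (mem_normalizer_iff.1 (nC (inv_mem (Subgroup.le_normalizer e.2))) _).1 h4
    have h6 : (e : G)⁻¹ * (((e : G) * w * (e : G)⁻¹)⁻¹ * (h * (h * w * h⁻¹) * h⁻¹)) * (e : G)⁻¹⁻¹ =
        w⁻¹ * ((e : G)⁻¹ * (h * h) * w * ((e : G)⁻¹ * (h * h))⁻¹) := by group
    rw [h6] at h5
    have h7 : (e : G)⁻¹ * (h * h) * w * ((e : G)⁻¹ * (h * h))⁻¹ ∈ U := (mem_normalizer_iff.1 (nU hg) w).1 hwU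
    rw [hUc _ (inv_mem hwU) _ h7] at h5
    exact h5)
  have h8 : h ^ 2 = e * ((e : G)⁻¹ * (h * h)) := by rw [sq]; group
  rw [h8]
  exact mul_mem (le_sup_left (a := E) e.2) (le_sup_right (a := E) key)

end H52.BZ
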