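import Mathlib
import Cfsg.Prelude.Def_PLocal
import Cfsg.Agent.Lib.H13.Replace
import Cfsg.Agent.Lib.H13.Nil
import Cfsg.Agent.Lib.H28.RelHall
import Cfsg.Agent.Lib.H51.FFPair
import Cfsg.Agent.Lib.H51.OffGL

set_option autoImplicit false
set_option linter.all false

/-! Elementary abelian subgroups of maximal order normalize the members of a family of commuting "blocks". -/

namespace H52.BZJ

open Subgroup Cfsg H51.FF H51.OG H13.Replace
open scoped commutatorElement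

universe u

variable {G : Type u} [Group G] [Finite G] {p : ℕ} [hp : Fact p.Prime]

/-- a family of blocks -/
structure Fam (p : ℕ) (V : Subgroup G) (Ω : Set (Subgroup G)) (Wf : Subgroup G → Subgroup G) : Prop where
  ve : IsElementaryAbelian p V
  inv : ∀ X ∈ Ω, ∀ g : G, cg g X ∈ Ω
  wcg : ∀ X ∈ Ω, ∀ g : G, cg g (Wf X) = Wf (cg g X)
  wv : ∀ X ∈ Ω, Wf X ≤ V
  wx : ∀ X ∈ Ω, Wf X ≤ X
  wc : ∀ X ∈ Ω, ¬ Wf X ≤ centralizer (X : Set G)
  w4 : ∀ X ∈ Ω, p = 2 → 4 * Nat.card ↥(Wf X ⊓ centralizer (X : Set G)) ≤ Nat.card ↥(Wf X)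
  ts : ∀ X ∈ Ω, ∀ c ∈ normalizer (X : Set G), (∀ w ∈ Wf X, c * w * c⁻¹ * w⁻¹ ∈ centralizer (X : Set G)) →
    c ∈ centralizer (Wf X : Set G)
  com : ∀ X ∈ Ω, ∀ Y ∈ Ω, X ≠ Y → ∀ x ∈ X, ∀ y ∈ Y, x * y = y * x

variable {V : Subgroup G} {Ω : Set (Subgroup G)} {Wf : Subgroup G → Subgroup G}

theorem vcomm (hV : IsElementaryAbelian p V) {a b : G} (ha : a ∈ V) (hb : b ∈ V) : a * b = b * a :=
  congrArg Subtype.val (hV.1.is_comm.comm (⟨a, ha⟩ : V) ⟨b, hb⟩)

/-- elements of joins of commuting groups -/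
theorem mem_sup_comm {A B : Subgroup G} (hc : ∀ a ∈ A, ∀ b ∈ B, a * b = b * a) :
    A ≤ normalizer (B : Set G) := by
  have h1 : A ≤ centralizer (B : Set G) := fun a ha => mem_centralizer_iff.2 fun b hb => (hc a ha b hb).symm
  exact h1.trans (centralizer_le_normalizer _)

theorem mem_sup' {A B : Subgroup G} (hc : ∀ a ∈ A, ∀ b ∈ B, a * b = b * a) {z : G} (hz : z ∈ A ⊔ B) :
    ∃ a ∈ A, ∃ b ∈ B, a * b = z := by
  have h := (H13.Norm.mem_sup_of_le_normalizer' (mem_sup_comm (A := B) (B := A) fun b hb a ha => (hc a ha b hb).symm)).1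
    (show z ∈ A ⊔ B from hz)
  exact h

/-- joins of commuting elementary abelian groups -/
theorem ea_sup {A B : Subgroup G} (hA : IsElementaryAbelian p A) (hB : IsElementaryAbelian p B)
    (hc : ∀ a ∈ A, ∀ b ∈ B, a * b = b * a) : IsElementaryAbelian p (A ⊔ B) := by
  have hmem := fun z (hz : z ∈ A ⊔ B) => mem_sup' hc hz
  refine ⟨⟨⟨?_⟩⟩, ?_⟩
  · rintro ⟨x, hx⟩ ⟨y, hy⟩
    obtain ⟨a, ha, b, hb, rfl⟩ := hmem x hx
    obtain ⟨c, hc', d, hd, rfl⟩ := hmem y hy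
    apply Subtype.ext
    change a * b * (c * d) = c * d * (a * b)
    have e1 : Commute a c := vcomm hA ha hc'
    have e2 : Commute a d := hc a ha d hd
    have e3 : Commute b c := (hc c hc' b hb).symm
    have e4 : Commute b d := vcomm hB hb hd
    exact (e1.mul_right e2).mul_left (e3.mul_right e4)
  · intro x hx
    obtain ⟨a, ha, b, hb, rfl⟩ := hmem x hx
    have e1 : Commute a b := hc a ha b hb
    rw [e1.mul_pow, hA.2 a ha, hB.2 b hb, one_mul]

theorem card_mul {A B : Subgroup G} (hc : ∀ a ∈ A, ∀ b ∈ B, a * b = b * a) :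
    Nat.card ↥(A ⊔ B) * Nat.card ↥(A ⊓ B) = Nat.card A * Nat.card B :=
  H28.RelHall.card_sup_mul_card_inf (mem_sup_comm hc)

theorem ea_mono {A B : Subgroup G} (hB : IsElementaryAbelian p B) (h : A ≤ B) : IsElementaryAbelian p A :=
  ⟨⟨⟨fun a b => Subtype.ext (vcomm hB (h a.2) (h b.2))⟩⟩, fun a ha => hB.2 a (h ha)⟩

section repl

variable [hVn : V.Normal] {P A : Subgroup G} (hV : IsElementaryAbelian p V) (hVP : V ≤ P)
  (hA : IsElementaryAbelian p A) (hAP : A ≤ P) (hmax : ∀ B ≤ P, IsElementaryAbelian p B → Nat.card B ≤ Nat.card A)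

include hV hVP hA hAP hmax in
theorem VC_le : V ⊓ centralizer (A : Set G) ≤ A := by
  have hc : ∀ a ∈ A, ∀ b ∈ V ⊓ centralizer (A : Set G), a * b = b * a := fun a ha b hb =>
    mem_centralizer_iff.1 hb.2 a ha
  have h1 : IsElementaryAbelian p (A ⊔ (V ⊓ centralizer (A : Set G))) := ea_sup hA (ea_mono hV inf_le_left) hc
  have h2 := hmax _ (sup_le hAP (inf_le_left.trans hVP)) h1
  have h3 : A = A ⊔ (V ⊓ centralizer (A : Set G)) := Subgroup.eq_of_le_of_card_ge le_sup_left h2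
  exact (le_sup_right (a := A) (b := V ⊓ centralizer (A : Set G))).trans h3.ge

include hV hVP hA hAP hmax in
theorem val_le {B : Subgroup G} (hB : B ≤ A) : val V B ≤ val V A := by
  unfold val
  have hc : ∀ a ∈ B, ∀ b ∈ V ⊓ centralizer (B : Set G), a * b = b * a := fun a ha b hb =>
    mem_centralizer_iff.1 hb.2 a ha
  rw [← card_mul hc]
  apply Nat.mul_le_mul
  · exact hmax _ (sup_le (hB.trans hAP) (inf_le_left.trans hVP)) (ea_sup (ea_mono hA hB) (ea_mono hV inf_le_left) hc)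
  · apply Subgroup.card_le_of_le
    refine le_inf (inf_le_right.trans inf_le_left) ?_
    intro x hx
    rw [mem_centralizer_iff]
    intro a ha
    exact vcomm hA ha (hB hx.1)

include hV hVP hA hAP hmax in
theorem repl {U : Subgroup G} (hU : U ≤ V) :
    Nat.card A ≤ Nat.card ↥((A ⊓ centralizer ((⁅U, A⁆ : Subgroup G) : Set G)) ⊔ ⁅U, A⁆) ∧
    V ⊓ centralizer ((A ⊓ centralizer ((⁅U, A⁆ : Subgroup G) : Set G) : Subgroup G) : Set G) =
      ⁅U, A⁆ ⊔ (V ⊓ centralizer (A : Set G)) := by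
  have hVV : V ≤ centralizer (V : Set G) := fun x hx => mem_centralizer_iff.2 fun y hy => vcomm hV hy hx
  have hAV : A ≤ normalizer (V : Set G) := by rw [Subgroup.normalizer_eq_top]; exact le_top
  have hAA : ⁅A, A⁆ ≤ centralizer (V : Set G) := by
    rw [commutator_le]
    intro a ha b hb
    rw [commutatorElement_eq_one_iff_mul_comm.2 (vcomm hA ha hb)]
    exact one_mem _
  obtain ⟨g1, g2⟩ := good_of_max hVV hAV hAA (fun B hB => val_le hV hVP hA hAP hmax hB) hU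
  refine ⟨?_, g1⟩
  set D := ⁅U, A⁆ with hD
  set A0 := A ⊓ centralizer (D : Set G) with hA0
  have hDV : D ≤ V := H13.Act.comm_le hAV hU
  have hVC := VC_le hV hVP hA hAP hmax
  have h1 : V ⊓ centralizer (A : Set G) ≤ A0 :=
    le_inf hVC (fun x hx => mem_centralizer_iff.2 fun y hy => vcomm hV (hDV hy) hx.1)
  have hc : ∀ a ∈ A0, ∀ b ∈ V ⊓ centralizer (A0 : Set G), a * b = b * a := fun a ha b hb =>
    mem_centralizer_iff.1 hb.2 a ha
  have h2 := card_mul hc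
  have h3 : A0 ⊔ (V ⊓ centralizer (A0 : Set G)) ≤ A0 ⊔ D := by
    rw [g1]
    exact sup_le le_sup_left (sup_le le_sup_right (h1.trans le_sup_left))
  have h4 : Nat.card ↥(A0 ⊓ (V ⊓ centralizer (A0 : Set G))) ≤ Nat.card ↥(V ⊓ centralizer (A : Set G)) := by
    apply Subgroup.card_le_of_le
    refine le_inf (inf_le_right.trans inf_le_left) ?_
    intro x hx
    rw [mem_centralizer_iff]
    intro a ha
    exact vcomm hA ha hx.1.1
  unfold val at g2
  have h5 : 0 < Nat.card ↥(V ⊓ centralizer (A : Set G)) := Nat.card_pos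
  have h6 : Nat.card A * Nat.card ↥(V ⊓ centralizer (A : Set G)) ≤
      Nat.card ↥(A0 ⊔ D) * Nat.card ↥(V ⊓ centralizer (A : Set G)) := by
    rw [g2, ← h2]
    exact Nat.mul_le_mul (Subgroup.card_le_of_le h3) h4
  exact Nat.le_of_mul_le_mul_right h6 h5

end repl

section main

variable [hVn : V.Normal] (H : Fam p V Ω Wf)

include H in
/-- `c` centralizes `w v⁻¹` -/
theorem two_fix {X : Subgroup G} (hX : X ∈ Ω) {a c : G} (ha : cg a X ≠ X) (hc : c ∈ normalizer (X : Set G))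
    (hc' : c ∈ normalizer ((cg a X : Subgroup G) : Set G))
    (hq : ∀ w ∈ Wf X, c * (w * (a * w⁻¹ * a⁻¹)) = (w * (a * w⁻¹ * a⁻¹)) * c) : c ∈ centralizer (Wf X : Set G) := by
  apply H.ts X hX c hc
  intro w hw
  have hv : a * w * a⁻¹ ∈ Wf (cg a X) := by
    rw [← H.wcg X hX a, mem_cg]
    have : a⁻¹ * (a * w * a⁻¹) * a = w := by group
    rw [this]; exact hw
  have hcv : c * (a * w * a⁻¹) * c⁻¹ ∈ Wf (cg a X) := by
    have h1 := H.wcg (cg a X) (H.inv X hX a) c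
    rw [mem_nz_iff] at hc'
    rw [hc'] at h1
    rw [← h1, mem_cg]
    have : c⁻¹ * (c * (a * w * a⁻¹) * c⁻¹) * c = a * w * a⁻¹ := by group
    rw [this]; exact hv
  have hV1 := H.wv _ (H.inv X hX a) hv
  have hV2 := H.wv _ (H.inv X hX a) hcv
  have hwV := H.wv X hX hw
  have e1 : c * w * c⁻¹ * w⁻¹ = (a * w * a⁻¹)⁻¹ * (c * (a * w * a⁻¹) * c⁻¹) := by
    have h1 := hq w hw
    have h2 : c * w * c⁻¹ * (c * (a * w * a⁻¹) * c⁻¹)⁻¹ = w * (a * w * a⁻¹)⁻¹ := by
      have h3 : c * w * c⁻¹ * (c * (a * w * a⁻¹) * c⁻¹)⁻¹ = c * (w * (a * w⁻¹ * a⁻¹)) * c⁻¹ := by group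
      rw [h3, h1]; group
    have h4 : c * w * c⁻¹ = w * (a * w * a⁻¹)⁻¹ * (c * (a * w * a⁻¹) * c⁻¹) := by
      rw [← h2]; group
    rw [h4]
    have h5 : (a * w * a⁻¹)⁻¹ * (c * (a * w * a⁻¹) * c⁻¹) ∈ V := mul_mem (inv_mem hV1) hV2
    have h6 := vcomm H.ve hwV h5
    rw [mul_assoc w, h6]; group
  rw [e1, mem_centralizer_iff]
  intro x hx
  exact H.com X hX (cg a X) (H.inv X hX a) (Ne.symm ha) x hx _
    (mul_mem (inv_mem (H.wx _ (H.inv X hX a) hv)) (H.wx _ (H.inv X hX a) hcv))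

include H in
/-- elements of other members centralize -/
theorem oth {X Y : Subgroup G} (hX : X ∈ Ω) (hY : Y ∈ Ω) (h : Y ≠ X) {w : G} (hw : w ∈ Wf Y) :
    w ∈ centralizer (X : Set G) := by
  rw [mem_centralizer_iff]
  intro x hx
  exact H.com X hX Y hY (Ne.symm h) x hx w (H.wx Y hY hw)

include H in
theorem wmem {X : Subgroup G} (hX : X ∈ Ω) (a : G) {w : G} (hw : w ∈ Wf X) : a * w * a⁻¹ ∈ Wf (cg a X) := by
  rw [← H.wcg X hX a, mem_cg]
  have : a⁻¹ * (a * w * a⁻¹) * a = w := by group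
  rw [this]; exact hw

include H in
/-- `A₀` normalizes the members -/
theorem A0_nz {P A A0 D : Subgroup G} (hVP : V ≤ P)
    (hA : IsElementaryAbelian p A) (hAP : A ≤ P) (hmax : ∀ B ≤ P, IsElementaryAbelian p B → Nat.card B ≤ Nat.card A)
    (hA0 : A0 ≤ A) (hDV : D ≤ V) (hcD : ∀ c ∈ A0, ∀ d ∈ D, c * d = d * c) (hcard : Nat.card A ≤ Nat.card ↥(A0 ⊔ D))
    {X : Subgroup G} (hX : X ∈ Ω) (hD : ∀ a ∈ A, ∀ w ∈ Wf X, w * (a * w⁻¹ * a⁻¹) ∈ D) :
    A0 ≤ normalizer (X : Set G) := by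
  intro a ha
  rw [mem_nz_iff]
  by_contra hne
  -- the relation
  have rel : ∀ b ∈ A0, ∀ w ∈ Wf X, w = (b * w * b⁻¹) * (b * (a * w⁻¹ * a⁻¹) * b⁻¹) * (a * w * a⁻¹) := by
    intro b hb w hw
    have h1 := hcD b hb _ (hD a (hA0 ha) w hw)
    have h2 : (b * w * b⁻¹) * (b * (a * w⁻¹ * a⁻¹) * b⁻¹) = b * (w * (a * w⁻¹ * a⁻¹)) * b⁻¹ := by group
    rw [h2, h1]; group
  have hno : ∀ b ∈ A0, cg b X = X ∨ cg (b * a) X = X := by
    intro b hb
    by_contra hcon
    push Not at hcon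
    apply H.wc X hX
    intro w hw
    rw [rel b hb w hw]
    refine mul_mem (mul_mem (oth H hX (H.inv X hX b) hcon.1 (wmem H hX b hw)) ?_)
      (oth H hX (H.inv X hX a) hne (wmem H hX a hw))
    have h1 : b * (a * w⁻¹ * a⁻¹) * b⁻¹ = (b * a) * w⁻¹ * (b * a)⁻¹ := by group
    rw [h1]
    exact oth H hX (H.inv X hX (b * a)) hcon.2 (wmem H hX (b * a) (inv_mem hw))
  -- `p = 2`
  have hp2 : p = 2 := by
    by_contra hp2
    rcases hno a ha with h | h
    · exact hne h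
    · obtain ⟨k, hk⟩ := hp.out.odd_of_ne_two hp2
      have h1 : (a * a) ∈ normalizer (X : Set G) := mem_nz_iff.2 h
      have h2 : a = (a * a) ^ (k + 1) := by
        have h3 : a ^ p = 1 := hA.2 a (hA0 ha)
        have h4 : (a * a) ^ (k + 1) = a ^ p * a := by
          rw [← pow_two, ← pow_mul, ← pow_succ]; congr 1; omega
        rw [h4, h3, one_mul]
      apply hne
      rw [← mem_nz_iff, h2]
      exact pow_mem h1 _
  set B0 := A0 ⊓ normalizer (X : Set G) with hB0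
  have hsplit : ∀ b ∈ A0, b ∈ B0 ∨ b * a ∈ B0 := by
    intro b hb
    rcases hno b hb with h | h
    · exact Or.inl ⟨hb, mem_nz_iff.2 h⟩
    · exact Or.inr ⟨mul_mem hb ha, mem_nz_iff.2 h⟩
  -- `B₀` centralizes `W`
  have hBW : ∀ c ∈ B0, ∀ w ∈ Wf X, c * w = w * c := by
    intro c hc w hw
    have hca : c * a = a * c := vcomm hA (hA0 hc.1) (hA0 ha)
    have h1 : c ∈ normalizer ((cg a X : Subgroup G) : Set G) := by
      rw [mem_nz_iff, cg_cg, hca, ← cg_cg, mem_nz_iff.1 hc.2]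
    have h2 := two_fix H hX hne hc.2 h1 (fun w hw => hcD c hc.1 _ (hD a (hA0 ha) w hw))
    exact (mem_centralizer_iff.1 h2 w hw).symm
  have hBD : ∀ c ∈ B0, ∀ d ∈ D, c * d = d * c := fun c hc d hd => hcD c hc.1 d hd
  set M := B0 ⊔ D with hM
  have hMe : IsElementaryAbelian p M :=
    ea_sup (ea_mono hA (inf_le_left.trans hA0)) (ea_mono H.ve hDV) hBD
  have hMW : ∀ c ∈ M, ∀ w ∈ Wf X, c * w = w * c := by
    intro c hc w hw
    obtain ⟨b, hb, d, hd, rfl⟩ := mem_sup' hBD hc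
    have e1 : Commute b w := hBW b hb w hw
    have e2 : Commute d w := vcomm H.ve (hDV hd) (H.wv X hX hw)
    exact e1.mul_left e2
  have hWe : IsElementaryAbelian p (Wf X) := ea_mono H.ve (H.wv X hX)
  have h1 := hmax (M ⊔ Wf X) (sup_le (sup_le (inf_le_left.trans (hA0.trans hAP)) (hDV.trans hVP)) ((H.wv X hX).trans hVP))
    (ea_sup hMe hWe hMW)
  have h2 := card_mul hMW
  -- the intersection
  have h3 : M ⊓ Wf X ≤ Wf X ⊓ centralizer (X : Set G) := by
    refine le_inf inf_le_right ?_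
    rintro w ⟨hw1, hw2⟩
    obtain ⟨b, hb, d, hd, hbd⟩ := mem_sup' hBD hw1
    have e1 : Commute a b := vcomm hA (hA0 ha) (hA0 hb.1)
    have e2 : Commute a d := hcD a ha d hd
    have e3 : a * w * a⁻¹ = w := by
      have : Commute a w := by rw [← hbd]; exact e1.mul_right e2
      rw [this.eq, mul_assoc, mul_inv_cancel, mul_one]
    have := oth H hX (H.inv X hX a) hne (wmem H hX a hw2)
    rwa [e3] at this
  have h4 := Subgroup.card_le_of_le h3
  have h5 := H.w4 X hX hp2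
  -- counting `A₀ D`
  have h6 : Nat.card ↥(A0 ⊔ D) ≤ 2 * Nat.card M := by
    have hmem : ∀ z : M ⊕ M, (Sum.elim (fun m : M => (m : G)) (fun m : M => (m : G) * a⁻¹) z) ∈ A0 ⊔ D := by
      rintro (m | m)
      · exact sup_le_sup_right (inf_le_left : B0 ≤ A0) D m.2
      · exact mul_mem (sup_le_sup_right (inf_le_left : B0 ≤ A0) D m.2) (inv_mem (le_sup_left (a := A0) (b := D) ha))
    have hs : Function.Surjective (fun z : M ⊕ M => (⟨_, hmem z⟩ : ↥(A0 ⊔ D))) := by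
      rintro ⟨x, hx⟩
      obtain ⟨b, hb, d, hd, rfl⟩ := mem_sup' hcD hx
      rcases hsplit b hb with h | h
      · exact ⟨Sum.inl ⟨b * d, mul_mem (le_sup_left (a := B0) h) (le_sup_right (a := B0) hd)⟩, rfl⟩
      · refine ⟨Sum.inr ⟨b * a * d, mul_mem (le_sup_left (a := B0) h) (le_sup_right (a := B0) hd)⟩, ?_⟩
        apply Subtype.ext
        change b * a * d * a⁻¹ = b * d
        have : a * d = d * a := hcD a ha d hd
        rw [mul_assoc b, this]; group
    have := Nat.card_le_card_of_surjective _ hs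
    rw [Nat.card_sum] at this
    omega
  have h7 : 0 < Nat.card M := Nat.card_pos
  have h8 : 0 < Nat.card ↥(M ⊓ Wf X) := Nat.card_pos
  have h9 : 4 * Nat.card ↥(M ⊓ Wf X) ≤ Nat.card (Wf X) := (Nat.mul_le_mul_left 4 h4).trans h5
  have h10 : 4 * Nat.card M * Nat.card ↥(M ⊓ Wf X) ≤ Nat.card ↥(M ⊔ Wf X) * Nat.card ↥(M ⊓ Wf X) := by
    rw [h2]
    calc 4 * Nat.card M * Nat.card ↥(M ⊓ Wf X) = Nat.card M * (4 * Nat.card ↥(M ⊓ Wf X)) := by ring
      _ ≤ Nat.card M * Nat.card (Wf X) := Nat.mul_le_mul_left _ h9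
  have h11 := Nat.le_of_mul_le_mul_right h10 h8
  omega

include H in
/-- elementary abelian subgroups of maximal order normalize all members -/
theorem A_nz {P A : Subgroup G} (hVP : V ≤ P) (hPp : IsPGroup p P)
    (hA : IsElementaryAbelian p A) (hAP : A ≤ P) (hmax : ∀ B ≤ P, IsElementaryAbelian p B → Nat.card B ≤ Nat.card A)
    {X₀ : Subgroup G} (hX₀ : X₀ ∈ Ω) : A ≤ normalizer (X₀ : Set G) := by
  by_contra hn₀
  set U : Subgroup G := ⨆ X : {X : Subgroup G // X ∈ Ω ∧ ¬ A ≤ normalizer (X : Set G)}, Wf X.1 with hU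
  have hUV : U ≤ V := iSup_le fun X => H.wv X.1 X.2.1
  obtain ⟨r1, r2⟩ := repl H.ve hVP hA hAP hmax hUV
  set D := ⁅U, A⁆ with hD
  set A0 := A ⊓ centralizer (D : Set G) with hA0
  have hAV : A ≤ normalizer (V : Set G) := by rw [Subgroup.normalizer_eq_top]; exact le_top
  have hVV : V ≤ centralizer (V : Set G) := fun x hx => mem_centralizer_iff.2 fun y hy => vcomm H.ve hy hx
  have hDV : D ≤ V := H13.Act.comm_le hAV hUV
  have hcD : ∀ c ∈ A0, ∀ d ∈ D, c * d = d * c := fun c hc d hd => (mem_centralizer_iff.1 hc.2 d hd).symm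
  have hDm : ∀ X : Subgroup G, X ∈ Ω → ¬ A ≤ normalizer (X : Set G) → ∀ a ∈ A, ∀ w ∈ Wf X,
      w * (a * w⁻¹ * a⁻¹) ∈ D := by
    intro X hX hXn a ha w hw
    have h1 : w ∈ U := (le_iSup (fun X : {X : Subgroup G // X ∈ Ω ∧ ¬ A ≤ normalizer (X : Set G)} => Wf X.1) ⟨X, hX, hXn⟩) hw
    have h2 := commutator_mem_commutator h1 ha
    have h3 : w * (a * w⁻¹ * a⁻¹) = ⁅w, a⁆ := by rw [commutatorElement_def]; group
    rw [h3]; exact h2
  -- `A₀` centralizes `U`
  have hA0U : U ≤ V ⊓ centralizer (A0 : Set G) := by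
    refine le_inf hUV (iSup_le ?_)
    rintro ⟨X, hX, hXn⟩
    have hA0X := A0_nz H hVP hA hAP hmax inf_le_left hDV hcD r1 hX (hDm X hX hXn)
    obtain ⟨a, ha, hax⟩ := Set.not_subset.1 hXn
    have hax' : cg a X ≠ X := fun h => hax (mem_nz_iff.2 h)
    intro w hw
    rw [mem_centralizer_iff]
    intro c hc
    have h1 : c ∈ normalizer ((cg a X : Subgroup G) : Set G) := by
      have hca : c * a = a * c := vcomm hA hc.1 ha
      rw [mem_nz_iff, cg_cg, hca, ← cg_cg, mem_nz_iff.1 (hA0X hc)]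
    have h2 := two_fix H hX hax' (hA0X hc) h1 (fun w hw => hcD c hc _ (hDm X hX hXn a ha w hw))
    exact (mem_centralizer_iff.1 h2 w hw).symm
  -- so `D = [D, A]`
  have h3 : D ≤ ⁅D, A⁆ := by
    have h4 : D ≤ ⁅D ⊔ (V ⊓ centralizer (A : Set G)), A⁆ := by
      have := commutator_mono (hA0U.trans r2.le) (le_refl A)
      exact this
    rw [H13.Act.sup_comm hVV hAV hDV inf_le_left] at h4
    have h5 : ⁅V ⊓ centralizer (A : Set G), A⁆ = ⊥ := by
      rw [commutator_eq_bot_iff_le_centralizer]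
      exact inf_le_right
    rwa [h5, sup_bot_eq] at h4
  have hDp : IsPGroup p D := hPp.to_le (hDV.trans hVP)
  have hAD : A ≤ normalizer (D : Set G) := by
    rw [hD]
    exact normalizer_commutator_ge_right U A
  have h6 : D = ⊥ := H13.Nil.eq_bot_of_le_commutator_of_isPGroup hDp hAD (hPp.to_le hAP) h3
  obtain ⟨a, ha, hax⟩ := Set.not_subset.1 hn₀
  have hax' : cg a X₀ ≠ X₀ := fun h => hax (mem_nz_iff.2 h)
  apply H.wc X₀ hX₀
  intro w hw
  have h7 := hDm X₀ hX₀ hn₀ a ha w hw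
  rw [h6, mem_bot] at h7
  have h8 : a * w * a⁻¹ = w := by
    have h9 : w * (a * w * a⁻¹)⁻¹ = 1 := by rw [← h7]; group
    exact (mul_inv_eq_one.1 h9).symm
  have h10 := oth H hX₀ (H.inv X₀ hX₀ a) hax' (wmem H hX₀ a hw)
  rwa [h8] at h10

end main

end H52.BZJ
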