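import Mathlib
import Cfsg.Agent.Lib.H56.BZ0
import Cfsg.Agent.Lib.H52.BZJ0

set_option autoImplicit false
set_option linter.all false

/-! S2987, P1: the Thompson subgroup normalizes `E`. -/

namespace H52.BZ

open Subgroup Cfsg H51.FF H51.OG H52.PRes H52.PCore H51.Bau H1.Coprime2 H56.BmP H56.BmQ H56.BmV H52.BZJ
open scoped commutatorElement MatrixGroups

universe u

variable {G : Type u} [Group G] [Finite G] {p : ℕ} [hp : Fact p.Prime]
variable {T : Sylow p G} {E : Subgroup G}

theorem WB_cg (g : G) (X : Subgroup G) : cg g (WB p X) = WB p (cg g X) := by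
  show (⁅omegaOneCenter p (pCoreOf p X), X⁆ : Subgroup G).map (MulAut.conj g).toMonoidHom = _
  rw [Subgroup.map_commutator]
  have h1 : cg g (omegaOneCenter p (pCoreOf p X)) = omegaOneCenter p (pCoreOf p (cg g X)) := by
    show cg g (omegaOne p _) = omegaOne p _
    have h2 : cg g (pCoreOf p X) = pCoreOf p (cg g X) := H51.AmalgamBasic.map_conj_pCoreOf X g
    rw [omegaOne_cg, cg_inf, map_centralizer, h2]
  exact congrArg (fun Y => ⁅Y, cg g X⁆) h1

theorem nz_cg {g c : G} {X : Subgroup G} (h : c ∈ normalizer ((cg g X : Subgroup G) : Set G)) :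
    g⁻¹ * c * g ∈ normalizer (X : Set G) := by
  rw [← cg_nz, mem_cg] at h
  exact h

theorem cen_cg {g c : G} {X : Subgroup G} : c ∈ centralizer ((cg g X : Subgroup G) : Set G) ↔
    g⁻¹ * c * g ∈ centralizer (X : Set G) := by
  rw [← map_centralizer, mem_cg]

theorem card_cg (g : G) (X : Subgroup G) : Nat.card ↥(cg g X) = Nat.card X := H28.Cj.card_cj g X

theorem vg_normal : (VG p G).Normal := by
  rw [← Subgroup.normalizer_eq_top_iff, eq_top_iff]
  intro g _
  rw [mem_nz_iff]
  show cg g (omegaOne p _) = _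
  rw [omegaOne_cg, cg_inf, map_centralizer]
  have : cg g (pCore p G) = pCore p G := by
    rw [← mem_nz_iff, Subgroup.normalizer_eq_top]; trivial
  rw [this]
  rfl

theorem fam (hG : centralizer (pCore p G : Set G) ≤ pCore p G) (hE : IsBaumannBlock p (T : Subgroup G) E)
    (hcom : ∀ g : G, E.map (MulAut.conj g).toMonoidHom = E ∨ ⁅E.map (MulAut.conj g).toMonoidHom, E⁆ = ⊥) :
    Fam p (VG p G) {X | ∃ g, cg g E = X} (WB p) := by
  obtain ⟨m1, m2, m3⟩ := block_main hG hE
  have hWV : WB p E ≤ VG p G := block_le hG hE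
  have hVe : IsElementaryAbelian p (VG p G) := H13.Omega.isElementaryAbelian_omegaZ _
  have hWE : WB p E ≤ E := by
    have h1 : omegaOneCenter p (pCoreOf p E) ≤ E := (H13.Omega.omegaZ_le _).trans (Subgroup.map_subtype_le _)
    rw [commutator_le]
    intro a ha b hb
    rw [commutatorElement_def]
    exact mul_mem (mul_mem (mul_mem (h1 ha) hb) (inv_mem (h1 ha))) (inv_mem hb)
  have hwc : ¬ WB p E ≤ centralizer (E : Set G) := by
    intro h
    rw [← commutator_eq_bot_iff_le_centralizer] at h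
    exact m2 (by rw [← m3]; exact h)
  have hEW : E ≤ normalizer (WB p E : Set G) := Subgroup.le_normalizer.trans nz_WE
  have hw4 : p = 2 → 4 * Nat.card ↥(WB p E ⊓ centralizer (E : Set G)) ≤ Nat.card ↥(WB p E) := by
    intro hp2
    have h1 := H13.Replace.card_eq_mul_relIndex (inf_le_left : WB p E ⊓ centralizer (E : Set G) ≤ WB p E)
    have hWp : IsPGroup p (WB p E) := fun x => ⟨1, by
      apply Subtype.ext
      rw [pow_one]
      exact hVe.2 x (hWV x.2)⟩
    obtain ⟨n, hn⟩ := IsPGroup.iff_card.mp hWp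
    have hd : (WB p E ⊓ centralizer (E : Set G)).relIndex (WB p E) ∣ 2 ^ n := by
      rw [← hp2, ← hn]
      exact Subgroup.relIndex_dvd_card _ _
    obtain ⟨k, hk, hk'⟩ := (Nat.dvd_prime_pow Nat.prime_two).mp hd
    have hk0 : k ≠ 0 := by
      rintro rfl
      rw [pow_zero, Subgroup.relIndex_eq_one] at hk'
      exact hwc (hk'.trans inf_le_right)
    have hk1 : k ≠ 1 := by
      rintro rfl
      rw [pow_one] at hk'
      apply hwc
      have h2 : ⁅WB p E, E⁆ ≤ centralizer (E : Set G) := by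
        rw [commutator_le]
        intro w hw e he
        rw [commutatorElement_def]
        have hcE : ∀ z ∈ centralizer (E : Set G), e * z * e⁻¹ = z := fun z hz => by
          rw [mem_centralizer_iff.1 hz e he, mul_assoc, mul_inv_cancel, mul_one]
        have h3 : e * w⁻¹ * e⁻¹ ∈ WB p E := (mem_normalizer_iff.1 (hEW he) _).1 (inv_mem hw)
        have key := (Subgroup.mul_mem_iff_of_index_two (H := (WB p E ⊓ centralizer (E : Set G)).subgroupOf (WB p E)) hk'
          (a := ⟨w, hw⟩) (b := ⟨e * w⁻¹ * e⁻¹, h3⟩))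
        rw [mem_subgroupOf, mem_subgroupOf, mem_subgroupOf] at key
        have h4 : (w * (e * w⁻¹ * e⁻¹)) ∈ WB p E ⊓ centralizer (E : Set G) := by
          apply key.2
          constructor
          · intro h
            have h5 := hcE _ (inv_mem h.2)
            refine ⟨h3, ?_⟩
            change e * w⁻¹ * e⁻¹ ∈ centralizer (E : Set G)
            rw [h5]; exact inv_mem h.2
          · intro h
            refine ⟨hw, ?_⟩
            have h5 : e * w⁻¹ * e⁻¹ ∈ centralizer (E : Set G) := h.2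
            have h6 : w⁻¹ ∈ centralizer (E : Set G) := by
              have h7 : E ≤ normalizer (centralizer (E : Set G) : Set G) :=
                Subgroup.le_normalizer.trans (le_normalizer_centralizer (le_refl (normalizer (E : Set G))))
              exact (mem_normalizer_iff.1 (h7 he) _).2 h5
            have := inv_mem h6
            rwa [inv_inv] at this
        have h8 : w * e * w⁻¹ * e⁻¹ = w * (e * w⁻¹ * e⁻¹) := by group
        rw [h8]; exact h4.2
      have h9 : ⁅WB p E, E⁆ = WB p E := m3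
      rwa [h9] at h2
    have h2 : 4 ≤ 2 ^ k := by
      calc 4 = 2 ^ 2 := by norm_num
        _ ≤ 2 ^ k := Nat.pow_le_pow_right (by norm_num) (by omega)
    rw [h1, hk', mul_comm]
    exact Nat.mul_le_mul_left _ h2
  refine ⟨hVe, ?_, ?_, ?_, ?_, ?_, ?_, ?_, ?_⟩
  · rintro _ ⟨g, rfl⟩ h
    exact ⟨h * g, (cg_cg h g E).symm⟩
  · intro X _ g; exact WB_cg g X
  · rintro _ ⟨g, rfl⟩
    rw [← WB_cg]
    intro x hx
    rw [mem_cg] at hx
    have hn : (VG p G).Normal := vg_normal
    have := hn.conj_mem _ (hWV hx) g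
    have e1 : g * (g⁻¹ * x * g) * g⁻¹ = x := by group
    rwa [e1] at this
  · rintro _ ⟨g, rfl⟩
    rw [← WB_cg]
    exact Subgroup.map_mono hWE
  · rintro _ ⟨g, rfl⟩ h
    apply hwc
    intro w hw
    have h1 : g * w * g⁻¹ ∈ WB p (cg g E) := by
      rw [← WB_cg, mem_cg]
      have : g⁻¹ * (g * w * g⁻¹) * g = w := by group
      rwa [this]
    have h2 := cen_cg.1 (h h1)
    have : g⁻¹ * (g * w * g⁻¹) * g = w := by group
    rwa [this] at h2
  · rintro _ ⟨g, rfl⟩ hp2
    rw [← WB_cg, ← map_centralizer, ← cg_inf, card_cg, card_cg]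
    exact hw4 hp2
  · rintro _ ⟨g, rfl⟩ c hc h
    rw [← WB_cg, cen_cg]
    apply H56.BZ.ts hG hE (nz_cg hc)
    intro w hw
    have h1 : g * w * g⁻¹ ∈ WB p (cg g E) := by
      rw [← WB_cg, mem_cg]
      have : g⁻¹ * (g * w * g⁻¹) * g = w := by group
      rwa [this]
    have h2 := cen_cg.1 (h _ h1)
    have e1 : g⁻¹ * (c * (g * w * g⁻¹) * c⁻¹ * (g * w * g⁻¹)⁻¹) * g = g⁻¹ * c * g * w * (g⁻¹ * c * g)⁻¹ * w⁻¹ := by group
    rwa [e1] at h2
  · rintro _ ⟨g, rfl⟩ _ ⟨h, rfl⟩ hne x hx y hy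
    rcases hcom (h⁻¹ * g) with h1 | h1
    · exfalso
      apply hne
      have h2 : cg (h⁻¹ * g) E = E := h1
      have h3 : cg h (cg (h⁻¹ * g) E) = cg g E := by rw [cg_cg]; congr 1; group
      rw [← h3, h2]
    · rw [commutator_eq_bot_iff_le_centralizer] at h1
      rw [mem_cg] at hx hy
      have h2 : h⁻¹ * x * h ∈ cg (h⁻¹ * g) E := by
        rw [mem_cg]
        have : (h⁻¹ * g)⁻¹ * (h⁻¹ * x * h) * (h⁻¹ * g) = g⁻¹ * x * g := by group
        rwa [this]
      have h3 := mem_centralizer_iff.1 (h1 h2) _ hy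
      have h4 := congrArg (fun z => h * z * h⁻¹) h3
      have e1 : h * ((h⁻¹ * y * h) * (h⁻¹ * x * h)) * h⁻¹ = y * x := by group
      have e2 : h * ((h⁻¹ * x * h) * (h⁻¹ * y * h)) * h⁻¹ = x * y := by group
      rw [← e1, ← e2]; exact h4.symm

theorem J_le_nz (hG : centralizer (pCore p G : Set G) ≤ pCore p G) (hE : IsBaumannBlock p (T : Subgroup G) E)
    (hcom : ∀ g : G, E.map (MulAut.conj g).toMonoidHom = E ∨ ⁅E.map (MulAut.conj g).toMonoidHom, E⁆ = ⊥)
    (T' : Sylow p G) : thompsonSubgroupOf p (T' : Subgroup G) ≤ normalizer (E : Set G) := by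
  have H := fam hG hE hcom
  have hVT : VG p G ≤ (T' : Subgroup G) := (H13.Omega.omegaZ_le _).trans (H1.Cores.pCore_le_sylow T')
  unfold thompsonSubgroupOf thompsonSubgroup
  rw [Subgroup.map_le_iff_le_comap]
  apply sSup_le
  intro A' hA'
  rw [← Subgroup.map_le_iff_le_comap]
  have hn : (VG p G).Normal := vg_normal
  have hE' : E ∈ {X | ∃ g, cg g E = X} := ⟨1, cg_one E⟩
  refine A_nz H (P := (T' : Subgroup G)) hVT T'.2 ?_ (Subgroup.map_subtype_le _) ?_ hE'
  · refine ⟨⟨⟨?_⟩⟩, ?_⟩
    · rintro ⟨_, ⟨a, ha, rfl⟩⟩ ⟨_, ⟨b, hb, rfl⟩⟩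
      have := vcomm hA'.1 ha hb
      apply Subtype.ext
      change (a : G) * (b : G) = (b : G) * (a : G)
      exact congrArg Subtype.val this
    · rintro _ ⟨a, ha, rfl⟩
      have := hA'.1.2 a ha
      exact congrArg Subtype.val this
  · intro B hB hBe
    have h1 : IsElementaryAbelian p (B.subgroupOf (T' : Subgroup G)) := by
      refine ⟨⟨⟨?_⟩⟩, ?_⟩
      · rintro ⟨a, ha⟩ ⟨b, hb⟩
        apply Subtype.ext
        apply Subtype.ext
        exact vcomm hBe (mem_subgroupOf.1 ha) (mem_subgroupOf.1 hb)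
      · intro a ha
        apply Subtype.ext
        exact hBe.2 _ (mem_subgroupOf.1 ha)
    have h2 := hA'.2 _ h1
    rw [Nat.card_congr (Subgroup.subgroupOfEquivOfLe hB).toEquiv] at h2
    rw [Subgroup.card_map_of_injective (Subgroup.subtype_injective _)]
    exact h2

end H52.BZ
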