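import Cfsg.Agent.Lib.H52.Pairing
import Cfsg.Agent.Lib.H68.Zipper
import Cfsg.Agent.Lib.H52.SFour2
import Cfsg.Agent.Lib.H59.PCons
import Cfsg.Agent.Lib.H26.Subnormal
import Cfsg.Agent.Lib.H52.Sub
import Cfsg.Agent.Lib.H39.SylowAux

/-!
# `S₄`-free groups with Sylow 2-subgroups acting quadratically
-/

set_option autoImplicit false

namespace H52.ClassTwo

open Subgroup Cfsg H38.Basic H52.PCore H14.MaxIn H52.ThompNPC3
open scoped commutatorElement

universe u

theorem isSubnormal_of_le_pCore {G : Type*} [Group G] [Finite G] {p : ℕ} [Fact p.Prime] {P : Subgroup G}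
    (h : P ≤ pCore p G) : P.IsSubnormal := by
  have h1 : (P.subgroupOf (pCore p G)).IsSubnormal := H52.Sub.isSubnormal_of_isPGroup isPGroup_pCore _
  have h2 := h1.trans' (inferInstance : (pCore p G).Normal).isSubnormal
  rwa [map_subgroupOf_eq_of_le h] at h2

/-- `A C / C ≤ O_p(G/C)` iff `A C` is subnormal -/
theorem sup_isSubnormal_iff {G : Type*} [Group G] [Finite G] {p : ℕ} [Fact p.Prime] {A C : Subgroup G}
    [C.Normal] (hA : IsPGroup p A) :
    (A ⊔ C).IsSubnormal ↔ A.map (QuotientGroup.mk' C) ≤ pCore p (G ⧸ C) := by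
  have h0 : (A ⊔ C).map (QuotientGroup.mk' C) = A.map (QuotientGroup.mk' C) := by
    rw [Subgroup.map_sup, QuotientGroup.map_mk'_self, sup_bot_eq]
  constructor
  · intro h
    rw [← h0]
    apply le_pCore_of_subnormal
    · exact h.map (QuotientGroup.mk'_surjective C)
    · rw [h0]; exact hA.map _
  · intro h
    have h1 := (isSubnormal_of_le_pCore h).comap (QuotientGroup.mk' C)
    rwa [comap_map_eq, QuotientGroup.ker_mk'] at h1

/-- quadratic action implies commuting action -/
theorem comm_mem_centralizer {G : Type*} [Group G] {V : Subgroup G} [hVn : V.Normal]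
    (hVc : V ≤ centralizer (V : Set G)) {s t : G}
    (hst : ∀ v ∈ V, s * ⁅t, v⁆ = ⁅t, v⁆ * s) (hts : ∀ v ∈ V, t * ⁅s, v⁆ = ⁅s, v⁆ * t) :
    ⁅s, t⁆ ∈ centralizer (V : Set G) := by
  have key : ∀ v ∈ V, (s * t) * v * (s * t)⁻¹ = (t * s) * v * (t * s)⁻¹ := by
    intro v hv
    have hc : ∀ x : G, ⁅x, v⁆ ∈ V := fun x => by
      rw [commutatorElement_def]; exact mul_mem (hVn.conj_mem v hv x) (inv_mem hv)
    have h1 : ⁅t, v⁆ * ⁅s, v⁆ = ⁅s, v⁆ * ⁅t, v⁆ := (mem_centralizer_iff.1 (hVc (hc t)) _ (hc s)).symm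
    have e1 : t * v * t⁻¹ = ⁅t, v⁆ * v := by rw [commutatorElement_def]; group
    have e2 : s * v * s⁻¹ = ⁅s, v⁆ * v := by rw [commutatorElement_def]; group
    calc (s * t) * v * (s * t)⁻¹ = s * (t * v * t⁻¹) * s⁻¹ := by group
      _ = (s * ⁅t, v⁆) * v * s⁻¹ := by rw [e1]; group
      _ = ⁅t, v⁆ * (s * v * s⁻¹) := by rw [hst v hv]; group
      _ = (⁅t, v⁆ * ⁅s, v⁆) * v := by rw [e2]; group
      _ = ⁅s, v⁆ * (⁅t, v⁆ * v) := by rw [h1]; group
      _ = (⁅s, v⁆ * t) * v * t⁻¹ := by rw [← e1]; group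
      _ = t * (⁅s, v⁆ * v) * t⁻¹ := by rw [← hts v hv]; group
      _ = (t * s) * v * (t * s)⁻¹ := by rw [← e2]; group
  rw [mem_centralizer_iff]
  intro v hv
  have h1 := key ((t * s)⁻¹ * v * (t * s)) (by
    have := hVn.conj_mem v hv (t * s)⁻¹
    rwa [inv_inv] at this)
  have e3 : (t * s) * ((t * s)⁻¹ * v * (t * s)) * (t * s)⁻¹ = v := by group
  have e4 : (s * t) * ((t * s)⁻¹ * v * (t * s)) * (s * t)⁻¹ = ⁅s, t⁆ * v * ⁅s, t⁆⁻¹ := by
    rw [commutatorElement_def]; group
  rw [e3, e4] at h1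
  calc v * ⁅s, t⁆ = (⁅s, t⁆ * v * ⁅s, t⁆⁻¹) * ⁅s, t⁆ := by rw [h1]
    _ = ⁅s, t⁆ * v := by group

/-- the standing hypotheses -/
structure Hyp (G : Type u) [Group G] (V A : Subgroup G) : Prop where
  comm : V ≤ centralizer (V : Set G)
  sq : ∀ v ∈ V, v ^ 2 = 1
  free : ¬ Involves (Equiv.Perm (Fin 4)) G
  quad : ∀ T : Subgroup G, IsPGroup 2 T → ∀ s ∈ T, ∀ t ∈ T, ∀ v ∈ V, s * ⁅t, v⁆ = ⁅t, v⁆ * s
  pgrp : IsPGroup 2 A
  best : ∀ B : Subgroup G, A ⊓ centralizer (V : Set G) ≤ B → B ≤ A →
    Nat.card B * Nat.card (V ⊓ centralizer (B : Set G) : Subgroup G) ≤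
      Nat.card A * Nat.card (V ⊓ centralizer (A : Set G) : Subgroup G)

theorem map_centralizer_inf {G : Type*} [Group G] {L V : Subgroup G} (hVL : V ≤ L) (B : Subgroup L) :
    (V.subgroupOf L ⊓ centralizer (B : Set L)).map L.subtype = V ⊓ centralizer (B.map L.subtype : Set G) := by
  ext x
  constructor
  · rintro ⟨y, hy, rfl⟩
    obtain ⟨h1, h2⟩ := mem_inf.1 hy
    refine mem_inf.2 ⟨h1, ?_⟩
    rw [mem_centralizer_iff]
    rintro _ ⟨b, hb, rfl⟩
    exact congrArg Subtype.val (mem_centralizer_iff.1 h2 b hb)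
  · intro hx
    obtain ⟨h1, h2⟩ := mem_inf.1 hx
    refine ⟨⟨x, hVL h1⟩, mem_inf.2 ⟨h1, ?_⟩, rfl⟩
    rw [mem_centralizer_iff]
    intro b hb
    exact Subtype.ext (mem_centralizer_iff.1 h2 b ⟨b, hb, rfl⟩)

theorem centralizer_subgroupOf {G : Type*} [Group G] {L V : Subgroup G} (hVL : V ≤ L) :
    centralizer (V.subgroupOf L : Set L) = (centralizer (V : Set G)).subgroupOf L := by
  ext x
  rw [mem_subgroupOf, mem_centralizer_iff, mem_centralizer_iff]
  constructor
  · intro h v hv
    exact congrArg Subtype.val (h ⟨v, hVL hv⟩ hv)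
  · intro h v hv
    exact Subtype.ext (h v hv)

theorem Hyp.sub {G : Type u} [Group G] [Finite G] {V A : Subgroup G} [V.Normal] (h : Hyp G V A) {L : Subgroup G}
    (hAL : A ≤ L) (hCL : centralizer (V : Set G) ≤ L) : Hyp L (V.subgroupOf L) (A.subgroupOf L) := by
  have hVL : V ≤ L := h.comm.trans hCL
  refine ⟨?_, ?_, ?_, ?_, ?_, ?_⟩
  · rw [centralizer_subgroupOf hVL]
    exact fun x hx => h.comm hx
  · intro v hv
    exact Subtype.ext (h.sq v hv)
  · exact fun h1 => h.free (H51.Involves.involves_of_injective L.subtype L.subtype_injective h1)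
  · intro T hT s hs t ht v hv
    exact Subtype.ext (h.quad (T.map L.subtype) (hT.map _) s ⟨s, hs, rfl⟩ t ⟨t, ht, rfl⟩ v hv)
  · exact h.pgrp.comap_subtype
  · intro B hB1 hB2
    have e1 := h.best (B.map L.subtype) ?_ ?_
    · have hA : (A.subgroupOf L).map L.subtype = A := map_subgroupOf_eq_of_le hAL
      have c1 := card_map_of_injective (K := B) L.subtype_injective
      have c2 := card_map_of_injective (K := A.subgroupOf L) L.subtype_injective
      have c3 := card_map_of_injective (K := V.subgroupOf L ⊓ centralizer (B : Set L)) L.subtype_injective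
      have c4 := card_map_of_injective (K := V.subgroupOf L ⊓ centralizer (A.subgroupOf L : Set L)) L.subtype_injective
      rw [map_centralizer_inf hVL] at c3 c4
      rw [hA] at c2 c4
      rw [← c1, ← c2, ← c3, ← c4]
      exact e1
    · intro x hx
      obtain ⟨h1, h2⟩ := mem_inf.1 hx
      refine ⟨⟨x, hAL h1⟩, hB1 (mem_inf.2 ⟨h1, ?_⟩), rfl⟩
      rw [centralizer_subgroupOf hVL]
      exact h2
    · rintro _ ⟨x, hx, rfl⟩
      exact hB2 hx

/-- an element normalizing a 2-subgroup modulo `C_G(V)` commutes with it modulo `C_G(V)`. -/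
theorem comm_of_normalize {G : Type u} [Group G] [Finite G] {V A D : Subgroup G} [hVn : V.Normal] (h : Hyp G V A)
    (hD : IsPGroup 2 (D.map (QuotientGroup.mk' (centralizer (V : Set G))))) {a : G}
    (ha : ∃ k : ℕ, a ^ 2 ^ k = 1) (haD : a ∈ normalizer (D : Set G)) :
    ∀ b ∈ D, ⁅a, b⁆ ∈ centralizer (V : Set G) := by
  have : Fact (Nat.Prime 2) := ⟨Nat.prime_two⟩
  set C := centralizer (V : Set G) with hC
  have hCn : C.Normal := inferInstance
  set π := QuotientGroup.mk' C with hπ
  have hker : ∀ x, π x = 1 ↔ x ∈ C := fun x => by rw [← MonoidHom.mem_ker, QuotientGroup.ker_mk']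
  have haz : IsPGroup 2 (zpowers a) := by
    obtain ⟨k, hk⟩ := ha
    obtain ⟨j, _, hj⟩ := (Nat.dvd_prime_pow Nat.prime_two).1 (orderOf_dvd_of_pow_eq_one hk)
    exact IsPGroup.of_card (n := j) (by rw [Nat.card_zpowers, hj])
  set P := D ⊔ zpowers a with hP
  have hPp : IsPGroup 2 (P.map π) := by
    rw [hP, Subgroup.map_sup]
    refine IsPGroup.to_sup_of_normal_left' hD (haz.map π) ?_
    refine le_trans ?_ (le_normalizer_map π)
    exact map_mono ((zpowers_le).2 haD)
  obtain ⟨T, hT⟩ : ∃ T : Subgroup G, IsSyl 2 T P := H38.Basic.exists_isSyl P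
  have hTP := H51.Involves.sylow_map_eq π hT.1 hT.2.2 hPp
  intro b hb
  have hbP : π b ∈ T.map π := by rw [hTP]; exact mem_map_of_mem π (mem_sup_left hb)
  have haP : π a ∈ T.map π := by rw [hTP]; exact mem_map_of_mem π (mem_sup_right (mem_zpowers a))
  obtain ⟨t, ht, htb⟩ := hbP
  obtain ⟨s, hs, hsa⟩ := haP
  rw [← hker, map_commutatorElement, ← htb, ← hsa, ← map_commutatorElement, hker]
  exact comm_mem_centralizer h.comm (fun v hv => h.quad T hT.2.1 s hs t ht v hv)
    (fun v hv => h.quad T hT.2.1 t ht s hs v hv)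

theorem isPGroup_map_of_pow {G : Type*} [Group G] {C D : Subgroup G} [C.Normal]
    (h : ∀ x ∈ D, ∃ k : ℕ, x ^ 2 ^ k ∈ C) : IsPGroup 2 (D.map (QuotientGroup.mk' C)) := by
  rintro ⟨_, x, hx, rfl⟩
  obtain ⟨k, hk⟩ := h x hx
  refine ⟨k, Subtype.ext ?_⟩
  show (QuotientGroup.mk' C x) ^ 2 ^ k = 1
  rw [← map_pow]
  exact (QuotientGroup.eq_one_iff _).2 hk

theorem core : ∀ (n : ℕ) (G : Type u) [Group G] [Finite G] (V A : Subgroup G) [V.Normal],
    (centralizer (V : Set G)).index ≤ n → Hyp G V A →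
    A.map (QuotientGroup.mk' (centralizer (V : Set G))) ≤ pCore 2 (G ⧸ centralizer (V : Set G)) := by
  classical
  have h2p : Fact (Nat.Prime 2) := ⟨Nat.prime_two⟩
  intro n
  induction n with
  | zero =>
    intro G _ _ V A _ hn
    exact absurd (Nat.le_zero.1 hn) index_ne_zero_of_finite
  | succ n ih =>
    intro G _ _ V A hVn hn h
    set C := centralizer (V : Set G) with hC
    have hCn : C.Normal := inferInstance
    set π := QuotientGroup.mk' C with hπ
    have hπs : Function.Surjective π := QuotientGroup.mk'_surjective C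
    have hker : ∀ x, π x = 1 ↔ x ∈ C := fun x => by rw [← MonoidHom.mem_ker, QuotientGroup.ker_mk']
    have hVp : IsPGroup 2 V := by
      rintro ⟨v, hv⟩
      exact ⟨1, Subtype.ext (by show v ^ 2 ^ 1 = 1; rw [pow_one]; exact h.sq v hv)⟩
    by_contra hcon
    set X := A ⊔ C with hX
    have hAX : A ≤ X := le_sup_left
    have hCX : C ≤ X := le_sup_right
    have hXns : ¬ X.IsSubnormal := by rw [hX, sup_isSubnormal_iff h.pgrp]; exact hcon
    -- induction on proper subgroups
    have hsub : ∀ L : Subgroup G, L ≠ ⊤ → X ≤ L → (X.subgroupOf L).IsSubnormal := by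
      intro L hL hXL
      have hCL : C ≤ L := hCX.trans hXL
      have hAL : A ≤ L := hAX.trans hXL
      have hVL : V ≤ L := h.comm.trans hCL
      have e := centralizer_subgroupOf hVL
      have hidx : (centralizer (V.subgroupOf L : Set L)).index ≤ n := by
        rw [e]
        have h1 := relIndex_mul_index hCL
        have h2 : 1 < L.index := by
          have h3 : L.index ≠ 0 := index_ne_zero_of_finite
          have h4 : L.index ≠ 1 := fun h5 => hL (index_eq_one.1 h5)
          omega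
        have h3 : C.relIndex L ≠ 0 := index_ne_zero_of_finite (H := C.subgroupOf L)
        have h4 : C.relIndex L < C.index := by
          rw [← h1]
          exact lt_mul_of_one_lt_right (Nat.pos_of_ne_zero h3) h2
        have h5 : ((centralizer (V : Set G)).subgroupOf L).index = C.relIndex L := rfl
        omega
      have h1 := ih L (V.subgroupOf L) (A.subgroupOf L) hidx (h.sub hAL hCL)
      have hAp : IsPGroup 2 (A.subgroupOf L) := h.pgrp.comap_subtype
      rw [← sup_isSubnormal_iff hAp, e] at h1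
      rw [hX, subgroupOf_sup hAL hCL]
      exact h1
    -- the central part
    set A₀ := A ⊓ (center (G ⧸ C)).comap π with hA₀
    have hA₀mem : ∀ a ∈ A₀, ∀ x : G, ⁅a, x⁆ ∈ C := by
      intro a ha x
      rw [← hker, map_commutatorElement, commutatorElement_eq_one_iff_mul_comm]
      exact (mem_center_iff.1 (mem_inf.1 ha).2 (π x)).symm
    by_cases hA0 : A₀ ≤ C
    · -- main case
      obtain ⟨M, hM, hXM, hMmax⟩ := H68.Zipper.exists_unique_max X hXns (fun L hL hXL => hsub L hL hXL)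
      have hAM : A ≤ M := hAX.trans hXM
      have hCM : C ≤ M := hCX.trans hXM
      -- the core
      obtain ⟨D, hMD, hDp, hAD⟩ : ∃ D : Subgroup G, M ≤ normalizer (D : Set G) ∧
          IsPGroup 2 (D.map π) ∧ A ≤ D := by
        have h1 := hsub M hM hXM
        have hAp : IsPGroup 2 (A.subgroupOf M) := h.pgrp.comap_subtype
        rw [hX, subgroupOf_sup hAM hCM, sup_isSubnormal_iff hAp] at h1
        set D₀ := (pCore 2 (M ⧸ C.subgroupOf M)).comap (QuotientGroup.mk' (C.subgroupOf M)) with hD₀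
        have hD₀n : D₀.Normal := inferInstance
        refine ⟨D₀.map M.subtype, ?_, ?_, ?_⟩
        · have h2 := le_normalizer_map (H := D₀) M.subtype
          rw [normalizer_eq_top, ← MonoidHom.range_eq_map, range_subtype] at h2
          exact h2
        · apply isPGroup_map_of_pow
          rintro _ ⟨x, hx, rfl⟩
          have h2 : IsPGroup 2 (pCore 2 (M ⧸ C.subgroupOf M)) := isPGroup_pCore
          obtain ⟨k, hk⟩ := h2 ⟨_, hx⟩
          refine ⟨k, ?_⟩
          have h3 : (QuotientGroup.mk' (C.subgroupOf M) x) ^ 2 ^ k = 1 := congrArg Subtype.val hk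
          rw [← map_pow] at h3
          have h4 : x ^ 2 ^ k ∈ C.subgroupOf M := (QuotientGroup.eq_one_iff _).1 h3
          exact h4
        · intro a ha
          exact ⟨⟨a, hAM ha⟩, h1 (mem_map_of_mem _ ha), rfl⟩
      obtain ⟨g, hg⟩ : ∃ g : G, ¬ A.map (MulAut.conj g).toMonoidHom ≤ M := by
        by_contra hall
        push Not at hall
        apply hXns
        set N₀ := normalClosure (X : Set G) with hN₀
        have hXN : X ≤ N₀ := subset_normalClosure
        have hNM : N₀ ≤ M := by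
          rw [hN₀, normalClosure, closure_le]
          intro y hy
          obtain ⟨x, hx, hxy⟩ := Group.mem_conjugatesOfSet_iff.1 hy
          obtain ⟨c, hc⟩ := isConj_iff.1 hxy
          rw [← hc]
          have h1 : X.map (MulAut.conj c).toMonoidHom ≤ M := by
            rw [hX, Subgroup.map_sup]
            refine sup_le (hall c) ?_
            rintro _ ⟨z, hz, rfl⟩
            exact hCM (hCn.conj_mem z hz c)
          exact h1 ⟨x, hx, rfl⟩
        have hNt : N₀ ≠ ⊤ := fun h1 => hM (top_le_iff.1 (h1 ▸ hNM))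
        have h1 := hsub N₀ hNt hXN
        have h2 := h1.trans' (inferInstance : N₀.Normal).isSubnormal
        rwa [map_subgroupOf_eq_of_le hXN] at h2
      apply h.free
      set B := A.map (MulAut.conj g).toMonoidHom with hB
      have hBmem : ∀ b ∈ B, ∃ a ∈ A, b = g * a * g⁻¹ := by
        rintro _ ⟨a, ha, rfl⟩
        exact ⟨a, ha, rfl⟩
      have hBp : IsPGroup 2 B := h.pgrp.map _
      have hgen : A ⊔ B ⊔ C = ⊤ := by
        by_contra h1
        apply hg
        have h2 := hMmax _ h1 (sup_le (le_sup_left.trans le_sup_left) le_sup_right)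
        exact (le_sup_right.trans le_sup_left).trans h2
      have hpow : ∀ T : Subgroup G, IsPGroup 2 T → ∀ a ∈ T, ∃ k : ℕ, a ^ 2 ^ k = 1 := by
        intro T hT a ha
        obtain ⟨k, hk⟩ := hT ⟨a, ha⟩
        exact ⟨k, congrArg Subtype.val hk⟩
      have hcommT : ∀ T : Subgroup G, IsPGroup 2 T → ∀ s ∈ T, ∀ t ∈ T, ⁅s, t⁆ ∈ C := fun T hT s hs t ht =>
        comm_mem_centralizer h.comm (fun v hv => h.quad T hT s hs t ht v hv)
          (fun v hv => h.quad T hT t ht s hs v hv)
      -- elements commuting modulo `C` with `A` and `B` are central modulo `C`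
      have hcentral : ∀ x : G, (∀ a ∈ A, ⁅x, a⁆ ∈ C) → (∀ b ∈ B, ⁅x, b⁆ ∈ C) → ∀ y : G, ⁅x, y⁆ ∈ C := by
        intro x hxA hxB y
        have h1 : (⊤ : Subgroup G) ≤ (centralizer ({π x} : Set (G ⧸ C))).comap π := by
          have h2 : ∀ z, ⁅x, z⁆ ∈ C → z ∈ (centralizer ({π x} : Set (G ⧸ C))).comap π := by
            intro z hz
            show π z ∈ centralizer ({π x} : Set (G ⧸ C))
            rw [mem_centralizer_singleton_iff]
            rw [← hker, map_commutatorElement, commutatorElement_eq_one_iff_mul_comm] at hz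
            exact hz.symm
          rw [← hgen]
          refine sup_le (sup_le (fun a ha => h2 a (hxA a ha)) (fun b hb => h2 b (hxB b hb))) ?_
          intro c hc
          apply h2
          rw [← hker, map_commutatorElement, (hker c).2 hc, commutatorElement_one_right]
        have h2 : π y ∈ centralizer ({π x} : Set (G ⧸ C)) := h1 (mem_top y)
        rw [mem_centralizer_singleton_iff] at h2
        rw [← hker, map_commutatorElement, commutatorElement_eq_one_iff_mul_comm]
        exact h2.symm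
      have hcenA : ∀ a ∈ A, (∀ y : G, ⁅a, y⁆ ∈ C) → a ∈ C := by
        intro a ha hy
        apply hA0
        refine mem_inf.2 ⟨ha, ?_⟩
        show π a ∈ center (G ⧸ C)
        rw [mem_center_iff]
        intro y'
        obtain ⟨y, rfl⟩ := hπs y'
        have h1 := hy y
        rw [← hker, map_commutatorElement, commutatorElement_eq_one_iff_mul_comm] at h1
        exact h1.symm
      refine H52.Pairing.involves_of_opposite h.comm h.sq g hB hgen ?_ ?_ ?_ ?_ ?_ ?_
      · intro a ha a' ha' v hv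
        exact h.quad A h.pgrp a' ha' a ha v hv
      · have h1 := h.best (A ⊓ C) le_rfl inf_le_left
        have h2 : V ⊓ centralizer ((A ⊓ C : Subgroup G) : Set G) = V := by
          rw [inf_eq_left]
          intro v hv
          rw [mem_centralizer_iff]
          intro a ha
          exact (mem_centralizer_iff.1 (mem_inf.1 ha).2 v hv).symm
        rw [h2] at h1
        rw [mul_comm]; exact h1
      · -- regularity for A
        intro L hL hBL hCL a ha
        obtain ⟨haA, haL⟩ := mem_inf.1 ha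
        -- the conjugate of `L` lies in `M`
        have hLM : L.map (MulAut.conj g⁻¹).toMonoidHom ≤ M := by
          apply hMmax
          · intro h1
            apply hL
            rw [eq_top_iff]
            intro y _
            have h2 : g⁻¹ * y * g ∈ L.map (MulAut.conj g⁻¹).toMonoidHom := by rw [h1]; exact mem_top _
            obtain ⟨z, hz, hzy⟩ := h2
            have h3 : g⁻¹ * z * g⁻¹⁻¹ = g⁻¹ * y * g := hzy
            rw [inv_inv] at h3
            have h4 : z = y := mul_left_cancel (mul_right_cancel h3)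
            rwa [← h4]
          · refine sup_le ?_ ?_
            · intro x hx
              refine ⟨g * x * g⁻¹, hBL ⟨x, hx, rfl⟩, ?_⟩
              show g⁻¹ * (g * x * g⁻¹) * g⁻¹⁻¹ = x
              group
            · intro x hx
              refine ⟨g * x * g⁻¹, hCL (hCn.conj_mem x hx g), ?_⟩
              show g⁻¹ * (g * x * g⁻¹) * g⁻¹⁻¹ = x
              group
        have haM : g⁻¹ * a * g ∈ M := hLM ⟨a, haL, by show g⁻¹ * a * g⁻¹⁻¹ = _; rw [inv_inv]⟩
        have hpa : ∃ k : ℕ, (g⁻¹ * a * g) ^ 2 ^ k = 1 := by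
          obtain ⟨k, hk⟩ := hpow A h.pgrp a haA
          refine ⟨k, ?_⟩
          have e : g⁻¹ * a * g = g⁻¹ * a * g⁻¹⁻¹ := by rw [inv_inv]
          rw [e, conj_pow, hk]; group
        have h1 := comm_of_normalize h hDp hpa (hMD haM)
        apply hcenA a haA
        apply hcentral a (fun a' ha' => hcommT A h.pgrp a haA a' ha')
        intro b hb
        obtain ⟨a', ha', rfl⟩ := hBmem b hb
        have h2 := hCn.conj_mem _ (h1 a' (hAD ha')) g
        have e : g * ⁅g⁻¹ * a * g, a'⁆ * g⁻¹ = ⁅a, g * a' * g⁻¹⁆ := by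
          rw [commutatorElement_def, commutatorElement_def]; group
        rwa [e] at h2
      · -- regularity for B
        intro L hL hAL hCL b hb
        obtain ⟨hbB, hbL⟩ := mem_inf.1 hb
        have hbM : b ∈ M := hMmax L hL (sup_le hAL hCL) hbL
        have h1 := comm_of_normalize h hDp (hpow B hBp b hbB) (hMD hbM)
        have h2 := hcentral b (fun a ha => h1 a (hAD ha)) (fun b' hb' => hcommT B hBp b hbB b' hb')
        obtain ⟨a, ha, rfl⟩ := hBmem b hbB
        apply hCn.conj_mem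
        apply hcenA a ha
        intro y
        have h3 := hCn.conj_mem _ (h2 (g * y * g⁻¹)) g⁻¹
        have e : g⁻¹ * ⁅g * a * g⁻¹, g * y * g⁻¹⁆ * g⁻¹⁻¹ = ⁅a, y⁆ := by
          rw [commutatorElement_def, commutatorElement_def]; group
        rwa [e] at h3
      · intro h1
        apply hcon
        rintro _ ⟨a, ha, rfl⟩
        rw [(hker a).2 (h1 ha)]
        exact one_mem _
      · intro h1
        apply hcon
        have h2 : IsPGroup 2 ((⊤ : Subgroup G).map π) := isPGroup_map_of_pow (fun x _ => ⟨1, by rw [pow_one]; exact h1 x⟩)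
        exact (map_mono le_top).trans (le_pCore (Normal.map inferInstance π hπs) h2)
    · -- reduction
      set V₁ := V ⊓ centralizer (A₀ : Set G) with hV₁
      have hV₁V : V₁ ≤ V := inf_le_left
      have hV₁n : V₁.Normal := by
        refine ⟨fun v hv x => mem_inf.2 ⟨hVn.conj_mem v (hV₁V hv) x, ?_⟩⟩
        rw [mem_centralizer_iff]
        intro a ha
        have h1 : a * v = v * a := mem_centralizer_iff.1 (mem_inf.1 hv).2 a ha
        have h2 : ⁅a, x⁻¹⁆ ∈ C := hA₀mem a ha x⁻¹
        have h3 : v * ⁅a, x⁻¹⁆ = ⁅a, x⁻¹⁆ * v := mem_centralizer_iff.1 h2 v (hV₁V hv)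
        have h4 : x⁻¹ * a * x = ⁅a, x⁻¹⁆⁻¹ * a := by rw [commutatorElement_def]; group
        have h5 : v * ⁅a, x⁻¹⁆⁻¹ = ⁅a, x⁻¹⁆⁻¹ * v := ((show Commute v ⁅a, x⁻¹⁆ from h3).inv_right).eq
        have h6 : (x⁻¹ * a * x) * v = v * (x⁻¹ * a * x) := by
          rw [h4]
          calc ⁅a, x⁻¹⁆⁻¹ * a * v = ⁅a, x⁻¹⁆⁻¹ * (a * v) := by group
            _ = (⁅a, x⁻¹⁆⁻¹ * v) * a := by rw [h1]; group
            _ = v * (⁅a, x⁻¹⁆⁻¹ * a) := by rw [← h5]; group
        calc a * (x * v * x⁻¹) = x * ((x⁻¹ * a * x) * v) * x⁻¹ := by group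
          _ = x * (v * (x⁻¹ * a * x)) * x⁻¹ := by rw [h6]
          _ = x * v * x⁻¹ * a := by group
      set C₁ := centralizer (V₁ : Set G) with hC₁
      have hC₁n : C₁.Normal := inferInstance
      have hCC₁ : C ≤ C₁ := centralizer_le (SetLike.coe_subset_coe.2 hV₁V)
      have hA₀C₁ : A₀ ≤ C₁ := by
        intro a ha
        rw [hC₁, mem_centralizer_iff]
        intro v hv
        exact (mem_centralizer_iff.1 (mem_inf.1 hv).2 a ha).symm
      have hlt : C < C₁ := lt_of_le_of_ne hCC₁ (fun e => hA0 (e ▸ hA₀C₁))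
      have hidx : C₁.index ≤ n := by
        have := index_strictAnti hlt
        omega
      have hVB : ∀ B : Subgroup G, A₀ ≤ B → V₁ ⊓ centralizer (B : Set G) = V ⊓ centralizer (B : Set G) := by
        intro B hB
        apply le_antisymm (inf_le_inf_right _ hV₁V)
        refine le_inf (le_inf inf_le_left (inf_le_right.trans (centralizer_le (SetLike.coe_subset_coe.2 hB)))) inf_le_right
      have hHyp : Hyp G V₁ A := by
        refine ⟨(hV₁V.trans h.comm).trans hCC₁, fun v hv => h.sq v (hV₁V hv), h.free,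
          fun T hT s hs t ht v hv => h.quad T hT s hs t ht v (hV₁V hv), h.pgrp, ?_⟩
        intro B hB1 hB2
        have hA₀B : A₀ ≤ B := (le_inf inf_le_left hA₀C₁).trans hB1
        rw [hVB B hA₀B, hVB A inf_le_left]
        exact h.best B ((inf_le_inf_left A hCC₁).trans hB1) hB2
      have h1 := ih G V₁ A hidx hHyp
      set N₁ := (pCore 2 (G ⧸ C₁)).comap (QuotientGroup.mk' C₁) with hN₁
      have hAN : A ≤ N₁ := by rw [hN₁, ← map_le_iff_le_comap]; exact h1
      have hN₁n : N₁.Normal := inferInstance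
      -- `C₁/C` is a 2-group
      have hC₁p : ∀ x ∈ C₁, ∃ k : ℕ, x ^ 2 ^ k ∈ C := by
        intro x hx
        obtain ⟨k, hk⟩ := H39.SylowAux.exists_ppart Nat.prime_two x
        refine ⟨k, ?_⟩
        refine mem_centralizer_of_PQ (p := 2) h.comm hVp (h.pgrp.to_le (inf_le_left : A₀ ≤ A)) hk ?_ ?_
        · intro b hb
          exact hA₀mem b hb _
        · intro w hw
          exact mem_centralizer_iff.1 (C₁.pow_mem hx _) w hw
      have hN₁p : ∀ x ∈ N₁, ∃ k : ℕ, x ^ 2 ^ k ∈ C := by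
        intro x hx
        have h2 : IsPGroup 2 (pCore 2 (G ⧸ C₁)) := isPGroup_pCore
        obtain ⟨j, hj⟩ := h2 ⟨_, hx⟩
        have h3 : (QuotientGroup.mk' C₁ x) ^ 2 ^ j = 1 := congrArg Subtype.val hj
        rw [← map_pow] at h3
        have h4 : x ^ 2 ^ j ∈ C₁ := (QuotientGroup.eq_one_iff _).1 h3
        obtain ⟨k, hk⟩ := hC₁p _ h4
        exact ⟨j + k, by rw [pow_add, pow_mul]; exact hk⟩
      apply hcon
      exact (map_mono hAN).trans (le_pCore (Normal.map inferInstance π hπs) (isPGroup_map_of_pow hN₁p))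

/-- members of `𝓐(S)` are best offenders on elementary abelian normal subgroups -/
theorem best_of_maxIn {G : Type*} [Group G] [Finite G] {S A V : Subgroup G} (hA : A ∈ maxIn true 2 S)
    (hVS : V ≤ S) (hVc : V ≤ centralizer (V : Set G)) (hV2 : ∀ v ∈ V, v ^ 2 = 1) {B : Subgroup G} (hBA : B ≤ A) :
    Nat.card B * Nat.card (V ⊓ centralizer (B : Set G) : Subgroup G) ≤
      Nat.card A * Nat.card (V ⊓ centralizer (A : Set G) : Subgroup G) := by
  set W := V ⊓ centralizer (B : Set G) with hW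
  have hAc : ∀ x ∈ A, ∀ y ∈ A, x * y = y * x := fun x hx y hy => hA.2.1.comm hx hy
  have hVe : PrE true 2 V := prE_of (fun x hx y hy => mem_centralizer_iff.1 (hVc hy) x hx) (fun _ => hV2)
  have hBW : ∀ x ∈ B, ∀ y ∈ W, x * y = y * x := fun x hx y hy =>
    mem_centralizer_iff.1 (mem_inf.1 hy).2 x hx
  have h5 := H52.Offender.prE_sup (hA.2.1.mono hBA) (hVe.mono (inf_le_left : W ≤ V)) hBW
  have h6 := hA.2.2 (B ⊔ W) (sup_le (hBA.trans hA.1) (inf_le_left.trans hVS)) h5
  have h7 := H13.Thompson.card_sup_mul_card_inf (A := B) (B := W) (by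
    refine le_trans ?_ (centralizer_le_normalizer _)
    intro x hx
    rw [mem_centralizer_iff]
    intro y hy
    exact (hBW x hx y hy).symm)
  have h8 : B ⊓ W ≤ V ⊓ centralizer (A : Set G) := by
    intro x hx
    refine mem_inf.2 ⟨(mem_inf.1 (mem_inf.1 hx).2).1, ?_⟩
    rw [mem_centralizer_iff]
    intro a ha
    exact hAc a ha x (hBA (mem_inf.1 hx).1)
  rw [← h7]
  exact Nat.mul_le_mul h6 (Subgroup.card_le_of_le h8)

/-- `S₄`-free groups of characteristic 2 with Sylow 2-subgroups of class at most 2: `J(S) ≤ O_2(G)` -/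
theorem thompson_le {G : Type u} [Group G] [Finite G] (hfree : ¬ Involves (Equiv.Perm (Fin 4)) G)
    (hc : centralizer (pCore 2 G : Set G) ≤ pCore 2 G) (S : Sylow 2 G)
    (hcl : ⁅⁅(S : Subgroup G), (S : Subgroup G)⁆, (S : Subgroup G)⁆ = ⊥) :
    thompsonSubgroupOf 2 (S : Subgroup G) ≤ pCore 2 G := by
  have h2p : Fact (Nat.Prime 2) := ⟨Nat.prime_two⟩
  set Q := pCore 2 G with hQ
  have hQn : Q.Normal := inferInstance
  have hQp : IsPGroup 2 Q := isPGroup_pCore
  have hQS : Q ≤ (S : Subgroup G) := pCore_le_sylow S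
  set Z := Q ⊓ centralizer (Q : Set G) with hZ
  have hZn : Z.Normal := inferInstance
  have hZQ : Z ≤ Q := inf_le_left
  have hZc : ∀ x ∈ Z, ∀ y ∈ Z, x * y = y * x := fun x hx y hy =>
    mem_centralizer_iff.1 (mem_inf.1 hy).2 x (hZQ hx)
  let V : Subgroup G :=
    { carrier := {x | x ∈ Z ∧ x ^ 2 = 1}
      one_mem' := ⟨one_mem _, one_pow 2⟩
      mul_mem' := by
        rintro x y ⟨hx, hx2⟩ ⟨hy, hy2⟩
        refine ⟨mul_mem hx hy, ?_⟩
        rw [(show Commute x y from hZc x hx y hy).mul_pow, hx2, hy2, one_mul]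
      inv_mem' := by
        rintro x ⟨hx, hx2⟩
        exact ⟨inv_mem hx, by rw [inv_pow, hx2, inv_one]⟩ }
  have hVmem : ∀ x, x ∈ V ↔ x ∈ Z ∧ x ^ 2 = 1 := fun x => Iff.rfl
  have hVZ : V ≤ Z := fun x hx => hx.1
  have hVn : V.Normal := ⟨fun v hv g => ⟨hZn.conj_mem v hv.1 g, by rw [conj_pow, hv.2]; group⟩⟩
  have hVc : V ≤ centralizer (V : Set G) := by
    intro x hx
    rw [mem_centralizer_iff]
    intro y hy
    exact hZc y hy.1 x hx.1
  have hV2 : ∀ v ∈ V, v ^ 2 = 1 := fun v hv => hv.2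
  have hVS : V ≤ (S : Subgroup G) := (hVZ.trans hZQ).trans hQS
  set C := centralizer (V : Set G) with hC
  have hCn : C.Normal := inferInstance
  set π := QuotientGroup.mk' C with hπ
  -- class two
  have hSS : ∀ x ∈ (S : Subgroup G), ∀ y ∈ (S : Subgroup G), ∀ z ∈ (S : Subgroup G), z * ⁅x, y⁆ = ⁅x, y⁆ * z := by
    intro x hx y hy z hz
    have h1 : ⁅⁅x, y⁆, z⁆ ∈ ⁅⁅(S : Subgroup G), (S : Subgroup G)⁆, (S : Subgroup G)⁆ :=
      commutator_mem_commutator (commutator_mem_commutator hx hy) hz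
    rw [hcl, mem_bot, commutatorElement_eq_one_iff_mul_comm] at h1
    exact h1.symm
  have hQ' : ∀ q ∈ Q, ∀ s ∈ (S : Subgroup G), ⁅s, q⁆ ∈ Z := by
    intro q hq s hs
    refine mem_inf.2 ⟨?_, ?_⟩
    · rw [commutatorElement_def]
      exact mul_mem (hQn.conj_mem q hq s) (inv_mem hq)
    · rw [mem_centralizer_iff]
      intro y hy
      exact hSS s hs q (hQS hq) y (hQS hy)
  -- the normal subgroup centralizing `Q/Z`
  let D : Subgroup G :=
    { carrier := {x | ∀ q ∈ Q, ⁅x, q⁆ ∈ Z}
      one_mem' := fun q _ => by rw [commutatorElement_one_left]; exact one_mem _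
      mul_mem' := by
        intro x y hx hy q hq
        have e : ⁅x * y, q⁆ = x * ⁅y, q⁆ * x⁻¹ * ⁅x, q⁆ := by
          rw [commutatorElement_def, commutatorElement_def, commutatorElement_def]; group
        rw [e]
        exact mul_mem (hZn.conj_mem _ (hy q hq) x) (hx q hq)
      inv_mem' := by
        intro x hx q hq
        have e : ⁅x⁻¹, q⁆ = x⁻¹ * ⁅x, q⁆⁻¹ * x⁻¹⁻¹ := by
          rw [commutatorElement_def, commutatorElement_def]; group
        rw [e]
        exact hZn.conj_mem _ (inv_mem (hx q hq)) x⁻¹ }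
  have hDmem : ∀ x, x ∈ D ↔ ∀ q ∈ Q, ⁅x, q⁆ ∈ Z := fun x => Iff.rfl
  have hDn : D.Normal := by
    refine ⟨fun x hx g q hq => ?_⟩
    have h1 := hx (g⁻¹ * q * g) (by
      have := hQn.conj_mem q hq g⁻¹
      rwa [inv_inv] at this)
    have e : ⁅g * x * g⁻¹, q⁆ = g * ⁅x, g⁻¹ * q * g⁆ * g⁻¹ := by
      rw [commutatorElement_def, commutatorElement_def]; group
    rw [e]
    exact hZn.conj_mem _ h1 g
  have hSD : (S : Subgroup G) ≤ D := fun s hs q hq => hQ' q hq s hs
  -- `D ∩ C` is a 2-group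
  have hDC : ∀ x ∈ D ⊓ C, (orderOf x).Coprime 2 → x = 1 := by
    intro x hx hxo
    obtain ⟨hxD, hxC⟩ := mem_inf.1 hx
    have hcop : (Nat.card (zpowers x)).Coprime 2 := by rwa [Nat.card_zpowers]
    have hZcc : Z ≤ centralizer (Z : Set G) := fun a ha => mem_centralizer_iff.2 fun b hb => hZc b hb a ha
    have hZp : IsPGroup 2 Z := hQp.to_le hZQ
    have hxn : zpowers x ≤ normalizer (Z : Set G) := by rw [normalizer_eq_top]; exact le_top
    have hxZ : ∀ z ∈ Z, x * z = z * x := by
      have h1 := H13.Fix.comm_inf_centralizer (Q := zpowers x) hZcc hZp hcop hxn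
      have h2 : ⁅Z, zpowers x⁆ = ⊥ := by
        by_contra hne
        have h3 : ⁅Z, zpowers x⁆ ≤ Z := H1.Coprime2.commutator_le_left hxn
        have h4 : IsPGroup 2 (⁅Z, zpowers x⁆ : Subgroup G) := hZp.to_le h3
        have : Nontrivial (⁅Z, zpowers x⁆ : Subgroup G) := (Subgroup.nontrivial_iff_ne_bot _).2 hne
        obtain ⟨n, hn0, hn⟩ := h4.nontrivial_iff_card.1 this
        have h5 : 2 ∣ Nat.card (⁅Z, zpowers x⁆ : Subgroup G) := by
          rw [hn]; exact dvd_pow_self 2 hn0.ne'
        obtain ⟨t, ht⟩ := exists_prime_orderOf_dvd_card' 2 h5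
        have ht2 : (t : G) ^ 2 = 1 := by
          have h6 : t ^ 2 = 1 := by rw [← ht, pow_orderOf_eq_one]
          exact congrArg Subtype.val h6
        have ht1 : (t : G) ≠ 1 := by
          intro h6
          have h7 : t = 1 := Subtype.ext h6
          rw [h7, orderOf_one] at ht
          omega
        have htV : (t : G) ∈ V := ⟨h3 t.2, ht2⟩
        have h6 : x * (t : G) = t * x := (mem_centralizer_iff.1 hxC t htV).symm
        have h7 : (t : G) ∈ centralizer (zpowers x : Set G) := by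
          rw [mem_centralizer_iff]
          rintro y hy
          obtain ⟨k, rfl⟩ := mem_zpowers_iff.1 hy
          exact ((show Commute x (t : G) from h6).zpow_left k).eq
        have h8 : (t : G) ∈ (⊥ : Subgroup G) := by rw [← h1]; exact mem_inf.2 ⟨t.2, h7⟩
        exact ht1 (mem_bot.1 h8)
      intro z hz
      have h3 : ⁅z, x⁆ ∈ ⁅Z, zpowers x⁆ := commutator_mem_commutator hz (mem_zpowers x)
      rw [h2, mem_bot, commutatorElement_eq_one_iff_mul_comm] at h3
      exact h3.symm
    have hxQ : ∀ q ∈ Q, x * q = q * x := by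
      intro q hq
      set z := ⁅x, q⁆ with hz
      have hzZ : z ∈ Z := hxD q hq
      have e1 : x * q * x⁻¹ = z * q := by rw [hz, commutatorElement_def]; group
      have hpow : ∀ n : ℕ, x ^ n * q * (x ^ n)⁻¹ = z ^ n * q := by
        intro n
        induction n with
        | zero => simp
        | succ n ih =>
          have e2 : x ^ (n + 1) * q * (x ^ (n + 1))⁻¹ = x * (x ^ n * q * (x ^ n)⁻¹) * x⁻¹ := by
            rw [pow_succ']; group
          have e3 : x * z ^ n = z ^ n * x := ((show Commute x z from hxZ z hzZ).pow_right n).eq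
          rw [e2, ih]
          calc x * (z ^ n * q) * x⁻¹ = (x * z ^ n) * q * x⁻¹ := by group
            _ = z ^ n * (x * q * x⁻¹) := by rw [e3]; group
            _ = z ^ (n + 1) * q := by rw [e1, pow_succ]; group
      have h1 := hpow (orderOf x)
      rw [pow_orderOf_eq_one] at h1
      have h2 : z ^ orderOf x = 1 := by
        have h3 : z ^ orderOf x * q = 1 * q := by rw [← h1]; group
        exact mul_right_cancel h3
      have h3 : z = 1 := H38.PPrime.eq_one_of_coprime_of_isPGroup hZp hzZ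
        (Nat.Coprime.coprime_dvd_left (orderOf_dvd_of_pow_eq_one h2) hxo)
      rw [hz, commutatorElement_eq_one_iff_mul_comm] at h3
      exact h3
    have h1 : x ∈ Q := hc (mem_centralizer_iff.2 fun q hq => (hxQ q hq).symm)
    exact H38.PPrime.eq_one_of_coprime_of_isPGroup hQp h1 hxo
  -- the normal 2-subgroup `R`
  set N := (pCore 2 (G ⧸ C)).comap π with hN
  have hNn : N.Normal := inferInstance
  have hR : IsPGroup 2 (D ⊓ N : Subgroup G) := by
    rintro ⟨x, hx⟩
    obtain ⟨hxD, hxN⟩ := mem_inf.1 hx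
    have h2 : IsPGroup 2 (pCore 2 (G ⧸ C)) := isPGroup_pCore
    obtain ⟨j, hj⟩ := h2 ⟨_, hxN⟩
    have h3 : (π x) ^ 2 ^ j = 1 := congrArg Subtype.val hj
    rw [← map_pow] at h3
    have h4 : x ^ 2 ^ j ∈ C := (QuotientGroup.eq_one_iff _).1 h3
    obtain ⟨k, hk⟩ := H39.SylowAux.exists_ppart Nat.prime_two (x ^ 2 ^ j)
    have h5 := hDC _ (mem_inf.2 ⟨D.pow_mem (D.pow_mem hxD _) _, C.pow_mem h4 _⟩) hk
    refine ⟨j + k, Subtype.ext ?_⟩
    show x ^ 2 ^ (j + k) = 1
    rw [pow_add, pow_mul]; exact h5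
  have hRQ : D ⊓ N ≤ Q := le_pCore inferInstance hR
  rw [H52.SFour.thompsonOf_le_iff]
  intro A hA
  have hHyp : Hyp G V A := by
    refine ⟨hVc, hV2, hfree, ?_, S.2.to_le hA.1, fun B _ hB => best_of_maxIn hA hVS hVc hV2 hB⟩
    intro T hT s hs t ht v hv
    obtain ⟨y, -, hy⟩ := (isSyl_sylow S).exists_conj_le hT le_top
    have h1 : y * s * y⁻¹ ∈ (S : Subgroup G) := hy ⟨s, hs, rfl⟩
    have h2 : y * t * y⁻¹ ∈ (S : Subgroup G) := hy ⟨t, ht, rfl⟩
    have h3 : y * v * y⁻¹ ∈ (S : Subgroup G) := hVS (hVn.conj_mem v hv y)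
    have h4 := hSS _ h2 _ h3 _ h1
    have e : ⁅y * t * y⁻¹, y * v * y⁻¹⁆ = y * ⁅t, v⁆ * y⁻¹ := by
      rw [commutatorElement_def, commutatorElement_def]; group
    rw [e] at h4
    calc s * ⁅t, v⁆ = y⁻¹ * ((y * s * y⁻¹) * (y * ⁅t, v⁆ * y⁻¹)) * y := by group
      _ = y⁻¹ * ((y * ⁅t, v⁆ * y⁻¹) * (y * s * y⁻¹)) * y := by rw [h4]
      _ = ⁅t, v⁆ * s := by group
  have h1 := core _ G V A le_rfl hHyp
  rw [map_le_iff_le_comap] at h1
  exact (le_inf (hA.1.trans hSD) h1).trans hRQ

/-- the factorization `G = N_G(J(S)) O_{2'}(G)` -/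
theorem main {G : Type u} [Group G] [Finite G] (hcon : IsPConstrained 2 G)
    (hfree : ¬ Involves (Equiv.Perm (Fin 4)) G) (S : Sylow 2 G)
    (hcl : ⁅⁅(S : Subgroup G), (S : Subgroup G)⁆, (S : Subgroup G)⁆ = ⊥) :
    normalizer (thompsonSubgroupOf 2 (S : Subgroup G) : Set G) ⊔ pPrimeCore 2 G = ⊤ := by
  have h2p : Fact (Nat.Prime 2) := ⟨Nat.prime_two⟩
  have hYc : (Nat.card (pPrimeCore 2 G)).Coprime 2 := H1.Cores.coprime_card_pPrimeCore 2
  set Y := pPrimeCore 2 G with hY
  apply H52.SFour2.sup_of_quotient S hYc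
  set π := QuotientGroup.mk' Y with hπ
  have hπs : Function.Surjective π := QuotientGroup.mk'_surjective Y
  have hc : centralizer (pCore 2 (G ⧸ Y) : Set (G ⧸ Y)) ≤ pCore 2 (G ⧸ Y) :=
    (H59.PCons.isPConstrained_iff.1 hcon).centralizer_pCore_le
  have h1 : thompsonSubgroupOf 2 ((S : Subgroup G).map π) ≤ pCore 2 (G ⧸ Y) :=
    thompson_le (fun h => hfree (H51.Involves.involves_of_hom π hπs h)) hc (S.mapSurjective hπs) (by
      show ⁅⁅(S : Subgroup G).map π, (S : Subgroup G).map π⁆, (S : Subgroup G).map π⁆ = ⊥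
      rw [← map_commutator, ← map_commutator, hcl, Subgroup.map_bot])
  have h2 : pCore 2 (G ⧸ Y) ≤ (S : Subgroup G).map π := pCore_le_sylow (S.mapSurjective hπs)
  rw [← H52.SFour2.thompsonOf_eq_of_le h1 h2, ← normalizer_eq_top_iff, eq_top_iff]
  refine le_trans ?_ (H13.SylowN.normalizer_le_normalizer_thompsonOf _)
  rw [normalizer_eq_top]

end H52.ClassTwo
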