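import Cfsg.Agent.Lib.H52.Offender
import Cfsg.Agent.Lib.H66.PRed

/-!
# Transvections coming from cyclic subgroups normalized by a self-centralizing elementary abelian normal subgroup
-/

set_option autoImplicit false

namespace H52.CycNorm

open Subgroup Cfsg
open scoped commutatorElement

variable {X : Type*} [Group X]

/-- `a` acts on `U` as a transvection with centre `⟨e⟩`. -/
structure Tv (U : Subgroup X) (a e : X) : Prop where
  eU : e ∈ U
  ae : a * e = e * a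
  comm : ∀ u ∈ U, ∃ k : ℤ, a * u * a⁻¹ = e ^ k * u

theorem Tv.conj {U : Subgroup X} [hUn : U.Normal] {a e : X} (h : Tv U a e) (x : X) :
    Tv U (x * a * x⁻¹) (x * e * x⁻¹) := by
  refine ⟨hUn.conj_mem _ h.eU x, ?_, ?_⟩
  · calc x * a * x⁻¹ * (x * e * x⁻¹) = x * (a * e) * x⁻¹ := by group
      _ = x * (e * a) * x⁻¹ := by rw [h.ae]
      _ = _ := by group
  · intro u hu
    have h1 : x⁻¹ * u * x ∈ U := by
      have := hUn.conj_mem u hu x⁻¹
      rwa [inv_inv] at this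
    obtain ⟨k, hk⟩ := h.comm _ h1
    refine ⟨k, ?_⟩
    calc x * a * x⁻¹ * u * (x * a * x⁻¹)⁻¹ = x * (a * (x⁻¹ * u * x) * a⁻¹) * x⁻¹ := by group
      _ = x * (e ^ k * (x⁻¹ * u * x)) * x⁻¹ := by rw [hk]
      _ = (x * e * x⁻¹) ^ k * u := by rw [conj_zpow]; group

theorem Tv.inv_comm {U : Subgroup X} {a e : X} (h : Tv U a e) (hUc : ∀ u ∈ U, ∀ v ∈ U, u * v = v * u) :
    ∀ u ∈ U, ∃ k : ℤ, a⁻¹ * u * a = e ^ k * u := by
  intro u hu
  obtain ⟨k, hk⟩ := h.comm u hu
  refine ⟨-k, ?_⟩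
  have h1 : Commute a (e ^ (-k)) := (show Commute a e from h.ae).zpow_right _
  have h2 : a * (e ^ (-k) * u) * a⁻¹ = u := by
    calc a * (e ^ (-k) * u) * a⁻¹ = (a * e ^ (-k)) * u * a⁻¹ := by group
      _ = e ^ (-k) * (a * u * a⁻¹) := by rw [h1.eq]; group
      _ = u := by rw [hk]; group
  nth_rw 1 [← h2]; group

theorem Tv.pow {U : Subgroup X} {a e u : X} {k : ℤ} (h : Tv U a e) (hk : a * u * a⁻¹ = e ^ k * u) (n : ℕ) :
    a ^ n * u * (a ^ n)⁻¹ = e ^ (k * n) * u := by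
  induction n with
  | zero => simp
  | succ n ih =>
    have h1 : Commute a (e ^ (k * n)) := (show Commute a e from h.ae).zpow_right _
    calc a ^ (n + 1) * u * (a ^ (n + 1))⁻¹ = a * (a ^ n * u * (a ^ n)⁻¹) * a⁻¹ := by rw [pow_succ']; group
      _ = (a * e ^ (k * n)) * u * a⁻¹ := by rw [ih]; group
      _ = e ^ (k * n) * (a * u * a⁻¹) := by rw [h1.eq]; group
      _ = e ^ (k * ((n + 1 : ℕ) : ℤ)) * u := by
        rw [hk, ← mul_assoc, ← zpow_add]; congr 2; push_cast; ring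

theorem Tv.zpow {U : Subgroup X} {a e u : X} {k : ℤ} (h : Tv U a e) (hk : a * u * a⁻¹ = e ^ k * u) (n : ℤ) :
    a ^ n * u * (a ^ n)⁻¹ = e ^ (k * n) * u := by
  obtain ⟨n, rfl | rfl⟩ := n.eq_nat_or_neg
  · have := h.pow hk n
    rwa [← zpow_natCast] at this
  · have h1 := h.pow hk n
    have h2 : Commute (a ^ n) (e ^ (k * n)) := ((show Commute a e from h.ae).pow_left n).zpow_right _
    have h3 : u = (a ^ n)⁻¹ * (e ^ (k * n) * u) * a ^ n := by rw [← h1]; group
    have h4 : (a ^ n)⁻¹ * (e ^ (k * n) * u) * a ^ n = e ^ (k * n) * ((a ^ n)⁻¹ * u * a ^ n) := by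
      calc (a ^ n)⁻¹ * (e ^ (k * n) * u) * a ^ n = ((a ^ n)⁻¹ * e ^ (k * n)) * u * a ^ n := by group
        _ = (e ^ (k * n) * (a ^ n)⁻¹) * u * a ^ n := by rw [h2.inv_left.eq]
        _ = _ := by group
    rw [h4] at h3
    have h5 : a ^ (-(n : ℤ)) = (a ^ n)⁻¹ := by rw [zpow_neg, zpow_natCast]
    rw [h5, inv_inv]
    have h6 : (a ^ n)⁻¹ * u * a ^ n = (e ^ (k * n))⁻¹ * u := by
      nth_rw 2 [h3]; group
    rw [h6, ← zpow_neg]; congr 2; ring

/-- A `p'`-element which moves `u` by a fixed element `w` fixes `u`. -/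
theorem eq_one_of_shift {p : ℕ} [hp : Fact p.Prime] {y u w : X} (hwp : w ^ p = 1) {m : ℕ} (hm : ¬ p ∣ m)
    (hy : y ^ m * u = u * y ^ m) (hw : y * u * y⁻¹ = w * u) (hyw : y * w = w * y) : w = 1 := by
  have hpow : ∀ n : ℕ, y ^ n * u * (y ^ n)⁻¹ = w ^ n * u := by
    intro n
    induction n with
    | zero => simp
    | succ n ih =>
      have h5 : y * w ^ n = w ^ n * y := ((show Commute y w from hyw).pow_right n).eq
      calc y ^ (n + 1) * u * (y ^ (n + 1))⁻¹ = y * (y ^ n * u * (y ^ n)⁻¹) * y⁻¹ := by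
            rw [pow_succ']; group
        _ = (y * w ^ n) * u * y⁻¹ := by rw [ih]; group
        _ = w ^ n * (y * u * y⁻¹) := by rw [h5]; group
        _ = w ^ (n + 1) * u := by rw [hw, pow_succ]; group
  have h1 := hpow m
  rw [hy, mul_inv_cancel_right] at h1
  have h2 : w ^ m = 1 := (mul_eq_right.1 h1.symm)
  have h3 : (p.Coprime m) := (Nat.Prime.coprime_iff_not_dvd hp.out).2 hm
  have h4 : orderOf w ∣ 1 := by
    rw [← Nat.Coprime.gcd_eq_one h3]
    exact Nat.dvd_gcd (orderOf_dvd_of_pow_eq_one hwp) (orderOf_dvd_of_pow_eq_one h2)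
  exact orderOf_eq_one_iff.1 (Nat.dvd_one.1 h4)

/-- In the situation with a `p'`-element `y = b a⁻¹` acting nontrivially, `a` does not fix the centre of `b`. -/
theorem not_comm {p : ℕ} [hp : Fact p.Prime] {U : Subgroup X} (hU : ∀ u ∈ U, u ^ p = 1)
    (hUc : ∀ u ∈ U, ∀ v ∈ U, u * v = v * u) {a b e f : X} (ha : Tv U a e) (hb : Tv U b f) {m : ℕ}
    (hm : ¬ p ∣ m) (hy : (b * a⁻¹) ^ m ∈ centralizer (U : Set X)) (hyU : b * a⁻¹ ∉ centralizer (U : Set X)) :
    a * f ≠ f * a := by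
  intro haf
  apply hyU
  have hy' : ∀ u ∈ U, (b * a⁻¹) ^ m * u = u * (b * a⁻¹) ^ m := fun u hu =>
    (mem_centralizer_iff.1 hy u hu).symm
  set y := b * a⁻¹ with hydef
  have hae : Commute a e := ha.ae
  have hbf : Commute b f := hb.ae
  have haf' : Commute a f := haf
  have hyf : Commute y f := hbf.mul_left haf'.inv_left
  have hye : Commute y e := by
    obtain ⟨k, hk⟩ := hb.comm e ha.eU
    have h1 : y * e * y⁻¹ = f ^ k * e := by
      rw [← hk, hydef]
      calc b * a⁻¹ * e * (b * a⁻¹)⁻¹ = b * (a⁻¹ * e) * a * b⁻¹ := by group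
        _ = b * (e * a⁻¹) * a * b⁻¹ := by rw [hae.inv_left.eq]
        _ = b * e * b⁻¹ := by group
    have h2 := eq_one_of_shift (hU _ (zpow_mem hb.eU k)) hm (hy' e ha.eU) h1 (hyf.zpow_right k).eq
    rw [h2, one_mul] at h1
    show y * e = e * y
    calc y * e = (y * e * y⁻¹) * y := by group
      _ = e * y := by rw [h1]
  rw [mem_centralizer_iff]
  intro u hu
  obtain ⟨k, hk⟩ := ha.inv_comm hUc u hu
  obtain ⟨j, hj⟩ := hb.comm e ha.eU
  obtain ⟨l, hl⟩ := hb.comm u hu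
  have h1 : y * u * y⁻¹ = ((f ^ j * e) ^ k * f ^ l) * u := by
    rw [hydef]
    calc b * a⁻¹ * u * (b * a⁻¹)⁻¹ = b * (a⁻¹ * u * a) * b⁻¹ := by group
      _ = b * (e ^ k * u) * b⁻¹ := by rw [hk]
      _ = (b * e * b⁻¹) ^ k * (b * u * b⁻¹) := by rw [conj_zpow]; group
      _ = ((f ^ j * e) ^ k * f ^ l) * u := by rw [hj, hl]; group
  have hwU : (f ^ j * e) ^ k * f ^ l ∈ U :=
    mul_mem (zpow_mem (mul_mem (zpow_mem hb.eU j) ha.eU) k) (zpow_mem hb.eU l)
  have hyw : Commute y ((f ^ j * e) ^ k * f ^ l) :=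
    (((hyf.zpow_right j).mul_right hye).zpow_right k).mul_right (hyf.zpow_right l)
  have h2 := eq_one_of_shift (hU _ hwU) hm (hy' u hu) h1 hyw.eq
  rw [h2, one_mul] at h1
  calc u * y = (y * u * y⁻¹) * y := by rw [h1]
    _ = y * u := by group

theorem exists_int_inv {p : ℕ} [hp : Fact p.Prime] {e : X} (he : e ^ p = 1) {k : ℤ} (hk : e ^ k ≠ 1) :
    ∃ i : ℤ, e ^ (k * i) = e := by
  have h1 : IsCoprime (p : ℤ) k := by
    rw [Int.isCoprime_iff_gcd_eq_one, Int.gcd_comm]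
    by_contra hcon
    apply hk
    have h2 : (Int.gcd k p) = p := by
      have h3 : Int.gcd k p ∣ p := by exact_mod_cast Int.gcd_dvd_right k p
      exact ((Nat.dvd_prime hp.out).1 h3).resolve_left hcon
    have h4 : (p : ℤ) ∣ k := by have h5 := Int.gcd_dvd_left k p; rwa [h2] at h5
    obtain ⟨m, rfl⟩ := h4
    rw [zpow_mul, zpow_natCast, he, one_zpow]
  obtain ⟨u, v, huv⟩ := h1
  refine ⟨v, ?_⟩
  have h6 : e ^ (u * (p : ℤ) + v * k) = e := by rw [huv, zpow_one]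
  rw [zpow_add, mul_comm u, zpow_mul, zpow_natCast, he, one_zpow, one_mul, mul_comm v] at h6
  exact h6

theorem conj_eq_self_iff {g u : X} : g * u * g⁻¹ = u ↔ g * u = u * g := by
  constructor
  · intro h
    calc g * u = (g * u * g⁻¹) * g := by group
      _ = u * g := by rw [h]
  · intro h
    rw [h]; group

/-- The central involution of `⟨a, b⟩ = SL(2,p)`. -/
theorem exists_central {p : ℕ} [hp : Fact p.Prime] {U : Subgroup X} (hU : ∀ u ∈ U, u ^ p = 1)
    (hUc : ∀ u ∈ U, ∀ v ∈ U, u * v = v * u) {a b e f : X} (ha : Tv U a e) (hb : Tv U b f)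
    (haf : a * f ≠ f * a) (hbe : b * e ≠ e * b) :
    ∃ z : X, z * e * z⁻¹ = e⁻¹ ∧ ∀ u ∈ U, (z * a) * u * (z * a)⁻¹ = (a * z) * u * (a * z)⁻¹ := by
  obtain ⟨lam, hlam⟩ := ha.comm f hb.eU
  obtain ⟨mu, hmu⟩ := hb.comm e ha.eU
  have hlam1 : e ^ lam ≠ 1 := by
    intro h
    rw [h, one_mul, conj_eq_self_iff] at hlam
    exact haf hlam
  have hmu1 : f ^ mu ≠ 1 := by
    intro h
    rw [h, one_mul, conj_eq_self_iff] at hmu
    exact hbe hmu
  obtain ⟨i, hi⟩ := exists_int_inv (hU e ha.eU) hlam1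
  obtain ⟨j, hj⟩ := exists_int_inv (hU f hb.eU) hmu1
  have hef : Commute e f := hUc e ha.eU f hb.eU
  set a' := a ^ i with ha'
  set b' := b ^ (-j) with hb'
  have hae : Commute a e := ha.ae
  have hbf : Commute b f := hb.ae
  have h1 : a' * f * a'⁻¹ = e * f := by
    rw [ha', ha.zpow hlam i, hi]
  have h2 : b' * e * b'⁻¹ = f⁻¹ * e := by
    rw [hb', hb.zpow hmu (-j)]
    congr 1
    rw [mul_neg, zpow_neg, hj]
  have h3 : a' * e * a'⁻¹ = e := conj_eq_self_iff.2 (hae.zpow_left i).eq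
  have h4 : b' * f * b'⁻¹ = f := conj_eq_self_iff.2 (hbf.zpow_left (-j)).eq
  set w := a' * b' * a' with hw
  have hwconj : ∀ u : X, w * u * w⁻¹ = a' * (b' * (a' * u * a'⁻¹) * b'⁻¹) * a'⁻¹ := by
    intro u; rw [hw]; group
  have hwe : w * e * w⁻¹ = f⁻¹ := by
    rw [hwconj, h3, h2]
    calc a' * (f⁻¹ * e) * a'⁻¹ = (a' * f * a'⁻¹)⁻¹ * (a' * e * a'⁻¹) := by group
      _ = (e * f)⁻¹ * e := by rw [h1, h3]
      _ = f⁻¹ := by group
  have hwf : w * f * w⁻¹ = e := by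
    rw [hwconj, h1]
    have h5 : b' * (e * f) * b'⁻¹ = e := by
      calc b' * (e * f) * b'⁻¹ = (b' * e * b'⁻¹) * (b' * f * b'⁻¹) := by group
        _ = f⁻¹ * e * f := by rw [h2, h4]
        _ = f⁻¹ * (e * f) := by group
        _ = e := by rw [hef.eq]; group
    rw [h5, h3]
  refine ⟨w * w, ?_, ?_⟩
  · calc w * w * e * (w * w)⁻¹ = w * (w * e * w⁻¹) * w⁻¹ := by group
      _ = (w * f * w⁻¹)⁻¹ := by rw [hwe]; group
      _ = e⁻¹ := by rw [hwf]
  · set z := w * w with hz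
    have hze : z * e * z⁻¹ = e⁻¹ := by
      calc w * w * e * (w * w)⁻¹ = w * (w * e * w⁻¹) * w⁻¹ := by group
        _ = (w * f * w⁻¹)⁻¹ := by rw [hwe]; group
        _ = e⁻¹ := by rw [hwf]
    have hzf : z * f * z⁻¹ = f⁻¹ := by
      calc w * w * f * (w * w)⁻¹ = w * (w * f * w⁻¹) * w⁻¹ := by group
        _ = f⁻¹ := by rw [hwf, hwe]
    have hfix : ∀ v : X, a * v = v * a → b * v = v * b → z * v * z⁻¹ = v := by
      intro v hav hbv
      have h5 : Commute a' v := (show Commute a v from hav).zpow_left i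
      have h6 : Commute b' v := (show Commute b v from hbv).zpow_left (-j)
      have h7 : Commute w v := (h5.mul_left h6).mul_left h5
      exact conj_eq_self_iff.2 (h7.mul_left h7).eq
    -- the subgroup where both actions agree
    have key : ∀ u : X, u ∈ ((MulAut.conj (z * a)).toMonoidHom).eqLocus ((MulAut.conj (a * z)).toMonoidHom) ↔
        (z * a) * u * (z * a)⁻¹ = (a * z) * u * (a * z)⁻¹ := fun u => Iff.rfl
    intro u hu
    rw [← key]
    have he' : e ∈ ((MulAut.conj (z * a)).toMonoidHom).eqLocus ((MulAut.conj (a * z)).toMonoidHom) := by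
      rw [key]
      calc z * a * e * (z * a)⁻¹ = z * (a * e * a⁻¹) * z⁻¹ := by group
        _ = e⁻¹ := by rw [conj_eq_self_iff.2 ha.ae, hze]
        _ = (a * e * a⁻¹)⁻¹ := by rw [conj_eq_self_iff.2 ha.ae]
        _ = a * (e⁻¹) * a⁻¹ := by group
        _ = a * (z * e * z⁻¹) * a⁻¹ := by rw [hze]
        _ = _ := by group
    have hf' : f ∈ ((MulAut.conj (z * a)).toMonoidHom).eqLocus ((MulAut.conj (a * z)).toMonoidHom) := by
      rw [key]
      have h8 : e ^ (-lam) * f⁻¹ = f⁻¹ * e ^ (-lam) := ((hef.zpow_left (-lam)).inv_right).eq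
      calc z * a * f * (z * a)⁻¹ = z * (a * f * a⁻¹) * z⁻¹ := by group
        _ = (z * e * z⁻¹) ^ lam * (z * f * z⁻¹) := by rw [hlam, conj_zpow]; group
        _ = e ^ (-lam) * f⁻¹ := by rw [hze, hzf, inv_zpow, zpow_neg]
        _ = (e ^ lam * f)⁻¹ := by rw [h8]; group
        _ = (a * f * a⁻¹)⁻¹ := by rw [hlam]
        _ = a * f⁻¹ * a⁻¹ := by group
        _ = a * (z * f * z⁻¹) * a⁻¹ := by rw [hzf]
        _ = _ := by group
    obtain ⟨k, hk⟩ := ha.comm u hu
    set t : ℤ := -(k * i) with ht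
    set v := f ^ t * u with hv
    have hvU : v ∈ U := mul_mem (zpow_mem hb.eU t) hu
    have hav : a * v * a⁻¹ = v := by
      have h9 : e ^ (lam * t) = e ^ (-k) := by
        have h10 : lam * t = (lam * i) * (-k) := by rw [ht]; ring
        rw [h10, zpow_mul, hi]
      have h11 : f ^ t * e ^ k = e ^ k * f ^ t := ((hef.zpow_zpow k t).eq).symm
      have h12 : (e ^ lam * f) ^ t = e ^ (lam * t) * f ^ t := by
        rw [(hef.zpow_left lam).mul_zpow, zpow_mul]
      calc a * (f ^ t * u) * a⁻¹ = (a * f * a⁻¹) ^ t * (a * u * a⁻¹) := by rw [conj_zpow]; group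
        _ = (e ^ lam * f) ^ t * (e ^ k * u) := by rw [hlam, hk]
        _ = e ^ (lam * t) * (f ^ t * e ^ k) * u := by rw [h12]; group
        _ = e ^ (-k) * (e ^ k * f ^ t) * u := by rw [h9, h11]
        _ = f ^ t * u := by group
    obtain ⟨l, hl⟩ := hb.comm v hvU
    set s : ℤ := -(l * j) with hs
    set v' := e ^ s * v with hv'
    have hbv' : b * v' * b⁻¹ = v' := by
      have h9 : f ^ (mu * s) = f ^ (-l) := by
        have h10 : mu * s = (mu * j) * (-l) := by rw [hs]; ring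
        rw [h10, zpow_mul, hj]
      have h11 : e ^ s * f ^ l = f ^ l * e ^ s := (hef.zpow_zpow s l).eq
      have h12 : (f ^ mu * e) ^ s = f ^ (mu * s) * e ^ s := by
        rw [(hef.symm.zpow_left mu).mul_zpow, zpow_mul]
      calc b * (e ^ s * v) * b⁻¹ = (b * e * b⁻¹) ^ s * (b * v * b⁻¹) := by rw [conj_zpow]; group
        _ = (f ^ mu * e) ^ s * (f ^ l * v) := by rw [hmu, hl]
        _ = f ^ (mu * s) * (e ^ s * f ^ l) * v := by rw [h12]; group
        _ = f ^ (-l) * (f ^ l * e ^ s) * v := by rw [h9, h11]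
        _ = e ^ s * v := by group
    have hav' : a * v' * a⁻¹ = v' := by
      have h9 : a * e ^ s * a⁻¹ = e ^ s := conj_eq_self_iff.2 (hae.zpow_right s).eq
      calc a * (e ^ s * v) * a⁻¹ = (a * e ^ s * a⁻¹) * (a * v * a⁻¹) := by group
        _ = e ^ s * v := by rw [h9, hav]
    have hzv' := hfix v' (conj_eq_self_iff.1 hav') (conj_eq_self_iff.1 hbv')
    have hv'L : v' ∈ ((MulAut.conj (z * a)).toMonoidHom).eqLocus ((MulAut.conj (a * z)).toMonoidHom) := by
      rw [key]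
      calc z * a * v' * (z * a)⁻¹ = z * (a * v' * a⁻¹) * z⁻¹ := by group
        _ = v' := by rw [hav', hzv']
        _ = a * v' * a⁻¹ := by rw [hav']
        _ = a * (z * v' * z⁻¹) * a⁻¹ := by rw [hzv']
        _ = _ := by group
    have hu' : u = (f ^ t)⁻¹ * ((e ^ s)⁻¹ * v') := by rw [hv', hv]; group
    rw [hu']
    exact mul_mem (inv_mem (zpow_mem hf' t)) (mul_mem (inv_mem (zpow_mem he' s)) hv'L)

/-- generators of `U ⊓ ⟨a⟩` -/
theorem mem_zpowers_of_cyclic {p : ℕ} [hp : Fact p.Prime] [Finite X] {E : Subgroup X} (hEc : IsCyclic E)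
    (hE : ∀ v ∈ E, v ^ p = 1) {e : X} (he : e ∈ E) (he1 : e ≠ 1) : ∀ v ∈ E, v ∈ zpowers e := by
  have h1 : Nat.card E ∣ p := by
    rw [← IsCyclic.exponent_eq_card]
    apply Monoid.exponent_dvd_of_forall_pow_eq_one
    intro v
    exact Subtype.ext (hE v v.2)
  have h2 : Nat.card (zpowers e) = p := by
    rw [Nat.card_zpowers]
    exact orderOf_eq_prime (hE e he) he1
  have h3 : zpowers e = E := by
    apply Subgroup.eq_of_le_of_card_ge (by rwa [zpowers_le])
    rw [h2]; exact Nat.le_of_dvd hp.out.pos h1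
  intro v hv
  rw [h3]; exact hv

/-- transvection from a cyclic subgroup normalized by `U` -/
theorem exists_tv {p : ℕ} [hp : Fact p.Prime] [Finite X] {U : Subgroup X} [hUn : U.Normal]
    (hU : ∀ u ∈ U, u ^ p = 1) {a : X}
    (haN : ∀ u ∈ U, a * u * a⁻¹ * u⁻¹ ∈ zpowers a) (haU : a ∉ centralizer (U : Set X)) :
    ∃ e, Tv U a e ∧ e ≠ 1 ∧ e ∈ zpowers a ∧ ∀ v ∈ U ⊓ zpowers a, v ∈ zpowers e := by
  have h1 : ∃ u ∈ U, a * u * a⁻¹ * u⁻¹ ≠ 1 := by
    by_contra hcon
    push Not at hcon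
    apply haU
    rw [mem_centralizer_iff]
    intro u hu
    have := hcon u hu
    rw [mul_inv_eq_one, conj_eq_self_iff] at this
    exact this.symm
  obtain ⟨u₀, hu₀, hne⟩ := h1
  have hmem : ∀ u ∈ U, a * u * a⁻¹ * u⁻¹ ∈ U ⊓ zpowers a := fun u hu =>
    mem_inf.2 ⟨mul_mem (hUn.conj_mem u hu a) (inv_mem hu), haN u hu⟩
  have hcyc : IsCyclic (U ⊓ zpowers a : Subgroup X) :=
    isCyclic_of_injective (inclusion (inf_le_right : U ⊓ zpowers a ≤ zpowers a))
      (inclusion_injective _)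
  set e := a * u₀ * a⁻¹ * u₀⁻¹ with he
  have hall := mem_zpowers_of_cyclic hcyc (fun v hv => hU v (mem_inf.1 hv).1) (hmem u₀ hu₀) hne
  refine ⟨e, ⟨(mem_inf.1 (hmem u₀ hu₀)).1, ?_, ?_⟩, hne, (mem_inf.1 (hmem u₀ hu₀)).2, hall⟩
  · obtain ⟨k, hk⟩ := mem_zpowers_iff.1 (mem_inf.1 (hmem u₀ hu₀)).2
    have hk' : a ^ k = e := hk
    rw [← hk']
    exact ((Commute.refl a).zpow_right k).eq
  · intro u hu
    obtain ⟨k, hk⟩ := mem_zpowers_iff.1 (hall _ (hmem u hu))
    refine ⟨k, ?_⟩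
    rw [hk]; group

/-- the odd case -/
theorem false_of_odd {p : ℕ} [hp : Fact p.Prime] [Finite X] (hp2 : p ≠ 2) {U : Subgroup X} [hUn : U.Normal]
    (hU : ∀ u ∈ U, u ^ p = 1) (hUc : ∀ u ∈ U, ∀ v ∈ U, u * v = v * u)
    (hC : centralizer (U : Set X) ≤ U) {a x : X} (haU : a ∉ U)
    (haN : ∀ u ∈ U, a * u * a⁻¹ * u⁻¹ ∈ zpowers a) {m : ℕ} (hm : ¬ p ∣ m)
    (hy : (x * a * x⁻¹ * a⁻¹) ^ m ∈ U) (hyU : x * a * x⁻¹ * a⁻¹ ∉ U) : False := by
  have hUC : U ≤ centralizer (U : Set X) := fun u hu => mem_centralizer_iff.2 fun v hv => hUc v hv u hu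
  obtain ⟨e, ha, he1, hea, hall⟩ := exists_tv hU haN (fun h => haU (hC h))
  have hb := ha.conj x
  set b := x * a * x⁻¹ with hbdef
  set f := x * e * x⁻¹ with hfdef
  have h1 := not_comm hU hUc ha hb hm (hUC hy) (fun h => hyU (hC h))
  have hinv : a * b⁻¹ = (b * a⁻¹)⁻¹ := by group
  have h2 := not_comm hU hUc hb ha hm (by rw [hinv, inv_pow]; exact inv_mem (hUC hy))
    (by rw [hinv]; intro h; exact hyU (hC (by rw [← inv_inv (b * a⁻¹)]; exact inv_mem h)))
  obtain ⟨z, hze, hza⟩ := exists_central hU hUc ha hb h1 h2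
  -- z a z⁻¹ = a v
  have h3 : (a * z)⁻¹ * (z * a) ∈ U := by
    apply hC
    rw [mem_centralizer_iff]
    intro u hu
    have h4 := hza u hu
    calc u * ((a * z)⁻¹ * (z * a)) = (a * z)⁻¹ * ((a * z) * u * (a * z)⁻¹) * (z * a) := by group
      _ = (a * z)⁻¹ * ((z * a) * u * (z * a)⁻¹) * (z * a) := by rw [h4]
      _ = (a * z)⁻¹ * (z * a) * u := by group
  set g := (a * z)⁻¹ * (z * a) with hg
  set v := z * g * z⁻¹ with hv
  have hvU : v ∈ U := hUn.conj_mem g h3 z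
  have h5 : z * a * z⁻¹ = a * v := by rw [hv, hg]; group
  -- (a v)^p = a^p
  have hcva : ⁅v, a⁆ ∈ U ⊓ zpowers a := by
    have h6 : ⁅v, a⁆ = (a * v * a⁻¹ * v⁻¹)⁻¹ := by rw [commutatorElement_def]; group
    rw [h6]
    exact inv_mem (mem_inf.2 ⟨mul_mem (hUn.conj_mem v hvU a) (inv_mem hvU), haN v hvU⟩)
  have hca : Commute a ⁅v, a⁆ := by
    obtain ⟨k, hk⟩ := mem_zpowers_iff.1 (mem_inf.1 hcva).2
    rw [← hk]
    exact (Commute.refl a).zpow_right k
  have hcv : Commute v ⁅v, a⁆ := hUc v hvU _ (mem_inf.1 hcva).1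
  have h7 := H14.Repl2.mul_pow_of hca hcv p
  have h8 : ⁅v, a⁆ ^ (p.choose 2) = 1 := by
    have h9 : p ∣ p.choose 2 := hp.out.dvd_choose_self (by norm_num) (lt_of_le_of_ne hp.out.two_le (Ne.symm hp2))
    obtain ⟨c, hc⟩ := h9
    rw [hc, pow_mul, hU _ (mem_inf.1 hcva).1, one_pow]
  rw [hU v hvU, h8, mul_one, mul_one] at h7
  have h10 : z * a ^ p * z⁻¹ = a ^ p := by rw [← conj_pow, h5, h7]
  -- a^p ∈ U
  have h11 : a ^ p ∈ U := by
    apply hC
    rw [mem_centralizer_iff]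
    intro u hu
    obtain ⟨k, hk⟩ := ha.comm u hu
    have h12 := ha.pow hk p
    have h13 : e ^ (k * p) = 1 := by
      rw [mul_comm, zpow_mul, zpow_natCast, hU e ha.eU, one_zpow]
    rw [h13, one_mul, conj_eq_self_iff] at h12
    exact h12.symm
  obtain ⟨k, hk⟩ := mem_zpowers_iff.1 (hall _ (mem_inf.2 ⟨h11, pow_mem (mem_zpowers a) p⟩))
  have h14 : z * a ^ p * z⁻¹ = (a ^ p)⁻¹ := by
    rw [← hk, ← conj_zpow, hze, inv_zpow]
  have h15 : a ^ p = 1 := by
    rw [h10] at h14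
    have h16 : (a ^ p) ^ 2 = 1 := by
      rw [pow_two]; nth_rw 2 [h14]; exact mul_inv_cancel _
    have h17 : (a ^ p) ^ p = 1 := hU _ h11
    have h18 : p.Coprime 2 := (Nat.coprime_primes hp.out Nat.prime_two).2 hp2
    have h19 : orderOf (a ^ p) ∣ 1 := by
      rw [← Nat.Coprime.gcd_eq_one h18]
      exact Nat.dvd_gcd (orderOf_dvd_of_pow_eq_one h17) (orderOf_dvd_of_pow_eq_one h16)
    exact orderOf_eq_one_iff.1 (Nat.dvd_one.1 h19)
  have h20 : ∀ w ∈ zpowers a, w ^ p = 1 := by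
    rintro _ ⟨k, rfl⟩
    show (a ^ k) ^ p = 1
    rw [← zpow_natCast, ← zpow_mul, mul_comm, zpow_mul, zpow_natCast, h15, one_zpow]
  have h21 := mem_zpowers_of_cyclic (E := zpowers a) inferInstance h20 hea he1 a (mem_zpowers a)
  exact haU ((zpowers_le.2 ha.eU) h21)

theorem Tv.relIndex_le {U : Subgroup X} {a e : X} (h : Tv U a e) (he2 : e ^ 2 = 1)
    (hUc : ∀ u ∈ U, ∀ v ∈ U, u * v = v * u) : (U ⊓ centralizer ({a} : Set X)).relIndex U ≤ 2 := by
  have hcase : ∀ u ∈ U, a * u = u * a ∨ a * u * a⁻¹ = e * u := by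
    intro u hu
    obtain ⟨k, hk⟩ := h.comm u hu
    have he2' : e ^ (2 : ℤ) = 1 := by
      rw [show (2 : ℤ) = ((2 : ℕ) : ℤ) from rfl, zpow_natCast]; exact he2
    rcases Int.even_or_odd' k with ⟨i, rfl | rfl⟩
    · left
      rw [zpow_mul, he2', one_zpow, one_mul, conj_eq_self_iff] at hk
      exact hk
    · right
      rw [zpow_add, zpow_mul, he2', one_zpow, one_mul, zpow_one] at hk
      exact hk
  by_cases hU : ∀ u ∈ U, a * u = u * a
  · have h1 : U ⊓ centralizer ({a} : Set X) = U := by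
      rw [inf_eq_left]
      intro u hu
      rw [mem_centralizer_singleton_iff]
      exact (hU u hu).symm
    rw [h1, relIndex_self]; norm_num
  · push Not at hU
    obtain ⟨u₀, hu₀, hne⟩ := hU
    have hu₀' := (hcase u₀ hu₀).resolve_left hne
    apply le_of_eq
    show ((U ⊓ centralizer ({a} : Set X)).subgroupOf U).index = 2
    rw [index_eq_two_iff]
    refine ⟨⟨u₀, hu₀⟩, ?_⟩
    rintro ⟨u, hu⟩
    by_cases huC : a * u = u * a
    · right
      refine ⟨mem_inf.2 ⟨hu, mem_centralizer_singleton_iff.2 huC.symm⟩, ?_⟩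
      intro h1
      apply hne
      have h2 : (u * u₀) * a = a * (u * u₀) := mem_centralizer_singleton_iff.1 (mem_inf.1 h1).2
      calc a * u₀ = a * u⁻¹ * (u * u₀) := by group
        _ = u⁻¹ * (a * (u * u₀)) := by
          rw [← mul_assoc u⁻¹ a, (show Commute a u from huC).inv_right.eq]
        _ = u₀ * a := by rw [← h2]; group
    · left
      refine ⟨mem_inf.2 ⟨mul_mem hu hu₀, ?_⟩, ?_⟩
      · show u * u₀ ∈ centralizer ({a} : Set X)
        rw [mem_centralizer_singleton_iff]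
        have hu' := (hcase u hu).resolve_left huC
        have h3 : a * (u * u₀) * a⁻¹ = u * u₀ := by
          calc a * (u * u₀) * a⁻¹ = (a * u * a⁻¹) * (a * u₀ * a⁻¹) := by group
            _ = e * u * (e * u₀) := by rw [hu', hu₀']
            _ = e * (u * e) * u₀ := by group
            _ = e * (e * u) * u₀ := by rw [hUc u hu e h.eU]
            _ = e ^ 2 * (u * u₀) := by rw [pow_two]; group
            _ = u * u₀ := by rw [he2, one_mul]
        exact (conj_eq_self_iff.1 h3).symm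
      · intro h1
        exact huC (mem_centralizer_singleton_iff.1 (mem_inf.1 h1).2).symm

/-- the case `p = 2` -/
theorem involves_of_two [Finite X] {U : Subgroup X} [hUn : U.Normal]
    (hU : ∀ u ∈ U, u ^ 2 = 1) (hUc : ∀ u ∈ U, ∀ v ∈ U, u * v = v * u)
    (hC : centralizer (U : Set X) ≤ U) {a x : X} (haU : a ∉ U)
    (haN : ∀ u ∈ U, a * u * a⁻¹ * u⁻¹ ∈ zpowers a) {m : ℕ} (hm : ¬ 2 ∣ m)
    (hy : (x * a * x⁻¹ * a⁻¹) ^ m ∈ U) (hyU : x * a * x⁻¹ * a⁻¹ ∉ U) :
    Involves (Equiv.Perm (Fin 4)) X := by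
  classical
  have h2p : Fact (Nat.Prime 2) := ⟨Nat.prime_two⟩
  have hUC : U ≤ centralizer (U : Set X) := fun u hu => mem_centralizer_iff.2 fun v hv => hUc v hv u hu
  have hUp : IsPGroup 2 U := fun u => ⟨1, Subtype.ext (by simpa using hU u u.2)⟩
  obtain ⟨e, ha, he1, hea, hall⟩ := exists_tv hU haN (fun h => haU (hC h))
  have hb := ha.conj x
  set b := x * a * x⁻¹ with hbdef
  set f := x * e * x⁻¹ with hfdef
  set y := b * a⁻¹ with hydef
  obtain ⟨y', hy'z, hy'o, hy'U⟩ := H14.GlNPC2.exists_pprime_power (p := 2) hyU ⟨m, hm, hy⟩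
  obtain ⟨k, rfl⟩ := hy'z
  set y' : X := y ^ k with hy'def
  have hyodd : Odd (orderOf y') := Nat.coprime_two_right.1 hy'o
  have hidx : (U ⊓ centralizer ({y'} : Set X)).relIndex U ≤ 4 := by
    have h1 := ha.relIndex_le (hU e ha.eU) hUc
    have h2 := hb.relIndex_le (hU f hb.eU) hUc
    have h3 : (U ⊓ centralizer ({a} : Set X)) ⊓ (U ⊓ centralizer ({b} : Set X)) ≤
        U ⊓ centralizer ({y'} : Set X) := by
      intro u hu
      obtain ⟨hu1, hu2⟩ := mem_inf.1 hu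
      refine mem_inf.2 ⟨(mem_inf.1 hu1).1, ?_⟩
      rw [mem_centralizer_singleton_iff]
      have h4 : Commute u a := mem_centralizer_singleton_iff.1 (mem_inf.1 hu1).2
      have h5 : Commute u b := mem_centralizer_singleton_iff.1 (mem_inf.1 hu2).2
      exact ((h5.mul_right h4.inv_right).zpow_right k).eq
    refine (relIndex_le_of_le_left h3 ?_).trans ((relIndex_inf_le).trans ?_)
    · exact index_ne_zero_of_finite (H := ((U ⊓ centralizer ({a} : Set X)) ⊓ (U ⊓ centralizer ({b} : Set X))).subgroupOf U)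
    · calc _ ≤ 2 * 2 := Nat.mul_le_mul h1 h2
        _ = 4 := rfl
  have hNt : ∀ g : X, g ∈ normalizer (U : Set X) := fun g => by rw [normalizer_eq_top]; trivial
  have hcube := H52.ThompNPC3.cube_centralizes hUC hUp (hNt y') hyodd hidx
  have hsq : ∀ c d : X, Tv U c d → c ^ 2 ∈ centralizer (U : Set X) := by
    intro c d hcd
    rw [mem_centralizer_iff]
    intro u hu
    obtain ⟨k, hk⟩ := hcd.comm u hu
    have h12 := hcd.pow hk 2
    have h13 : d ^ (k * ((2 : ℕ) : ℤ)) = 1 := by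
      rw [mul_comm, zpow_mul, zpow_natCast, hU d hcd.eU, one_zpow]
    rw [h13, one_mul, conj_eq_self_iff] at h12
    exact h12.symm
  have ha2 := hsq a e ha
  have hb2 := hsq b f hb
  set C := centralizer (U : Set X) with hCdef
  have hCn : C.Normal := inferInstance
  set π := QuotientGroup.mk' C with hπ
  have hker' : ∀ x, π x = 1 ↔ x ∈ C := fun x => by rw [← MonoidHom.mem_ker, QuotientGroup.ker_mk']
  have hinv : π a * π y * (π a)⁻¹ = (π y)⁻¹ := by
    have h1 : π a * π a = 1 := by rw [← pow_two, ← map_pow]; exact (hker' _).2 ha2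
    have h2 : π b * π b = 1 := by rw [← pow_two, ← map_pow]; exact (hker' _).2 hb2
    have h1' : (π a)⁻¹ = π a := inv_eq_of_mul_eq_one_left h1
    have h2' : (π b)⁻¹ = π b := inv_eq_of_mul_eq_one_left h2
    rw [hydef, map_mul, map_inv, mul_inv_rev, inv_inv, h2']
    calc π a * (π b * (π a)⁻¹) * (π a)⁻¹ = π a * π b * ((π a)⁻¹ * (π a)⁻¹) := by group
      _ = π a * π b * (π a * π a) := by rw [h1']
      _ = π a * π b := by rw [h1, mul_one]
  have hinv' : π a * π y' * (π a)⁻¹ = (π y')⁻¹ := by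
    rw [hy'def, map_zpow, ← conj_zpow, hinv, inv_zpow]
  apply H51.S4Section3.backward hUp
  set N := normalizer (U : Set X) with hN'
  have hmk : ∀ (g : X) (hg : g ∈ N), g ∈ C →
      ((⟨g, hg⟩ : N) : N ⧸ (centralizer (U : Set X)).subgroupOf N) = 1 := by
    intro g hg hgc
    rw [QuotientGroup.eq_one_iff]; exact hgc
  refine H52.ThompNPC3.involves_S3 (s := ((⟨a, hNt a⟩ : N) : N ⧸ (centralizer (U : Set X)).subgroupOf N))
    (r := ((⟨y', hNt y'⟩ : N) : N ⧸ (centralizer (U : Set X)).subgroupOf N)) ?_ ?_ ?_ ?_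
  · have h1 := hmk (a ^ 2) (hNt _) ha2
    rw [← QuotientGroup.mk_mul]
    have h2 : (⟨a, hNt a⟩ : N) * ⟨a, hNt a⟩ = ⟨a ^ 2, hNt _⟩ := Subtype.ext (pow_two a).symm
    rw [h2]; exact h1
  · have h1 := hmk (y' ^ 3) (hNt _) hcube
    rw [← QuotientGroup.mk_pow]
    exact h1
  · intro h1
    rw [QuotientGroup.eq_one_iff] at h1
    exact hy'U (hC h1)
  · have h4 : a * y' * a⁻¹ * y' ∈ C := by
      rw [← hker', map_mul, map_mul, map_mul, map_inv, hinv', inv_mul_cancel]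
    have h1 := hmk (a * y' * a⁻¹ * y') (hNt _) h4
    rw [eq_inv_iff_mul_eq_one, ← QuotientGroup.mk_inv, ← QuotientGroup.mk_mul, ← QuotientGroup.mk_mul,
      ← QuotientGroup.mk_mul]
    exact h1

end H52.CycNorm
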