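import Cfsg.Agent.Lib.H52.CycNorm
import Cfsg.Agent.Lib.H1.Frat
import Cfsg.Agent.Lib.H37.PSolv

/-!
# Cyclic subgroups normalized by `O_p(G)` in `p`-soluble groups
-/

set_option autoImplicit false

namespace H52.CycNorm2

open Subgroup Cfsg H52.CycNorm
open scoped commutatorElement

variable {G : Type*} [Group G] [Finite G] {p : ℕ} [hp : Fact p.Prime]

theorem mem_pCore (hG : IsPSolvable p G) (hO : pPrimeCore p G = ⊥) {a : G} (ha : ∃ k, a ^ p ^ k = 1)
    (haN : ∀ h ∈ pCore p G, a * h * a⁻¹ * h⁻¹ ∈ zpowers a)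
    (hfree : p ≠ 2 ∨ ¬ Involves (Equiv.Perm (Fin 4)) G) : a ∈ pCore p G := by
  have hC := H37.PSolv.centralizer_pCore_le hG hO
  have hHn : (pCore p G).Normal := H1.Cores.pCore_normal p
  have hHp : IsPGroup p (pCore p G) := H1.Cores.isPGroup_pCore p
  have hpQ : pCore p (G ⧸ pCore p G) = ⊥ := H1.Cores.pCore_quotient_pCore (G := G) p
  set H := pCore p G with hH
  by_contra haH
  set π := QuotientGroup.mk' H with hπ
  have hπs : Function.Surjective π := QuotientGroup.mk'_surjective H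
  have hker' : ∀ x, π x = 1 ↔ x ∈ H := fun x => by rw [← MonoidHom.mem_ker, QuotientGroup.ker_mk']
  have hRc := H66.PRed.centralizer_pPrimeCore_le (H37.PSolv.quotient hG H) hpQ
  have hRcop : (Nat.card (pPrimeCore p (G ⧸ H))).Coprime p := H1.Cores.coprime_card_pPrimeCore p
  set R := pPrimeCore p (G ⧸ H) with hR
  have hRn : R.Normal := H1.Cores.pPrimeCore_normal p
  -- an element of `R` not commuting with `a` modulo `H`
  have hex : ∃ x, π x ∈ R ∧ x * a * x⁻¹ * a⁻¹ ∉ H := by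
    by_contra hcon
    push Not at hcon
    have h1 : π a ∈ R := by
      apply hRc
      rw [mem_centralizer_iff]
      intro r hr
      obtain ⟨x, rfl⟩ := hπs r
      have h2 := (hker' _).2 (hcon x hr)
      rw [map_mul, map_mul, map_mul, map_inv, map_inv, mul_inv_eq_one] at h2
      calc π x * π a = (π x * π a * (π x)⁻¹) * π x := by group
        _ = π a * π x := by rw [h2]
    apply haH
    rw [← hker']
    obtain ⟨k, hk⟩ := ha
    have h3 : orderOf (π a) ∣ p ^ k := orderOf_dvd_of_pow_eq_one (by rw [← map_pow, hk, map_one])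
    have h4 : orderOf (π a) ∣ Nat.card R := by
      have := orderOf_dvd_natCard (⟨π a, h1⟩ : R)
      rwa [orderOf_mk] at this
    have h5 : orderOf (π a) ∣ 1 := by
      rw [← Nat.Coprime.gcd_eq_one (hRcop.pow_right k)]
      exact Nat.dvd_gcd h4 h3
    exact orderOf_eq_one_iff.1 (Nat.dvd_one.1 h5)
  obtain ⟨x, hxR, hxH⟩ := hex
  set y := x * a * x⁻¹ * a⁻¹ with hy
  have hyR : π y ∈ R := by
    have h1 : y = x * (a * x⁻¹ * a⁻¹) := by rw [hy]; group
    rw [h1, map_mul, map_mul, map_mul, map_inv, map_inv]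
    exact mul_mem hxR (hRn.conj_mem _ (inv_mem hxR) _)
  set m := Nat.card R with hm
  have hmp : ¬ p ∣ m := fun hd => by
    have := Nat.Coprime.eq_one_of_dvd hRcop.symm hd
    exact hp.out.one_lt.ne' this
  have hym : y ^ m ∈ H := by
    rw [← hker', map_pow]
    exact congrArg Subtype.val (pow_card_eq_one' (x := (⟨π y, hyR⟩ : R)))
  -- the Frattini quotient
  set Φ := (frattini H).map H.subtype with hΦ
  have hΦn : Φ.Normal := inferInstance
  have hΦH : Φ ≤ H := map_subtype_le _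
  set π₂ := QuotientGroup.mk' Φ with hπ₂
  have hπ₂s : Function.Surjective π₂ := QuotientGroup.mk'_surjective Φ
  have hker₂ : ∀ x, π₂ x = 1 ↔ x ∈ Φ := fun x => by rw [← MonoidHom.mem_ker, QuotientGroup.ker_mk']
  set U := H.map π₂ with hU
  have hUn : U.Normal := hHn.map _ hπ₂s
  have hmemU : ∀ g, π₂ g ∈ U ↔ g ∈ H := by
    intro g
    constructor
    · rintro ⟨h, hh, hhg⟩
      have h1 : h⁻¹ * g ∈ Φ := by rw [← hker₂, map_mul, map_inv, hhg, inv_mul_cancel]
      have h2 : g = h * (h⁻¹ * g) := by group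
      rw [h2]; exact mul_mem hh (hΦH h1)
    · intro hg; exact mem_map_of_mem _ hg
  have hUe : ∀ u ∈ U, u ^ p = 1 := by
    rintro _ ⟨h, hh, rfl⟩
    rw [← map_pow, hker₂]
    exact ⟨⟨h, hh⟩ ^ p, H1.Frat.pow_mem_frattini hHp _, rfl⟩
  have hUc : ∀ u ∈ U, ∀ v ∈ U, u * v = v * u := by
    rintro _ ⟨h, hh, rfl⟩ _ ⟨k, hk, rfl⟩
    rw [← commutatorElement_eq_one_iff_mul_comm, ← map_commutatorElement, hker₂]
    have : Group.IsNilpotent H := hHp.isNilpotent
    exact ⟨⁅⟨h, hh⟩, ⟨k, hk⟩⁆, H1.Frat.commutator_le_frattini (commutator_mem_commutator (mem_top _) (mem_top _)), rfl⟩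
  have hUC : centralizer (U : Set (G ⧸ Φ)) ≤ U := by
    set D := (centralizer (U : Set (G ⧸ Φ))).comap π₂ with hD
    have hDn : D.Normal := inferInstance
    have hDH : D ≤ H := by
      refine H1.Cores.le_pCore hDn ?_
      apply H52.ThompNPC2.isPGroup_of_coprime_eq_one
      intro z hz hzo
      have h1 : zpowers z ≤ centralizer (H : Set G) := by
        apply H1.Coprime2.le_centralizer_of_frattini
        · rw [Nat.card_zpowers]
          obtain ⟨k, hk⟩ := (hHp.to_subgroup (frattini H)).exists_card_eq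
          rw [hk]; exact hzo.pow_right k
        · intro w hw k hk
          have h2 : w ∈ D := (zpowers_le.2 hz) hw
          show w * k * w⁻¹ * k⁻¹ ∈ Φ
          rw [← hker₂]
          have h3 := mem_centralizer_iff.1 h2 (π₂ k) (mem_map_of_mem _ hk)
          rw [map_mul, map_mul, map_mul, map_inv, map_inv, ← h3]; group
      exact H38.PPrime.eq_one_of_coprime_of_isPGroup hHp (hC (h1 (mem_zpowers z))) hzo
    intro g hg
    obtain ⟨g, rfl⟩ := hπ₂s g
    rw [hmemU]
    exact hDH hg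
  have haU : π₂ a ∉ U := fun h => haH ((hmemU a).1 h)
  have hzp : ∀ g, g ∈ zpowers a → π₂ g ∈ zpowers (π₂ a) := by
    rintro _ ⟨k, rfl⟩
    exact ⟨k, by simp⟩
  have haN' : ∀ u ∈ U, π₂ a * u * (π₂ a)⁻¹ * u⁻¹ ∈ zpowers (π₂ a) := by
    rintro _ ⟨h, hh, rfl⟩
    have := hzp _ (haN h hh)
    rwa [map_mul, map_mul, map_mul, map_inv, map_inv] at this
  have hy2 : π₂ y = π₂ x * π₂ a * (π₂ x)⁻¹ * (π₂ a)⁻¹ := by
    rw [hy, map_mul, map_mul, map_mul, map_inv, map_inv]
  have hym' : (π₂ x * π₂ a * (π₂ x)⁻¹ * (π₂ a)⁻¹) ^ m ∈ U := by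
    rw [← hy2, ← map_pow, hmemU]; exact hym
  have hyU' : π₂ x * π₂ a * (π₂ x)⁻¹ * (π₂ a)⁻¹ ∉ U := by
    rw [← hy2, hmemU]; exact hxH
  by_cases hp2 : p = 2
  · subst hp2
    refine (hfree.resolve_left (fun h => h rfl)) ?_
    exact H51.Involves.involves_of_hom π₂ hπ₂s (involves_of_two hUe hUc hUC haU haN' hmp hym' hyU')
  · exact false_of_odd hp2 hUe hUc hUC haU haN' hmp hym' hyU'

end H52.CycNorm2
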