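import Cfsg.Agent.Lib.H52.EG3

/-!
# From the offender bound (S2752) to strong subgroups
-/

set_option autoImplicit false
set_option linter.unusedVariables false
set_option linter.unusedSectionVars false
set_option linter.style.haveILetI false

namespace H52.EGr

open Subgroup Cfsg H14.GF H14.MaxIn H38.Basic H52.CSS
open scoped commutatorElement

universe u

/-- the statement of S2752 -/
def BStmt : Prop :=
  ∀ {L : Type u} [Group L] [Finite L] (M G : Subgroup L), IsElementaryAbelian 2 M →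
    G ≤ Subgroup.normalizer (M : Set L) → G ⊓ Subgroup.centralizer (M : Set L) = ⊥ → pCore 2 ↥G = ⊥ →
    ¬ Involves (Equiv.Perm (Fin 3)) ↥G → IsCompositionKGroupWith IsSuzukiOrPSL2OddPowerThree ↥G →
    ∀ A : Subgroup L, A ≤ G → IsElementaryAbelian 2 A →
      Nat.card A ^ 2 * Nat.card ↥(M ⊓ Subgroup.centralizer (A : Set L)) ≤ Nat.card M ∧
        Nat.card A ^ 2 ≤ Nat.card ↥⁅M, A⁆

section

variable {G : Type u} [Group G] [Finite G] (V : Subgroup G) [hVn : V.Normal]

/-- the semidirect product -/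
abbrev LL := SemidirectProduct ↥V ↥(HH V) (HH V).subtype

instance : Finite (LL V) := Finite.of_equiv _ SemidirectProduct.equivProd.symm

abbrev MM : Subgroup (LL V) := (SemidirectProduct.inl : ↥V →* LL V).range
abbrev GG : Subgroup (LL V) := (SemidirectProduct.inr : ↥(HH V) →* LL V).range

theorem inl_conj (g : G) (v : V) : (SemidirectProduct.inr (ph V g) : LL V) * SemidirectProduct.inl v *
    (SemidirectProduct.inr (ph V g))⁻¹ = SemidirectProduct.inl ⟨g * v * g⁻¹, hVn.conj_mem v v.2 g⟩ := by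
  rw [← map_inv, ← SemidirectProduct.inl_aut]
  rfl

theorem inl_inj : Function.Injective (SemidirectProduct.inl : ↥V →* LL V) := SemidirectProduct.inl_injective
theorem inr_inj : Function.Injective (SemidirectProduct.inr : ↥(HH V) →* LL V) := SemidirectProduct.inr_injective

theorem commute_iff (g : G) (v : V) : (SemidirectProduct.inr (ph V g) : LL V) * SemidirectProduct.inl v =
    SemidirectProduct.inl v * (SemidirectProduct.inr (ph V g)) ↔ g * v = v * g := by
  rw [← mul_inv_eq_iff_eq_mul, inl_conj]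
  constructor
  · intro h
    have h1 := congrArg Subtype.val (inl_inj V h)
    exact mul_inv_eq_iff_eq_mul.1 h1
  · intro h
    congr 1
    apply Subtype.ext
    exact mul_inv_eq_iff_eq_mul.2 h

theorem strong_of (hB : BStmt.{u}) (hVE : EL V)
    (hO : ∀ N : Subgroup G, N.Normal → centralizer (V : Set G) ≤ N → ∀ (D : Subgroup G) (hD : D.Normal),
      D = centralizer (V : Set G) → IsPGroup 2 (N.map (QuotientGroup.mk' D)) → N ≤ centralizer (V : Set G))
    (hfree : ¬ Involves (Equiv.Perm (Fin 4)) G) (hc : IsCompositionKGroupWith IsSuzukiOrPSL2OddPowerThree G)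
    {S : Subgroup G} (hVS : V ≤ S) : Strong S V := by
  classical
  have h2p : Fact (Nat.Prime 2) := ⟨Nat.prime_two⟩
  have hker := ph_ker V hVE.1
  have hsurj := ph_surj V
  have hVp : IsPGroup 2 V := by
    rintro ⟨v, hv⟩
    refine ⟨1, Subtype.ext ?_⟩
    show v ^ 2 ^ 1 = 1
    rw [pow_one, pow_two]; exact hVE.2 v hv
  refine ⟨hVS, le_normalizer_of_normal, hVE.1, hVE.2, ?_⟩
  intro R hRS hRc hRs hRn
  -- the hypotheses of S2752
  have e1 : ↥(HH V) ≃* ↥(GG V) := MonoidHom.ofInjective (inr_inj V)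
  let e2 : (G ⧸ centralizer (V : Set G)) ≃* ↥(HH V) :=
    (QuotientGroup.quotientMulEquivOfEq hker.symm).trans (QuotientGroup.quotientKerEquivOfSurjective (ph V) hsurj)
  have hM : IsElementaryAbelian 2 (MM V) := by
    refine ⟨⟨⟨?_⟩⟩, ?_⟩
    · rintro ⟨_, a, rfl⟩ ⟨_, b, rfl⟩
      apply Subtype.ext
      show (SemidirectProduct.inl a : LL V) * SemidirectProduct.inl b = SemidirectProduct.inl b * SemidirectProduct.inl a
      rw [← map_mul, ← map_mul]
      congr 1
      exact Subtype.ext (hVE.1 _ a.2 _ b.2)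
    · rintro _ ⟨a, rfl⟩
      rw [pow_two, ← map_mul]
      have : a * a = 1 := Subtype.ext (hVE.2 _ a.2)
      rw [this, map_one]
  have hGM : GG V ≤ normalizer (MM V : Set (LL V)) := by
    rintro _ ⟨h, rfl⟩
    obtain ⟨g, rfl⟩ := hsurj h
    have key : ∀ g : G, ∀ x ∈ MM V, (SemidirectProduct.inr (ph V g) : LL V) * x * (SemidirectProduct.inr (ph V g))⁻¹ ∈ MM V := by
      rintro g _ ⟨v, rfl⟩
      rw [inl_conj]; exact ⟨_, rfl⟩
    rw [mem_normalizer_iff]
    intro x
    refine ⟨key g x, fun hx => ?_⟩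
    have h1 := key g⁻¹ _ hx
    rw [map_inv, map_inv] at h1
    have e : ((SemidirectProduct.inr (ph V g))⁻¹ : LL V) * (SemidirectProduct.inr (ph V g) * x * (SemidirectProduct.inr (ph V g))⁻¹) *
      ((SemidirectProduct.inr (ph V g))⁻¹)⁻¹ = x := by group
    rwa [e] at h1
  have hf : GG V ⊓ centralizer (MM V : Set (LL V)) = ⊥ := by
    rw [eq_bot_iff]
    rintro x ⟨⟨h, rfl⟩, h2⟩
    obtain ⟨g, rfl⟩ := hsurj h
    have h3 : g ∈ (ph V).ker := by
      rw [hker, mem_centralizer_iff]
      intro v hv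
      have h4 : (SemidirectProduct.inl (⟨v, hv⟩ : V) : LL V) * SemidirectProduct.inr (ph V g) =
          SemidirectProduct.inr (ph V g) * SemidirectProduct.inl (⟨v, hv⟩ : V) := mem_centralizer_iff.1 h2 _ ⟨_, rfl⟩
      exact ((commute_iff V g ⟨v, hv⟩).1 h4.symm).symm
    rw [MonoidHom.mem_ker.1 h3, map_one]
    exact one_mem _
  have hp0 : pCore 2 ↥(HH V) = ⊥ := by
    have hn : (pCore 2 ↥(HH V)).Normal := H1.Cores.pCore_normal 2
    have hp : IsPGroup 2 (pCore 2 ↥(HH V)) := H1.Cores.isPGroup_pCore 2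
    set N := (pCore 2 ↥(HH V)).comap (ph V) with hN
    have hCN : centralizer (V : Set G) ≤ N := by rw [← hker]; exact ker_le_comap _ _
    have h1 : N ≤ centralizer (V : Set G) := by
      refine hO N (hn.comap _) hCN _ inferInstance rfl ?_
      have h2 : IsPGroup 2 (((N.map (QuotientGroup.mk' (centralizer (V : Set G)))).map e2.toMonoidHom)) := by
        refine hp.to_le ?_
        rintro _ ⟨_, ⟨x, hx, rfl⟩, rfl⟩
        exact hx
      exact h2.of_equiv (Subgroup.equivMapOfInjective _ e2.toMonoidHom e2.injective).symm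
    rw [← map_comap_eq_self_of_surjective hsurj (pCore 2 ↥(HH V))]
    exact (Subgroup.map_eq_bot_iff _).2 (h1.trans hker.ge)
  have ha : pCore 2 ↥(GG V) = ⊥ := by
    rw [← H1.Cores.map_equiv_pCore 2 e1, hp0, Subgroup.map_bot]
  have hb : ¬ Involves (Equiv.Perm (Fin 3)) ↥(GG V) := by
    intro h
    apply hfree
    refine H51.S4Section3.backward hVp (H51.Transvection.involves_S3_transfer ?_)
    exact H51.Involves.involves_trans h (H51.Involves.involves_of_equiv (e1.symm.trans e2.symm))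
  have hcc : IsCompositionKGroupWith IsSuzukiOrPSL2OddPowerThree ↥(GG V) :=
    comp_of_surj inv_TT (e1.toMonoidHom.comp (ph V)) (e1.surjective.comp hsurj) hc
  -- the subgroup `A`
  set A0 := R.map (ph V) with hA0
  set A := A0.map (SemidirectProduct.inr : ↥(HH V) →* LL V) with hA
  have hAG : A ≤ GG V := map_le_range _ _
  have hAe : IsElementaryAbelian 2 A := by
    refine ⟨⟨⟨?_⟩⟩, ?_⟩
    · rintro ⟨_, _, ⟨a, ha, rfl⟩, rfl⟩ ⟨_, _, ⟨b, hb, rfl⟩, rfl⟩
      apply Subtype.ext
      show (SemidirectProduct.inr (ph V a) : LL V) * SemidirectProduct.inr (ph V b) =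
        SemidirectProduct.inr (ph V b) * SemidirectProduct.inr (ph V a)
      rw [← map_mul, ← map_mul, ← map_mul, ← map_mul]
      congr 1
      have h1 : a * b * a⁻¹ * b⁻¹ ∈ (ph V).ker := by rw [hker]; exact hRc a ha b hb
      have h2 : a * b = (a * b * a⁻¹ * b⁻¹) * (b * a) := by group
      rw [h2, map_mul, MonoidHom.mem_ker.1 h1, one_mul]
    · rintro _ ⟨_, ⟨a, ha, rfl⟩, rfl⟩
      rw [pow_two, ← map_mul, ← map_mul]
      have h1 : a * a ∈ (ph V).ker := by rw [hker]; exact hRs a ha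
      rw [MonoidHom.mem_ker.1 h1, map_one]
  obtain ⟨g1, g2⟩ := hB (MM V) (GG V) hM hGM hf ha hb hcc A hAG hAe
  have hcA : Nat.card A = io R V := by
    rw [hA, card_map_of_injective (inr_inj V)]
    have h1 := H1.Hall.card_map_mul_card_inf_ker (ph V) R
    rw [hker] at h1
    have h2 := card_io R V
    rw [← h1, mul_comm] at h2
    exact (Nat.eq_of_mul_eq_mul_right Nat.card_pos h2).symm
  have hcM : Nat.card (MM V) = Nat.card V :=
    (Nat.card_congr (MonoidHom.ofInjective (inl_inj V)).toEquiv).symm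
  have hc1 : Nat.card ↥(V ⊓ centralizer (R : Set G)) ≤ Nat.card ↥(MM V ⊓ centralizer (A : Set (LL V))) := by
    have h1 : ((V ⊓ centralizer (R : Set G)).subgroupOf V).map (SemidirectProduct.inl : ↥V →* LL V) ≤
        MM V ⊓ centralizer (A : Set (LL V)) := by
      rintro _ ⟨v, hv, rfl⟩
      refine ⟨⟨v, rfl⟩, ?_⟩
      show SemidirectProduct.inl v ∈ centralizer _
      rw [mem_centralizer_iff]
      rintro _ ⟨_, ⟨r, hr, rfl⟩, rfl⟩
      rw [commute_iff]
      exact mem_centralizer_iff.1 (mem_inf.1 (mem_subgroupOf.1 hv)).2 r hr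
    have h2 := Nat.card_mono (Set.toFinite _) h1
    rw [SetLike.coe_sort_coe, SetLike.coe_sort_coe, card_map_of_injective (inl_inj V),
      Nat.card_congr (Subgroup.subgroupOfEquivOfLe inf_le_left).toEquiv] at h2
    exact h2
  have hc2 : Nat.card ↥⁅MM V, A⁆ ≤ Nat.card ↥⁅V, R⁆ := by
    have hle : ⁅V, R⁆ ≤ V := commutator_le_left _ _
    have h1 : ⁅MM V, A⁆ ≤ ((⁅V, R⁆).subgroupOf V).map (SemidirectProduct.inl : ↥V →* LL V) := by
      rw [commutator_le]
      rintro _ ⟨v, rfl⟩ _ ⟨_, ⟨r, hr, rfl⟩, rfl⟩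
      refine ⟨⟨⁅(v : G), r⁆, hle (commutator_mem_commutator v.2 hr)⟩, commutator_mem_commutator v.2 hr, ?_⟩
      have h3 : (SemidirectProduct.inl v : LL V) * SemidirectProduct.inr (ph V r) * (SemidirectProduct.inl v)⁻¹ *
          (SemidirectProduct.inr (ph V r))⁻¹ = SemidirectProduct.inl v * (SemidirectProduct.inr (ph V r) *
            SemidirectProduct.inl v⁻¹ * (SemidirectProduct.inr (ph V r))⁻¹) := by
        rw [map_inv]; group
      refine Eq.trans ?_ h3.symm
      rw [inl_conj, ← map_mul]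
      congr 1
      apply Subtype.ext
      show ⁅(v : G), r⁆ = v * (r * (v : G)⁻¹ * r⁻¹)
      rw [commutatorElement_def]; group
    have h2 := Nat.card_mono (Set.toFinite _) h1
    rw [SetLike.coe_sort_coe, SetLike.coe_sort_coe, card_map_of_injective (inl_inj V),
      Nat.card_congr (Subgroup.subgroupOfEquivOfLe hle).toEquiv] at h2
    exact h2
  rw [hcA] at g1 g2
  rw [hcM] at g1
  have h3 := card_io V R
  have hr2 : 2 ≤ io R V := by
    by_contra hlt
    have h4 := io_pos R V
    have h5 : io R V = 1 := by omega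
    apply hRn
    exact relIndex_eq_one.1 h5
  set r := io R V with hr
  set v := io V R with hv
  have p1 : 0 < Nat.card ↥(V ⊓ centralizer (R : Set G)) := Nat.card_pos
  have h6 : r ^ 2 ≤ v := by
    have h7 : r ^ 2 * Nat.card ↥(V ⊓ centralizer (R : Set G)) ≤ Nat.card ↥(V ⊓ centralizer (R : Set G)) * v := by
      rw [h3]
      exact (Nat.mul_le_mul_left _ hc1).trans g1
    rw [mul_comm] at h7
    exact Nat.le_of_mul_le_mul_left h7 p1
  constructor
  · calc r ^ 3 < r ^ 4 := Nat.pow_lt_pow_right (by omega) (by norm_num)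
      _ = (r ^ 2) ^ 2 := by ring
      _ ≤ v ^ 2 := Nat.pow_le_pow_left h6 2
  · calc r < r ^ 2 := by nlinarith
      _ ≤ Nat.card ↥⁅MM V, A⁆ := g2
      _ ≤ _ := hc2

end

end H52.EGr
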