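import Cfsg.Agent.Lib.H52.Sub

set_option autoImplicit false
set_option linter.unusedSectionVars false
set_option linter.unusedVariables false

/-! `p`-closed, `p`-irreducible, `Y`-minimal groups. -/

namespace H52.Irr

open Subgroup Cfsg H52.PCore H52.PRes H52.Cop H52.Syl H52.Red H52.YL H52.YL2 H52.Sub
open scoped commutatorElement

variable {G : Type*} [Group G] [Finite G] {p : ℕ} [Fact p.Prime]

/-! ### p-closed -/

theorem isPClosed_iff_group : IsPClosed p G ↔ ∀ Q : Subgroup G, IsPGroup p Q → Q ≤ pCore p G := by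
  constructor
  · intro h Q hQ
    obtain ⟨P, hP⟩ := hQ.exists_le_sylow
    exact hP.trans (le_pCore (h P) P.isPGroup')
  · intro h P
    have : (P : Subgroup G) = pCore p G := le_antisymm (h P P.isPGroup') (pCore_le_sylow P)
    rw [this]; infer_instance

theorem isPClosed_iff {K : Subgroup G} :
    IsPClosed p K ↔ ∀ Q : Subgroup G, Q ≤ K → IsPGroup p Q → Q ≤ pCoreOf p K := by
  rw [isPClosed_iff_group]
  constructor
  · intro h Q hQ hp
    have := map_mono (f := K.subtype) (h (Q.subgroupOf K) hp.comap_subtype)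
    rwa [map_subgroupOf_eq_of_le hQ] at this
  · intro h Q hQ
    have h1 := h (Q.map K.subtype) (map_subtype_le _) (hQ.map _)
    exact (map_le_map_iff_of_injective K.subtype_injective).1 h1

theorem isPClosed_iff_of_subnormal {N : Subgroup G} (hN : N.IsSubnormal) :
    IsPClosed p N ↔ ∀ Q : Subgroup G, Q ≤ N → IsPGroup p Q → Q ≤ pCore p G := by
  rw [isPClosed_iff, pCoreOf_eq_inf_of_subnormal hN]
  constructor
  · intro h Q hQ hp
    exact (h Q hQ hp).trans inf_le_right
  · intro h Q hQ hp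
    exact le_inf hQ (h Q hQ hp)

theorem isPClosed_iff_sylow {N T : Subgroup G} (hN : N.IsSubnormal) (hT : SylIn p T ⊤) :
    IsPClosed p N ↔ T ⊓ N ≤ pCore p G := by
  rw [isPClosed_iff_of_subnormal hN]
  constructor
  · intro h
    exact h _ inf_le_right (hT.isPGroup.to_le inf_le_left)
  · intro h Q hQ hp
    obtain ⟨n, hn, hQn⟩ := (hT.inf_subnormal hN).exists_conj_le hQ hp
    refine hQn.trans ((cj_mono h).trans ?_)
    rw [cj_normal (inferInstance : (pCore p G).Normal)]

theorem isPClosed_top_iff : IsPClosed p (⊤ : Subgroup G) ↔ IsPClosed p G := by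
  rw [isPClosed_iff_of_subnormal IsSubnormal.top, isPClosed_iff_group]
  exact ⟨fun h Q hQ => h Q le_top hQ, fun h Q _ hQ => h Q hQ⟩

theorem isPClosed_of_subnormal {K N : Subgroup G} (hK : IsPClosed p K) (hN : N ≤ K) :
    IsPClosed p N := by
  rw [isPClosed_iff] at hK ⊢
  intro Q hQ hp
  have h1 : Q ≤ N ⊓ pCoreOf p K := le_inf hQ (hK Q (hQ.trans hN) hp)
  refine h1.trans (le_pCoreOf inf_le_left ?_ ((isPGroup_pCoreOf K).to_le inf_le_right))
  exact (le_inf le_normalizer (hN.trans (le_normalizer_pCoreOf K))).trans normalizer_inf_le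

/-! ### quotients by normal `p`-subgroups -/

section quot
variable {D : Subgroup G} [D.Normal]

theorem isPGroup_comap (hD : IsPGroup p D) {Q : Subgroup (G ⧸ D)} (hQ : IsPGroup p Q) :
    IsPGroup p (Q.comap (QuotientGroup.mk' D)) := by
  apply hQ.comap_of_ker_isPGroup
  rwa [QuotientGroup.ker_mk']

theorem comap_pCore (hD : IsPGroup p D) :
    (pCore p (G ⧸ D)).comap (QuotientGroup.mk' D) = pCore p G := by
  apply le_antisymm
  · apply le_pCore inferInstance
    exact isPGroup_comap hD isPGroup_pCore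
  · rw [← map_le_iff_le_comap]
    exact le_pCore (Normal.map inferInstance _ (QuotientGroup.mk'_surjective D)) (isPGroup_pCore.map _)

theorem map_pCore' (hD : IsPGroup p D) :
    (pCore p G).map (QuotientGroup.mk' D) = pCore p (G ⧸ D) := by
  rw [← comap_pCore hD, map_comap_eq_self_of_surjective (QuotientGroup.mk'_surjective D)]

theorem map_le_pCore_iff (hD : IsPGroup p D) {Q : Subgroup G} :
    Q.map (QuotientGroup.mk' D) ≤ pCore p (G ⧸ D) ↔ Q ≤ pCore p G := by
  rw [map_le_iff_le_comap, comap_pCore hD]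

theorem isPClosed_map_iff (hD : IsPGroup p D) {N : Subgroup G} (hN : N.Normal) :
    IsPClosed p (N.map (QuotientGroup.mk' D)) ↔ IsPClosed p N := by
  have hN' : (N.map (QuotientGroup.mk' D)).Normal := hN.map _ (QuotientGroup.mk'_surjective D)
  rw [isPClosed_iff_of_subnormal hN'.isSubnormal, isPClosed_iff_of_subnormal hN.isSubnormal]
  constructor
  · intro h Q hQ hp
    exact (map_le_pCore_iff hD).1 (h _ (map_mono hQ) (hp.map _))
  · intro h Q hQ hp
    have h1 := h (N ⊓ Q.comap (QuotientGroup.mk' D)) inf_le_left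
      ((isPGroup_comap hD hp).to_le inf_le_right)
    have h2 : Q ≤ (N ⊓ Q.comap (QuotientGroup.mk' D)).map (QuotientGroup.mk' D) := by
      intro x hx
      obtain ⟨y, hy, rfl⟩ := hQ hx
      exact ⟨y, ⟨hy, hx⟩, rfl⟩
    exact h2.trans ((map_le_pCore_iff hD).2 h1)

theorem isPClosed_comap_iff (hD : IsPGroup p D) {N : Subgroup (G ⧸ D)} (hN : N.Normal) :
    IsPClosed p (N.comap (QuotientGroup.mk' D)) ↔ IsPClosed p N := by
  rw [← isPClosed_map_iff hD (hN.comap _),
    map_comap_eq_self_of_surjective (QuotientGroup.mk'_surjective D)]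

theorem isPClosed_quotient_iff (hD : IsPGroup p D) : IsPClosed p (G ⧸ D) ↔ IsPClosed p G := by
  rw [← isPClosed_top_iff, ← isPClosed_comap_iff hD (inferInstance), comap_top, isPClosed_top_iff]

end quot

/-! ### p-irreducible groups -/

theorem resOf_le_of_le_sup {N D : Subgroup G} (hN : N.Normal) (hD : IsPGroup p D)
    (h : pResidual p G ≤ N ⊔ D) : pResidual p G ≤ N := by
  have h1 : PMod p (N ⊔ D) N := by
    rw [sup_comm]
    exact pMod_of_sup hD (le_top.trans (normal_iff_top_le_normalizer.1 hN))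
  rw [← resOf_top] at h ⊢
  rw [← resOf_resOf]
  exact (resOf_mono h).trans (resOf_le_of_pMod h1)

theorem pResidual_le_normal_of_sup {N : Subgroup G} {P : Subgroup G} (hN : N.Normal)
    (hP : IsPGroup p P) (h : N ⊔ P = ⊤) : pResidual p G ≤ N :=
  resOf_le_of_le_sup hN hP (h ▸ le_top)

/-! ### `Y`-minimal groups -/

section minimal
variable {Y M : Subgroup G}

theorem le_of_minimal (h : IsMinimalOver Y) (hM : IsCoatom M) (hYM : Y ≤ M) {X : Subgroup G}
    (hYX : Y ≤ X) (hX : X ≠ ⊤) : X ≤ M := by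
  obtain ⟨M', hM', huniq⟩ := h.2
  obtain ⟨N, hN, hXN⟩ := (eq_top_or_exists_le_coatom X).resolve_left hX
  have h1 : N = M' := huniq N ⟨hN, hYX.trans hXN⟩
  have h2 : M = M' := huniq M ⟨hM, hYM⟩
  rw [h2, ← h1]; exact hXN

theorem exists_coatom_of_minimal (h : IsMinimalOver Y) : ∃ M, IsCoatom M ∧ Y ≤ M :=
  ⟨_, h.2.choose_spec.1⟩

theorem eq_top_of_normal_of_minimal (h : IsMinimalOver Y) {N : Subgroup G} (hN : N.Normal)
    (hYN : Y ≤ N) : N = ⊤ := by
  rw [eq_top_iff, ← h.1]
  exact normalClosure_le_normal hYN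

theorem normalizer_eq_of_minimal (h : IsMinimalOver Y) (hM : IsCoatom M) (hYM : Y ≤ M) :
    normalizer (M : Set G) = M := by
  by_contra hne
  have h1 : normalizer (M : Set G) = ⊤ := hM.2 _ (lt_of_le_of_ne le_normalizer (Ne.symm hne))
  exact hM.1 (eq_top_of_normal_of_minimal h (normalizer_eq_top_iff.1 h1) hYM)

theorem isCoatom_cj {M : Subgroup G} (hM : IsCoatom M) (g : G) : IsCoatom (cj g M) := by
  constructor
  · intro h
    apply hM.1
    rw [eq_top_iff, ← cj_le_cj_iff (g := g), h]; exact le_top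
  · intro K hK
    have h1 : M < cj g⁻¹ K := by
      refine lt_of_le_of_ne ?_ ?_
      · rw [← cj_le_cj_iff (g := g), cj_cj_inv]; exact hK.le
      · rintro rfl
        rw [cj_cj_inv] at hK
        exact lt_irrefl _ hK
    have h2 := hM.2 _ h1
    rw [eq_top_iff, ← cj_le_cj_iff (g := g⁻¹), h2]; exact le_top

theorem eq_cj_of_minimal (h : IsMinimalOver Y) (hM : IsCoatom M) (hYM : Y ≤ M) {g : G}
    (hg : Y ≤ cj g M) : cj g M = M := by
  obtain ⟨M', _, huniq⟩ := h.2
  rw [huniq _ ⟨isCoatom_cj hM g, hg⟩, huniq _ ⟨hM, hYM⟩]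

theorem sup_cj_eq_top_of_minimal (h : IsMinimalOver Y) (hM : IsCoatom M) (hYM : Y ≤ M) {g : G}
    (hg : g ∉ M) : Y ⊔ cj g Y = ⊤ := by
  by_contra hne
  have h1 := le_of_minimal h hM hYM le_sup_left hne
  have h2 : cj g Y ≤ M := le_sup_right.trans h1
  have h3 : cj g⁻¹ M = M := by
    apply eq_cj_of_minimal h hM hYM
    rwa [← cj_le_iff]
  apply hg
  have h4 := mem_normalizer_of_cj_eq h3
  rw [normalizer_eq_of_minimal h hM hYM] at h4
  simpa using h4

end minimal

section pminimal
variable {T : Subgroup G}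

/-- conjugate Sylow subgroups give minimality -/
theorem not_isPClosed_of_minimal (hT : SylIn p T ⊤) (h : IsMinimalOver T) : ¬ IsPClosed p G := by
  intro hc
  obtain ⟨M, hM, hTM⟩ := exists_coatom_of_minimal h
  have h1 : T = pCore p G := by
    apply le_antisymm (isPClosed_iff_group.1 hc T hT.isPGroup)
    rw [← pCoreOf_top]; exact hT.pCoreOf_le
  have h2 : T = ⊤ := eq_top_of_normal_of_minimal h (h1 ▸ inferInstance) le_rfl
  rw [h2] at hTM
  exact hM.1 (top_le_iff.1 hTM)

theorem sup_eq_top_of_not_isPClosed (hT : SylIn p T ⊤) (h : IsMinimalOver T) {N : Subgroup G}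
    (hN : N.Normal) (hc : ¬ IsPClosed p N) : N ⊔ T = ⊤ := by
  obtain ⟨M, hM, hTM⟩ := exists_coatom_of_minimal h
  by_contra hne
  have h1 : N ⊔ T ≤ M := le_of_minimal h hM hTM le_sup_right hne
  have hS := hT.inf_subnormal hN.isSubnormal
  have h2 : normalizer ((T ⊓ N : Subgroup G) : Set G) ≠ ⊤ := by
    intro htop
    apply hc
    rw [isPClosed_iff_sylow hN.isSubnormal hT]
    exact le_pCore (normalizer_eq_top_iff.1 htop) hS.isPGroup
  have hTN : T ≤ normalizer ((T ⊓ N : Subgroup G) : Set G) :=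
    (le_inf le_normalizer (le_top.trans (normal_iff_top_le_normalizer.1 hN))).trans normalizer_inf_le
  have h3 : normalizer ((T ⊓ N : Subgroup G) : Set G) ≤ M := le_of_minimal h hM hTM hTN h2
  apply hM.1
  rw [eq_top_iff]
  intro g hg
  obtain ⟨k, hk, n, hn, rfl⟩ := hS.frattini le_top (normal_iff_top_le_normalizer.1 hN) hg
  exact M.mul_mem (h1 (mem_sup_left hk)) (h3 hn.2)

theorem isPIrreducible_of_minimal (hT : SylIn p T ⊤) (h : IsMinimalOver T) : IsPIrreducible p G :=
  ⟨not_isPClosed_of_minimal hT h, fun _ hN hc =>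
    pResidual_le_normal_of_sup hN hT.isPGroup (sup_eq_top_of_not_isPClosed hT h hN hc)⟩

end pminimal

end H52.Irr
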