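import Cfsg.Agent.Lib.H52.WC
import Cfsg.Agent.Lib.H52.Irr
import Cfsg.Agent.Lib.H52.Trace

set_option autoImplicit false
set_option linter.unusedSectionVars false
set_option linter.unusedVariables false

/-! Existence of members of `𝔐_H` with the basic property. -/

namespace H52.FrakM

open Subgroup Cfsg H52.PCore H52.PRes H52.Cop H52.Syl H52.Red H52.YL H52.YL2 H52.Sub
open scoped commutatorElement

variable {G : Type*} [Group G] {p : ℕ}

theorem mem_charPSubgroups_iff {L : Subgroup G} : L ∈ charPSubgroups p G ↔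
    pCoreOf p L ≠ ⊥ ∧ centralizer (pCoreOf p L : Set G) ≤ pCoreOf p L := by
  change (pCore p ↥L ≠ ⊥ ∧ _) ↔ _
  rw [Ne, Ne, ← pCoreOf_eq_bot_iff]
  exact Iff.rfl

section
variable [Finite G] [Fact p.Prime]

theorem omegaOne_ne_bot {Z : Subgroup G} (hZ : IsPGroup p Z) (h : Z ≠ ⊥) : omegaOne p Z ≠ ⊥ := by
  have hn : Nontrivial Z := (nontrivial_iff_ne_bot Z).2 h
  obtain ⟨n, hn0, hn⟩ := hZ.nontrivial_iff_card.1 hn
  have hdvd : p ∣ Nat.card Z := by rw [hn]; exact dvd_pow_self p (by omega)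
  obtain ⟨x, hx⟩ := exists_prime_orderOf_dvd_card' p hdvd
  intro h0
  have h1 : (x : G) ∈ omegaOne p Z := by
    have h2 : zpowers (x : G) ≤ omegaOne p Z := by
      apply le_omegaOne
      · rw [zpowers_le]; exact x.2
      · rintro _ ⟨k, rfl⟩
        have h3 : (x : G) ^ p = 1 := by
          have := pow_orderOf_eq_one x
          rw [hx] at this
          exact congrArg Subtype.val this
        show ((x : G) ^ k) ^ p = 1
        rw [← zpow_natCast, ← zpow_mul, mul_comm, zpow_mul, zpow_natCast, h3, one_zpow]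
    exact h2 (mem_zpowers _)
  rw [h0, mem_bot] at h1
  have h4 : x = 1 := Subtype.ext h1
  rw [h4, orderOf_one] at hx
  exact (Fact.out : p.Prime).one_lt.ne hx

theorem inf_centralizer_ne_bot {S : Subgroup G} (hS : IsPGroup p S) (h : S ≠ ⊥) :
    S ⊓ centralizer (S : Set G) ≠ ⊥ :=
  H52.Trace.exists_ne_of_pGroup_action hS hS le_normalizer h

variable {S : Subgroup G}

theorem mono_Y {X M : Subgroup G} (hS : SylIn p S M) (hSX : S ≤ X) (hXM : X ≤ M)
    (hM : M ⊓ centralizer (pCoreOf p M : Set G) ≤ pCoreOf p M) :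
    largestPReducedOf p X ≤ largestPReducedOf p M :=
  (le_ncl M _).trans (pRed_ncl hM hS hSX hXM (pRed_largestPReducedOf X)).le_largestPReducedOf

theorem Y_ne_bot {X : Subgroup G} (hS : SylIn p S X) (hS1 : S ≠ ⊥)
    (hX : X ⊓ centralizer (pCoreOf p X : Set G) ≤ pCoreOf p X) : largestPReducedOf p X ≠ ⊥ := by
  intro h0
  have h1 := omega_center_le hX hS
  rw [h0, le_bot_iff] at h1
  exact omegaOne_ne_bot (hS.isPGroup.to_le inf_le_left) (inf_centralizer_ne_bot hS.isPGroup hS1) h1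

/-- dagger subgroup -/
theorem Y_le_pCoreOf_dagger (X : Subgroup G) : largestPReducedOf p X ≤
    pCoreOf p (X ⊔ centralizer (largestPReducedOf p X : Set G)) := by
  have h := pRed_largestPReducedOf (p := p) X
  exact le_pCoreOf (h.le.trans le_sup_left) (sup_le h.norm (Syl.centralizer_le_normalizer _)) h.isPGroup

/-- the index of a supplement -/
theorem sylIn_of_supplement {M C U T : Subgroup G} (hCM : C ≤ M) (hUM : U ≤ M) (hn : M ≤ normalizer (C : Set G))
    (hsup : M ≤ U ⊔ C) (hT : SylIn p T C) (hTU : T ≤ U) {R : Subgroup G} (hR : SylIn p R U) :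
    SylIn p R M := by
  apply sylIn_of_relIndex (hR.le.trans hUM) hR.isPGroup
  have h1 : R.relIndex U * U.relIndex M = R.relIndex M := relIndex_mul_relIndex _ _ _ hR.le hUM
  rw [← h1]
  intro hd
  rcases (Nat.Prime.dvd_mul Fact.out).1 hd with h | h
  · exact hR.relIndex h
  · -- `U.relIndex M = (C ⊓ U).relIndex C`
    have h2 : (C ⊓ U).relIndex U * U.relIndex M = (C ⊓ U).relIndex C * C.relIndex M := by
      rw [relIndex_mul_relIndex _ _ _ inf_le_right hUM, relIndex_mul_relIndex _ _ _ inf_le_left hCM]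
    have h3 : (C ⊓ U).relIndex U = C.relIndex M := by
      rw [inf_relIndex_right]
      have h4 : (C.subgroupOf M).Normal := (normal_subOf_iff hCM).2 hn
      have h5 : C.subgroupOf M ⊔ U.subgroupOf M = ⊤ := by
        rw [eq_top_iff]
        rintro ⟨x, hx⟩ _
        have h6 : x ∈ U ⊔ C := hsup hx
        rw [mem_sup_iff_of_le_normalizer (hUM.trans hn)] at h6
        obtain ⟨u, hu, c, hc, rfl⟩ := h6
        have : (⟨u * c, hx⟩ : M) = ⟨u, hUM hu⟩ * ⟨c, hCM hc⟩ := rfl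
        rw [this]
        exact mul_mem (mem_sup_right (mem_subgroupOf.2 hu)) (mem_sup_left (mem_subgroupOf.2 hc))
      have h7 : (C.subgroupOf M).relIndex (U.subgroupOf M) = (C.subgroupOf M).relIndex ⊤ := by
        rw [← h5, relIndex_sup_left]
      rw [relIndex_top_right] at h7
      rw [← relIndex_subgroupOf hUM] 
      exact h7
    have h4 : 0 < C.relIndex M := Nat.pos_of_ne_zero (C.subgroupOf M).index_ne_zero_of_finite
    have h5 : U.relIndex M = (C ⊓ U).relIndex C := by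
      rw [h3, mul_comm] at h2
      exact Nat.eq_of_mul_eq_mul_right h4 h2
    rw [h5] at h
    apply hT.relIndex
    refine h.trans ?_
    rw [← relIndex_mul_relIndex T (C ⊓ U) C (le_inf hT.le hTU) inf_le_left]
    exact dvd_mul_left _ _

/-- The relation used to choose `M`: some `Ls ≤ M` containing `S` with `Ls C(Y_L) = L C(Y_L)` and `Y_{Ls} = Y_L`. -/
def Rel (p : ℕ) (S L M : Subgroup G) : Prop :=
  ∃ Ls : Subgroup G, S ≤ Ls ∧ Ls ≤ M ∧ pCoreOf p Ls ≠ ⊥ ∧
    L ⊔ centralizer (largestPReducedOf p L : Set G) = Ls ⊔ centralizer (largestPReducedOf p L : Set G) ∧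
    largestPReducedOf p L = largestPReducedOf p Ls

/-- one step: the property passes to supplements -/
theorem rel_of_supplement {T L M₀ M : Subgroup G} (hT : SylIn p T ⊤) (hT1 : T ≠ ⊥)
    (hpar : ∀ R : Subgroup G, T ≤ R → pCoreOf p R ≠ ⊥ → centralizer (pCoreOf p R : Set G) ≤ pCoreOf p R)
    (hTL : T ≤ L) (hL : pCoreOf p L ≠ ⊥) (hTM : T ≤ M) (hM : pCoreOf p M ≠ ⊥) (hMM : M ≤ M₀)
    (hM0 : pCoreOf p M₀ ≠ ⊥)
    (hC : centralizer (largestPReducedOf p M₀ : Set G) ≤ M₀)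
    (hsup : M ⊔ centralizer (largestPReducedOf p M₀ : Set G) = M₀) (hrel : Rel p T L M₀) :
    Rel p T L M := by
  have hcp : ∀ R : Subgroup G, T ≤ R → pCoreOf p R ≠ ⊥ → R ⊓ centralizer (pCoreOf p R : Set G) ≤ pCoreOf p R :=
    fun R h1 h2 => inf_le_right.trans (hpar R h1 h2)
  have hSyl : ∀ R : Subgroup G, T ≤ R → SylIn p T R := fun R h => hT.of_le h le_top
  obtain ⟨Ls, hTLs, hLsM, hLs1, hfac, hYeq⟩ := hrel
  have hYL := pRed_largestPReducedOf (p := p) L
  obtain ⟨Y, hY⟩ : ∃ Y : Subgroup G, Y = largestPReducedOf p L := ⟨_, rfl⟩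
  obtain ⟨Y₀, hY₀⟩ : ∃ Y₀ : Subgroup G, Y₀ = largestPReducedOf p M₀ := ⟨_, rfl⟩
  rw [← hY] at hfac hYeq hYL
  rw [← hY₀] at hC hsup
  have hYY₀ : Y ≤ Y₀ := by
    rw [hYeq, hY₀]
    exact mono_Y (hSyl _ (hTM.trans hMM)) hTLs hLsM (hcp _ (hTM.trans hMM) hM0)
  have hCY : centralizer (Y₀ : Set G) ≤ centralizer (Y : Set G) := centralizer_le hYY₀
  have hYY : Y ≤ T := (hSyl L hTL).normal_le hYL.le hYL.norm hYL.isPGroup
  -- `L' = M ∩ L C(Y)`
  obtain ⟨L', hL'⟩ : ∃ L' : Subgroup G, L' = M ⊓ (Ls ⊔ centralizer (Y : Set G)) := ⟨_, rfl⟩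
  have hTL' : T ≤ L' := by rw [hL']; exact le_inf hTM (hTLs.trans le_sup_left)
  have hL'M : L' ≤ M := by rw [hL']; exact inf_le_left
  have hOL' : pCoreOf p L' ≠ ⊥ := by
    intro h0
    apply hM
    rw [eq_bot_iff, ← h0]
    refine le_pCoreOf ?_ (hL'M.trans (le_normalizer_pCoreOf M)) (isPGroup_pCoreOf M)
    exact (hSyl M hTM).pCoreOf_le.trans hTL'
  -- `L' C(Y) = L C(Y)`
  have hfac' : L' ⊔ centralizer (Y : Set G) = L ⊔ centralizer (Y : Set G) := by
    rw [hfac]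
    apply le_antisymm
    · refine sup_le ?_ le_sup_right
      rw [hL']; exact inf_le_right
    · refine sup_le ?_ le_sup_right
      intro x hx
      have hx0 : x ∈ M₀ := hLsM hx
      have hn : M₀ ≤ normalizer (centralizer (Y₀ : Set G) : Set G) := by
        rw [hY₀]
        exact (pRed_largestPReducedOf (p := p) M₀).norm.trans (normalizer_le_normalizer_centralizer _)
      rw [← hsup, mem_sup_iff_of_le_normalizer (hMM.trans hn)] at hx0
      obtain ⟨m, hm, c, hc, rfl⟩ := hx0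
      have hmL : m ∈ L' := by
        rw [hL']
        refine mem_inf.2 ⟨hm, ?_⟩
        have : m = (m * c) * c⁻¹ := by group
        rw [this]
        exact mul_mem (mem_sup_left hx) (mem_sup_right (inv_mem (hCY hc)))
      exact mul_mem (mem_sup_left hmL) (mem_sup_right (hCY hc))
  have htr := transfer_normalizer (hSyl L hTL) (hSyl L' hTL') (hcp L hTL hL) (by rw [← hY]; exact hfac')
  rw [← hY] at htr
  obtain ⟨hY1, hfac1⟩ := htr
  obtain ⟨N, hN⟩ : ∃ N : Subgroup G, N = L' ⊓ normalizer ((T ⊓ centralizer (Y : Set G) : Subgroup G) : Set G) := ⟨_, rfl⟩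
  rw [← hN] at hY1 hfac1
  refine ⟨N, ?_, ?_, ?_, ?_, ?_⟩
  · rw [hN]
    refine le_inf hTL' ?_
    intro t ht
    refine normalizer_inf_le (mem_inf.2 ⟨le_normalizer ht, ?_⟩)
    exact normalizer_le_normalizer_centralizer _ (hYL.norm (hTL ht))
  · rw [hN]; exact inf_le_left.trans hL'M
  · intro h0
    have h1 := pRed_largestPReducedOf (p := p) N
    rw [hY1] at h1
    have h2 := h1.le_pCoreOf
    rw [h0, le_bot_iff] at h2
    exact Y_ne_bot (hSyl L hTL) hT1 (hcp L hTL hL) (hY ▸ h2)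
  · rw [← hY]; exact hfac1
  · rw [← hY]; exact hY1.symm

/-- Existence of a subgroup with the basic property. -/
theorem exists_frakM {T L : Subgroup G} (hT : SylIn p T ⊤) (hT1 : T ≠ ⊥)
    (hpar : ∀ R : Subgroup G, T ≤ R → pCoreOf p R ≠ ⊥ → centralizer (pCoreOf p R : Set G) ≤ pCoreOf p R)
    (hTL : T ≤ L) (hL : pCoreOf p L ≠ ⊥) :
    ∃ M : Subgroup G, T ≤ M ∧ IsInFrakM p M ∧ Rel p T L M := by
  have hcp : ∀ R : Subgroup G, T ≤ R → pCoreOf p R ≠ ⊥ → R ⊓ centralizer (pCoreOf p R : Set G) ≤ pCoreOf p R :=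
    fun R h1 h2 => inf_le_right.trans (hpar R h1 h2)
  have hSyl : ∀ R : Subgroup G, T ≤ R → SylIn p T R := fun R h => hT.of_le h le_top
  have hmem : ∀ R : Subgroup G, T ≤ R → pCoreOf p R ≠ ⊥ → R ∈ charPSubgroups p G :=
    fun R h1 h2 => mem_charPSubgroups_iff.2 ⟨h2, hpar R h1 h2⟩
  -- maximal members
  have hmax : ∀ R : Subgroup G, R ∈ charPSubgroups p G → ∃ M ∈ maxCharPSubgroups p G, R ≤ M := by
    intro R hR
    obtain ⟨M, hRM, hM⟩ := (Set.toFinite (charPSubgroups p G)).exists_le_maximal hR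
    exact ⟨M, ⟨hM.prop, fun X hX hMX => (hM.eq_of_le hX hMX).symm⟩, hRM⟩
  -- choose `M₀`
  obtain ⟨M₀, ⟨hTM₀, hM₀, hrel₀⟩, hbest⟩ : ∃ M₀ ∈ {M : Subgroup G | T ≤ M ∧ M ∈ maxCharPSubgroups p G ∧ Rel p T L M},
      ∀ M₁ ∈ {M : Subgroup G | T ≤ M ∧ M ∈ maxCharPSubgroups p G ∧ Rel p T L M},
        Nat.card (largestPReducedOf p M₁) ≤ Nat.card (largestPReducedOf p M₀) := by
    apply Set.exists_max_image _ _ (Set.toFinite _)
    obtain ⟨M, hM, hLM⟩ := hmax L (hmem L hTL hL)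
    exact ⟨M, hTL.trans hLM, hM, L, hTL, hLM, hL, rfl, rfl⟩
  have hM₀1 : pCoreOf p M₀ ≠ ⊥ := (mem_charPSubgroups_iff.1 hM₀.1).1
  have hYM₀ := pRed_largestPReducedOf (p := p) M₀
  obtain ⟨Y₀, hY₀⟩ : ∃ Y₀ : Subgroup G, Y₀ = largestPReducedOf p M₀ := ⟨_, rfl⟩
  have hY₀1 : Y₀ ≠ ⊥ := hY₀ ▸ Y_ne_bot (hSyl M₀ hTM₀) hT1 (hcp M₀ hTM₀ hM₀1)
  rw [← hY₀] at hYM₀
  -- `C(Y₀) ≤ M₀`
  have hC₀ : centralizer (Y₀ : Set G) ≤ M₀ := by
    have h1 := Y_le_pCoreOf_dagger (p := p) M₀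
    rw [← hY₀] at h1
    have h2 : pCoreOf p (M₀ ⊔ centralizer (Y₀ : Set G)) ≠ ⊥ := by
      intro h0; rw [h0, le_bot_iff] at h1; exact hY₀1 h1
    have h3 := hM₀.2 _ (hmem _ (hTM₀.trans le_sup_left) h2) le_sup_left
    rw [← h3]; exact le_sup_right
  -- minimal supplement
  obtain ⟨M, hMM₀, hM⟩ := (Set.toFinite {X : Subgroup G | T ≤ X ∧ X ≤ M₀ ∧ X ⊔ centralizer (Y₀ : Set G) = M₀}).exists_le_minimal
    (show M₀ ∈ _ from ⟨hTM₀, le_rfl, sup_eq_left.2 hC₀⟩)
  obtain ⟨hTM, -, hMsup⟩ := hM.prop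
  have hMmin : ∀ X : Subgroup G, T ≤ X → X ≤ M → X ⊔ centralizer (Y₀ : Set G) = M₀ → X = M := by
    intro X h1 h2 h3
    exact hM.eq_of_le ⟨h1, h2.trans hMM₀, h3⟩ h2
  have hOM₀M : pCoreOf p M₀ ≤ M := (hSyl M₀ hTM₀).pCoreOf_le.trans hTM
  have hOM₀M' : pCoreOf p M₀ ≤ pCoreOf p M :=
    le_pCoreOf hOM₀M (hMM₀.trans (le_normalizer_pCoreOf M₀)) (isPGroup_pCoreOf M₀)
  have hM1 : pCoreOf p M ≠ ⊥ := by
    intro h0; rw [h0, le_bot_iff] at hOM₀M'; exact hM₀1 hOM₀M'
  have hYM : largestPReducedOf p M = Y₀ := by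
    apply le_antisymm
    · rw [hY₀]; exact mono_Y (hSyl M₀ hTM₀) hTM hMM₀ (hcp M₀ hTM₀ hM₀1)
    · apply PRed.le_largestPReducedOf
      apply pRed_of_sup_eq hYM₀ (hYM₀.le_pCoreOf.trans hOM₀M)
      rw [hMsup, sup_eq_left.2 hC₀]
  have hrel : Rel p T L M := rel_of_supplement hT hT1 hpar hTL hL hTM hM1 hMM₀ hM₀1 (hY₀ ▸ hC₀) (hY₀ ▸ hMsup) hrel₀
  have hYMn : M ≤ normalizer (Y₀ : Set G) := hMM₀.trans hYM₀.norm
  refine ⟨M, hTM, ⟨hmem M hTM hM1, ?_, ?_, ?_, ?_, ?_⟩, hrel⟩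
  · rw [hYM, hMsup]; exact hM₀
  · intro M₁ hM₁ hMM₁
    rw [hYM, hMsup]
    -- otherwise a bigger `Y`
    have hTM₁ := hTM.trans hMM₁
    have hM₁1 : pCoreOf p M₁ ≠ ⊥ := (mem_charPSubgroups_iff.1 hM₁.1).1
    have h1 : Y₀ ≤ largestPReducedOf p M₁ := by
      rw [← hYM]; exact mono_Y (hSyl M₁ hTM₁) hTM hMM₁ (hcp M₁ hTM₁ hM₁1)
    have h2 : Rel p T L M₁ := by
      obtain ⟨Ls, ha, hb, hc⟩ := hrel
      exact ⟨Ls, ha, hb.trans hMM₁, hc⟩
    have h3 := hbest M₁ ⟨hTM₁, hM₁, h2⟩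
    rw [← hY₀] at h3
    have h4 : Y₀ = largestPReducedOf p M₁ := eq_of_le_of_card_ge h1 h3
    -- both are contained in `N(Y₀)`
    have h5 : pCoreOf p (normalizer (Y₀ : Set G)) ≠ ⊥ := by
      intro h0
      apply hY₀1
      rw [eq_bot_iff, ← h0]
      exact le_pCoreOf le_normalizer le_rfl hYM₀.isPGroup
    have h6 := hmem _ (hTM.trans hYMn) h5
    have h7 := hM₀.2 _ h6 hYM₀.norm
    have h8 := hM₁.2 _ h6 (by
      have := (pRed_largestPReducedOf (p := p) M₁).norm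
      rwa [← h4] at this)
    rw [← h7, ← h8]
  · rw [hYM, hMsup, ← hY₀]
  all_goals
    rw [hYM]
    obtain ⟨C, hC⟩ : ∃ C : Subgroup G, C = M ⊓ centralizer (Y₀ : Set G) := ⟨_, rfl⟩
    have hCM : C ≤ M := hC ▸ inf_le_left
    have hMC : M ≤ normalizer (C : Set G) := by
      rw [hC]; intro x hx
      exact normalizer_inf_le (mem_inf.2 ⟨le_normalizer hx,
        normalizer_le_normalizer_centralizer _ (hYMn hx)⟩)
    have hTC : SylIn p (T ⊓ C) C := (hSyl M hTM).inf_normal hCM hMC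
    -- `T ∩ C` is normal in `M`
    have hTCn : M ≤ normalizer ((T ⊓ C : Subgroup G) : Set G) := by
      have h1 : M ⊓ normalizer ((T ⊓ C : Subgroup G) : Set G) = M := by
        apply hMmin _ _ inf_le_left
        · apply le_antisymm
          · exact sup_le (inf_le_left.trans hMM₀) hC₀
          · conv_lhs => rw [← hMsup]
            refine sup_le ?_ le_sup_right
            intro m hm
            obtain ⟨k, hk, n, hn, rfl⟩ := hTC.frattini hCM hMC hm
            refine mul_mem (mem_sup_right ?_) (mem_sup_left hn)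
            rw [hC] at hk
            exact (mem_inf.1 hk).2
        · refine le_inf hTM ?_
          intro t ht
          exact normalizer_inf_le (mem_inf.2 ⟨le_normalizer ht, hMC (hTM ht)⟩)
      rw [← h1]; exact inf_le_right
    have hTCO : T ⊓ C ≤ pCoreOf p M := le_pCoreOf (inf_le_left.trans hTM) hTCn (hTC.isPGroup)
  · rw [← hC, Irr.isPClosed_iff]
    intro Q hQ hQp
    obtain ⟨c, hc, hQc⟩ := hTC.exists_conj_le hQ hQp
    rw [cj_eq_of_mem_normalizer (hTCn (hCM hc))] at hQc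
    exact hQc.trans (le_pCoreOf inf_le_right (hCM.trans hTCn) hTC.isPGroup)
  · rw [← hC]
    have hOn : (pCore p ↥M).Normal := inferInstance
    refine le_iInf₂ fun U hU => ?_
    by_contra hne
    set f := QuotientGroup.mk' (pCore p ↥M) with hf
    have hker : f.ker = pCore p ↥M := QuotientGroup.ker_mk' _
    have hsurj : Function.Surjective f := QuotientGroup.mk'_surjective _
    have h1 : (C.subgroupOf M).map f ⊔ U = ⊤ := by
      apply hU.2
      exact lt_of_le_of_ne le_sup_right (fun he => hne (by rw [he]; exact le_sup_left))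
    have hU1 : (U.comap f).map f = U := map_comap_eq_self_of_surjective hsurj U
    have hkU : f.ker ≤ U.comap f := by
      intro x hx; rw [mem_comap, MonoidHom.mem_ker.1 hx]; exact one_mem _
    have h2 : C.subgroupOf M ⊔ U.comap f = ⊤ := by
      rw [← hU1, ← Subgroup.map_sup] at h1
      have h3 := congrArg (Subgroup.comap f) h1
      rw [comap_map_eq, comap_top, sup_assoc, sup_eq_left.2 hkU] at h3
      exact h3
    obtain ⟨U₂, hU₂⟩ : ∃ U₂ : Subgroup G, U₂ = (U.comap f).map M.subtype := ⟨_, rfl⟩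
    have hU₂M : U₂ ≤ M := by rw [hU₂]; exact map_subtype_le _
    have hMU : M ≤ U₂ ⊔ C := by
      have h3 := congrArg (Subgroup.map M.subtype) h2
      rw [Subgroup.map_sup, map_subgroupOf_eq_of_le hCM, ← MonoidHom.range_eq_map, range_subtype, ← hU₂] at h3
      rw [sup_comm]; exact h3.ge
    have hTU : T ⊓ C ≤ U₂ := by
      refine hTCO.trans ?_
      rw [hU₂]
      rw [hker] at hkU
      exact map_mono hkU
    obtain ⟨R, hR⟩ := exists_sylIn (p := p) U₂
    have hRM : SylIn p R M := sylIn_of_supplement hCM hU₂M hMC hMU hTC hTU hR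
    obtain ⟨m, hm, hTm⟩ := hRM.conj (hSyl M hTM)
    have h4 := hMU (inv_mem hm)
    rw [mem_sup_iff_of_le_normalizer (hU₂M.trans hMC)] at h4
    obtain ⟨u, hu, c, hc, huc⟩ := h4
    have hm' : m = c⁻¹ * u⁻¹ := by rw [← mul_inv_rev, huc, inv_inv]
    have h5 : T ≤ cj c⁻¹ U₂ := by
      rw [hTm, hm', ← cj_cj]
      apply cj_mono
      calc cj u⁻¹ R ≤ cj u⁻¹ U₂ := cj_mono hR.le
        _ = U₂ := cj_of_mem (inv_mem hu)
    have hcM : c⁻¹ ∈ M := inv_mem (hCM hc)
    have h6 : cj c⁻¹ U₂ = M := by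
      apply hMmin _ h5
      · calc cj c⁻¹ U₂ ≤ cj c⁻¹ M := cj_mono hU₂M
          _ = M := cj_of_mem hcM
      · apply le_antisymm
        · refine sup_le ?_ hC₀
          calc cj c⁻¹ U₂ ≤ cj c⁻¹ M := cj_mono hU₂M
            _ = M := cj_of_mem hcM
            _ ≤ M₀ := hMM₀
        · conv_lhs => rw [← hMsup]
          refine sup_le ?_ le_sup_right
          calc M = cj c⁻¹ M := (cj_of_mem hcM).symm
            _ ≤ cj c⁻¹ (U₂ ⊔ C) := cj_mono hMU
            _ = cj c⁻¹ U₂ ⊔ C := by rw [cj_sup, cj_of_mem (inv_mem hc)]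
            _ ≤ cj c⁻¹ U₂ ⊔ centralizer (Y₀ : Set G) := sup_le_sup_left (by rw [hC]; exact inf_le_right) _
    have h7 : U₂ = M := by
      rw [← cj_inj (g := c⁻¹), h6, cj_of_mem hcM]
    apply hU.1
    rw [← hU1, eq_top_iff]
    rintro x -
    obtain ⟨y, rfl⟩ := hsurj x
    have hy : (y : G) ∈ U₂ := by rw [h7]; exact y.2
    rw [hU₂] at hy
    obtain ⟨z, hz, hzy⟩ := hy
    have : z = y := Subtype.ext hzy
    rw [← this]
    exact mem_map_of_mem _ hz

end

end H52.FrakM
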