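import Cfsg.Agent.Lib.H52.SFLast
import Cfsg.Agent.Lib.H14.SFF
import Cfsg.Agent.Lib.H39.SFOne
import Cfsg.Agent.Lib.H39.ZJFun
import Cfsg.Agent.Lib.H39.QdTwo
import Cfsg.Agent.Lib.H51.Involves

/-!
# `S₄`-free groups: the centre and the Thompson subgroup control strong fusion
-/

set_option autoImplicit false

namespace H52.SFLast

open Subgroup Cfsg

universe u

theorem noOff_of_free {G : Type u} [Group G] [Finite G] (h : ¬ Involves (Equiv.Perm (Fin 4)) G) : NoOff G :=
  fun V hV h1 h2 h3 A hA => H14.SF.no_offender h V hV h1 h2 h3 A hA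

/-- the two functors -/
abbrev zFun : ∀ (Q : Type u) [Group Q], Subgroup Q := fun Q _ => Subgroup.center Q
abbrev jFun : ∀ (Q : Type u) [Group Q], Subgroup Q := fun Q _ => thompsonSubgroup 2 Q

theorem chars : ∀ W ∈ ({zFun, jFun} : Set (∀ (Q : Type u) [Group Q], Subgroup Q)), IsCharPFunctor.{u} 2 W := by
  have : Fact (Nat.Prime 2) := ⟨Nat.prime_two⟩
  rintro W (rfl | rfl)
  · exact H39.ZJFun.char_center
  · exact H39.ZJFun.char_thompson

/-- **control of strong fusion in the sections of `S₄`-free groups** -/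
theorem sf {G : Type u} [Group G] [Finite G] (h : ¬ Involves (Equiv.Perm (Fin 4)) G) (X : Type u) [Group X]
    (hX : Involves X G) : H39.SFSect.SF (G := X) 2 {zFun, jFun} ⊤ := by
  have h2p : Fact (Nat.Prime 2) := ⟨Nat.prime_two⟩
  refine H39.SFInd.sf_of_local (G := G) {zFun, jFun} chars (fun K R hR hC => ?_) X hX
  have hfree : ¬ Involves (Equiv.Perm (Fin 4)) (↥K ⧸ R.subgroupOf K) :=
    fun h1 => h (H51.Involves.involves_trans h1 ⟨K, R, hR, ⟨MulEquiv.refl _⟩⟩)
  obtain ⟨T⟩ : Nonempty (Sylow 2 (↥K ⧸ R.subgroupOf K)) := inferInstance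
  refine H39.SFOne.sf_of_factor (W₁ := zFun) (W₂ := jFun) (chars _ (Set.mem_insert _ _))
    (chars _ (Set.mem_insert_of_mem _ rfl)) chars (Set.mem_insert _ _) (Set.mem_insert_of_mem _ rfl) T ?_
  intro x
  obtain ⟨a, ha, b, hb, hab⟩ := factor (noOff_of_free hfree) hC T x
  refine ⟨a, ?_, b, hb, hab⟩
  rw [H39.ZJFun.induced_center]
  exact centralizer_le_normalizer _ ha

end H52.SFLast
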