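import Cfsg.Agent.Lib.H52.EG4
import Cfsg.Agent.Lib.H52.SFLast2
import Cfsg.Agent.S1997
import Cfsg.Agent.Lib.H52.FrakM

/-!
# Glauberman's 2-factorization: the assembly
-/

set_option autoImplicit false
set_option linter.unusedVariables false
set_option linter.unusedSectionVars false

namespace H52.EGr

open Subgroup Cfsg H14.GF H14.MaxIn H38.Basic

universe u

/-- the statement of (3') -/
def FStmt : Prop :=
  ∀ {G : Type u} [Group G] [Finite G], centralizer (pCore 2 G : Set G) ≤ pCore 2 G →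
    ¬ Involves (Equiv.Perm (Fin 4)) G → IsCompositionKGroupWith IsSuzukiOrPSL2OddPowerThree G →
    ∀ (S : Sylow 2 G) (g : G), ∀ j ∈ JE (S : Subgroup G), g * j * g⁻¹ ∈ centralizer (Z1 (S : Subgroup G) : Set G)

section

variable {G : Type u} [Group G] [Finite G]

theorem fact2 (hB : BStmt.{u}) (hchar : centralizer (pCore 2 G : Set G) ≤ pCore 2 G)
    (hfree : ¬ Involves (Equiv.Perm (Fin 4)) G) (hc : IsCompositionKGroupWith IsSuzukiOrPSL2OddPowerThree G)
    (S : Sylow 2 G) (x : G) :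
    ∃ c ∈ centralizer (((S : Subgroup G) ⊓ centralizer ((S : Subgroup G) : Set G) : Subgroup G) : Set G),
      ∃ n ∈ normalizer (JH (S : Subgroup G) : Set G), x = c * n := by
  have h2p : Fact (Nat.Prime 2) := ⟨Nat.prime_two⟩
  obtain ⟨V, hVn, hVE, hVS, hVC, hO⟩ := exists_V hchar S
  have hV := strong_of V hB hVE hO hfree hc hVS
  obtain ⟨h1, h2⟩ := JH_of_strong hV
  obtain ⟨c, hcC, n, hn, rfl⟩ := H13.SylowN.frattini_mem S (centralizer (V : Set G)) x
  refine ⟨c, hVC hcC, n, ?_, rfl⟩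
  rw [← h2]
  exact normalizer_le_JH _ hn

theorem normalizer_le_JE (S : Subgroup G) : normalizer (S : Set G) ≤ normalizer (JE S : Set G) := by
  have h2p : Fact (Nat.Prime 2) := ⟨Nat.prime_two⟩
  rw [JE_eq]
  exact H13.SylowN.normalizer_le_normalizer_thompsonOf _

theorem fact3 (hF : FStmt.{u}) (hchar : centralizer (pCore 2 G : Set G) ≤ pCore 2 G)
    (hfree : ¬ Involves (Equiv.Perm (Fin 4)) G) (hc : IsCompositionKGroupWith IsSuzukiOrPSL2OddPowerThree G)
    (S : Sylow 2 G) (x : G) :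
    ∃ c ∈ centralizer (Z1 (S : Subgroup G) : Set G), ∃ n ∈ normalizer (JE (S : Subgroup G) : Set G), x = c * n := by
  have h2p : Fact (Nat.Prime 2) := ⟨Nat.prime_two⟩
  set L := normalClosure (JE (S : Subgroup G) : Set G) with hL
  have hLn : L.Normal := normalClosure_normal
  have hLC : L ≤ centralizer (Z1 (S : Subgroup G) : Set G) := by
    rw [hL, normalClosure, closure_le]
    intro w hw
    obtain ⟨j, hj, hjw⟩ := Group.mem_conjugatesOfSet_iff.1 hw
    obtain ⟨g, hg⟩ := isConj_iff.1 hjw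
    rw [← hg]
    exact hF hchar hfree hc S g j hj
  obtain ⟨c, hcL, n, hn, rfl⟩ := H13.SylowN.frattini_mem S L x
  refine ⟨c, hLC hcL, n, ?_, rfl⟩
  have h1 : JE (S : Subgroup G) ≤ (S : Subgroup G) ⊓ L := le_inf (JE_le _) subset_normalClosure
  rw [← JE_eq_of_le h1 inf_le_left]
  exact normalizer_le_JE _ hn

/-- S2753 -/
theorem s2753 (hB : BStmt.{u}) (hF : FStmt.{u}) (hchar : centralizer (pCore 2 G : Set G) ≤ pCore 2 G)
    (hfree : ¬ Involves (Equiv.Perm (Fin 4)) G) (hc : IsCompositionKGroupWith IsSuzukiOrPSL2OddPowerThree G)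
    (S : Sylow 2 G) : (∀ g : G, ∃ c ∈ Subgroup.centralizer ((((S : Subgroup G) ⊓ Subgroup.centralizer ((S : Subgroup G) : Set G)) : Subgroup G) : Set G), ∃ n ∈ Subgroup.normalizer (((Cfsg.thompsonSubgroupOf 2 (S : Subgroup G)) : Subgroup G) : Set G), g = c * n) ∧ (∀ g : G, ∃ c ∈ Subgroup.centralizer ((((S : Subgroup G) ⊓ Subgroup.centralizer ((S : Subgroup G) : Set G)) : Subgroup G) : Set G), ∃ n ∈ Subgroup.normalizer ((((Cfsg.jHat ↥(S : Subgroup G)).map (S : Subgroup G).subtype) : Subgroup G) : Set G), g = c * n) ∧ (∀ g : G, ∃ c ∈ Subgroup.centralizer ((Cfsg.omegaOne 2 (((Cfsg.jHat ↥(S : Subgroup G)).map (S : Subgroup G).subtype) ⊓ Subgroup.centralizer (((Cfsg.jHat ↥(S : Subgroup G)).map (S : Subgroup G).subtype) : Set G))) : Set G), ∃ n ∈ Subgroup.normalizer (((Cfsg.thompsonSubgroupOf 2 (S : Subgroup G)) : Subgroup G) : Set G), g = c * n) := by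
  refine ⟨fun g => H52.SFLast.factor (H52.SFLast.noOff_of_free hfree) hchar S g, fun g => fact2 hB hchar hfree hc S g, fun g => ?_⟩
  obtain ⟨c, hc', n, hn, h⟩ := fact3 hF hchar hfree hc S g
  refine ⟨c, hc', n, ?_, h⟩
  rwa [JE_eq] at hn

end

section functor

theorem thompson_eq_JE {Q : Type*} [Group Q] [Finite Q] : thompsonSubgroup 2 Q = JE (⊤ : Subgroup Q) := by
  rw [H52.CSS.thompson_eq, JE, AA_eq]

theorem jHat_eq {Q : Type*} [Group Q] [Finite Q] : jHat Q = JH (⊤ : Subgroup Q) := by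
  apply le_antisymm
  · unfold jHat
    apply sSup_le
    rintro U ⟨hU, hUJ⟩
    refine (sp_JH (⊤ : Subgroup Q)).1.max U ?_ le_top ((eg_iff U).1 hU)
    rw [← thompson_eq_JE]; exact hUJ
  · unfold jHat
    apply le_sSup
    refine ⟨(eg_iff _).2 (JH_EG _), ?_⟩
    rw [thompson_eq_JE]
    exact JE_le_JH _

/-- the functor `Ω₁ Z Ĵ` -/
abbrev z1Fun : ∀ (Q : Type u) [Group Q], Subgroup Q := fun Q _ =>
  omegaOne 2 (jHat Q ⊓ centralizer (jHat Q : Set Q))

theorem z1Fun_eq {Q : Type u} [Group Q] [Finite Q] : z1Fun Q = Z1 (⊤ : Subgroup Q) := by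
  show omegaOne 2 (jHat Q ⊓ centralizer (jHat Q : Set Q)) = omegaOne 2 _
  rw [jHat_eq]

theorem z1Fun_char : IsCharPFunctor.{u} 2 z1Fun := by
  have h2p : Fact (Nat.Prime 2) := ⟨Nat.prime_two⟩
  refine ⟨?_, ?_⟩
  · intro Q _ _ hQ hnt
    rw [z1Fun_eq]
    have h1 : JH (⊤ : Subgroup Q) ≠ ⊥ := by
      intro h0
      have h2 : JE (⊤ : Subgroup Q) = ⊥ := le_bot_iff.1 ((JE_le_JH _).trans h0.le)
      rw [← thompson_eq_JE] at h2
      refine H13.Thompson.thompson_ne_bot (p := 2) (G := Q) ?_ h2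
      obtain ⟨n, hn0, hn⟩ := hQ.nontrivial_iff_card.1 hnt
      rw [hn]; exact dvd_pow_self 2 (by omega)
    have hp : IsPGroup 2 (JH (⊤ : Subgroup Q)) := hQ.to_subgroup _
    exact H52.FrakM.omegaOne_ne_bot (hp.to_le inf_le_left) (H52.FrakM.inf_centralizer_ne_bot hp h1)
  · intro Q R _ _ _ hQ φ
    have hfR : Finite R := Finite.of_equiv Q φ.toEquiv
    rw [z1Fun_eq, z1Fun_eq, ← Z1_map φ.injective]
    congr 1
    exact Subgroup.map_top_of_surjective φ.toMonoidHom φ.surjective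

theorem induced_z1 {G : Type u} [Group G] [Finite G] (T : Subgroup G) : inducedFunctor z1Fun T = Z1 T := by
  show (z1Fun ↥T).map T.subtype = Z1 T
  rw [z1Fun_eq, ← Z1_map T.subtype_injective, ← MonoidHom.range_eq_map, range_subtype]

theorem induced_j {G : Type u} [Group G] (T : Subgroup G) :
    inducedFunctor H52.SFLast.jFun T = thompsonSubgroupOf 2 T := rfl

theorem omega_mem {G : Type u} [Group G] [Finite G] {S : Subgroup G} {x : G}
    (hx : x ∈ omegaOne 2 (S ⊓ centralizer (S : Set G))) : x ∈ S ∧ x ∈ centralizer (S : Set G) ∧ x * x = 1 := by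
  have h := H52.CSS.mem_omegaOneCenter.1 hx
  exact ⟨h.1, h.2.1, by rw [← pow_two]; exact h.2.2⟩

/-- S2796 -/
theorem s2796 (hB : BStmt.{u}) (hF : FStmt.{u}) {G : Type u} [Group G] [Finite G] (hfree : ¬ Cfsg.Involves (Equiv.Perm (Fin 4)) G) (hsec : ∀ (K R : Subgroup G) [hR : (R.subgroupOf K).Normal], Subgroup.centralizer (Cfsg.pCore 2 (K ⧸ R.subgroupOf K) : Set (K ⧸ R.subgroupOf K)) ≤ Cfsg.pCore 2 (K ⧸ R.subgroupOf K) → Cfsg.IsCompositionKGroupWith Cfsg.IsSuzukiOrPSL2OddPowerThree (K ⧸ R.subgroupOf K)) (S : Sylow 2 G) (N : Subgroup G) (hN : N = Subgroup.normalizer (Cfsg.thompsonSubgroupOf 2 (S : Subgroup G) : Set G)) (A : Subgroup G) (hA : A = (Subgroup.normalClosure (((Cfsg.omegaOne 2 ((S : Subgroup G) ⊓ Subgroup.centralizer ((S : Subgroup G) : Set G))).subgroupOf N : Subgroup ↥N) : Set ↥N)).map N.subtype) : A ≤ S ∧ Cfsg.IsElementaryAbelian 2 A ∧ Cfsg.IsStronglyClosed A (S : Subgroup G) ∧ Cfsg.ControlsStrongFusion 2 A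 := by
  have h2p : Fact (Nat.Prime 2) := ⟨Nat.prime_two⟩
  refine Cfsg.Agent.S1997.result S H52.SFLast.jFun z1Fun (H52.SFLast.chars _ (Set.mem_insert_of_mem _ rfl))
    z1Fun_char ?_ ?_ N hN A hA
  · intro K R hR hchar T
    have hfree' : ¬ Involves (Equiv.Perm (Fin 4)) (↥K ⧸ R.subgroupOf K) :=
      fun h1 => hfree (H51.Involves.involves_trans h1 ⟨K, R, hR, ⟨MulEquiv.refl _⟩⟩)
    have hc := hsec K R hchar
    have hom : ∀ c ∈ centralizer (((T : Subgroup (↥K ⧸ R.subgroupOf K)) ⊓ centralizer ((T : Subgroup (↥K ⧸ R.subgroupOf K)) : Set (↥K ⧸ R.subgroupOf K)) : Subgroup (↥K ⧸ R.subgroupOf K)) : Set (↥K ⧸ R.subgroupOf K)),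
        c ∈ centralizer (omegaOne 2 ((T : Subgroup (↥K ⧸ R.subgroupOf K)) ⊓ centralizer ((T : Subgroup (↥K ⧸ R.subgroupOf K)) : Set (↥K ⧸ R.subgroupOf K))) : Set (↥K ⧸ R.subgroupOf K)) := by
      intro c hc
      rw [mem_centralizer_iff] at hc ⊢
      intro z hz
      obtain ⟨h1, h2, _⟩ := omega_mem hz
      exact hc z ⟨h1, h2⟩
    refine ⟨fun x => ?_, fun x => ?_, fun x => ?_⟩
    · obtain ⟨a, ha, b, hb, h⟩ := H52.SFLast.factor (H52.SFLast.noOff_of_free hfree') hchar T x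
      exact ⟨a, hom a ha, b, hb, h⟩
    · obtain ⟨a, ha, b, hb, h⟩ := fact2 hB hchar hfree' hc T x
      refine ⟨a, hom a ha, b, ?_, h⟩
      rw [induced_z1]
      exact normalizer_JH_le_Z1 _ hb
    · obtain ⟨c, hc', n, hn, h⟩ := fact3 hF hchar hfree' hc T x⁻¹
      refine ⟨n⁻¹, ?_, c⁻¹, ?_, by rw [← mul_inv_rev, ← h, inv_inv]⟩
      · rw [induced_j, ← JE_eq]; exact inv_mem hn
      · rw [induced_z1]
        exact inv_mem (centralizer_le_normalizer _ hc')
  · intro x hx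
    obtain ⟨h1, h2, h3⟩ := omega_mem hx
    have hz : zpowers x ≤ (S : Subgroup G) := by rw [zpowers_le]; exact h1
    have hJ : x ∈ JE (S : Subgroup G) := by
      obtain ⟨A, hA⟩ := AA_nonempty (S : Subgroup G)
      refine (le_sSup hA) (le_of_AA hA hz ?_ ?_ (mem_zpowers x))
      · constructor
        · rintro _ ⟨i, rfl⟩ _ ⟨j, rfl⟩
          exact (Commute.refl x).zpow_zpow i j
        · rintro _ ⟨i, rfl⟩
          show x ^ i * x ^ i = 1
          rw [← (Commute.refl x).mul_zpow, h3, one_zpow]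
      · rintro a ha _ ⟨i, rfl⟩
        have h4 : Commute a x := mem_centralizer_iff.1 h2 a (hA.1 ha)
        exact h4.zpow_right i
    refine mem_inf.2 ⟨?_, ?_⟩
    · rw [induced_j, ← JE_eq]; exact hJ
    · rw [induced_z1, mem_Z1]
      exact ⟨JE_le_JH _ hJ, centralizer_le (JH_le _) h2, h3⟩

end functor

end H52.EGr
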