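import Cfsg.Agent.Lib.H52.FSOut

/-!
# Consequences of `Out` in module form
-/

set_option autoImplicit false

namespace H52.FS

open Subgroup H53.PU

section

variable {P : Type*} [Group P] {V : Type*} [AddCommGroup V] [DistribMulAction P V]

theorem zmod2' (a : ZMod 2) : a = 0 ∨ a = 1 := by
  revert a; decide

theorem FacL.eq_one {F : Type} [Field F] {E : Subgroup P} (h : FacL V F E) {x : P} (hx : x ∈ E)
    (hv : ∀ v : V, x • v - v ∈ fx V E) : x = 1 := by
  obtain ⟨ρ, Ψ, hs, hk, he⟩ := h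
  have h1 : ∀ w : Fin 2 → F, ((ρ ⟨x, hx⟩ : Matrix.SpecialLinearGroup (Fin 2) F) : Matrix (Fin 2) (Fin 2) F).mulVec w = w := by
    intro w
    obtain ⟨v, rfl⟩ := hs w
    have h2 := (hk _).2 (hv v)
    rw [map_sub, sub_eq_zero, he ⟨x, hx⟩] at h2
    exact h2
  have h3 : ρ ⟨x, hx⟩ = 1 := by
    apply Matrix.SpecialLinearGroup.ext
    intro i j
    have h4 := congrFun (h1 (Pi.single j 1)) i
    rw [Matrix.mulVec_single_one] at h4
    show _ = (1 : Matrix (Fin 2) (Fin 2) F) i j
    rw [Matrix.one_eq_pi_single]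
    rw [Pi.single_comm]
    exact h4
  have h5 : (⟨x, hx⟩ : E) = 1 := by
    rw [← map_one ρ] at h3
    exact ρ.injective h3
  exact congrArg Subtype.val h5

/-- the image of `[V,E]` under `Ψ` -/
def img {E : Subgroup P} {A : Type*} [AddCommGroup A] (Ψ : V →+ A) : AddSubgroup A := (cmt V E).map Ψ

theorem mem_img_of {E : Subgroup P} {A : Type*} [AddCommGroup A] (Ψ : V →+ A) {x : P} (hx : x ∈ E) (v : V) :
    Ψ (x • v) - Ψ v ∈ (cmt V E).map Ψ := ⟨x • v - v, sub_mem_cmt hx v, map_sub _ _ _⟩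

theorem FacL.img_top {F : Type} [Field F] {E : Subgroup P} {ρ : E ≃* Matrix.SpecialLinearGroup (Fin 2) F}
    {Ψ : V →+ (Fin 2 → F)} (hs : Function.Surjective Ψ) (he : ∀ (x : E) (v : V), Ψ ((x : P) • v) =
      ((ρ x : Matrix.SpecialLinearGroup (Fin 2) F) : Matrix (Fin 2) (Fin 2) F).mulVec (Ψ v)) (w : Fin 2 → F) :
    ∃ d ∈ cmt V E, Ψ d = w := by
  have h0 : ∀ a : F, ![a, 0] ∈ (cmt V E).map Ψ := by
    intro a
    obtain ⟨v, hv⟩ := hs ![0, 1]
    let g : Matrix.SpecialLinearGroup (Fin 2) F := ⟨!![1, a; 0, 1], by simp⟩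
    have h1 := mem_img_of Ψ (ρ.symm g).2 v
    rw [he, hv, MulEquiv.apply_symm_apply] at h1
    have h2 : (g : Matrix (Fin 2) (Fin 2) F).mulVec ![0, 1] - ![0, 1] = ![a, 0] := by
      show (!![1, a; 0, 1] : Matrix (Fin 2) (Fin 2) F).mulVec ![0, 1] - ![0, 1] = ![a, 0]
      funext i
      fin_cases i <;> simp
    rwa [h2] at h1
  have h0' : ∀ a : F, ![0, a] ∈ (cmt V E).map Ψ := by
    intro a
    obtain ⟨v, hv⟩ := hs ![1, 0]
    let g : Matrix.SpecialLinearGroup (Fin 2) F := ⟨!![1, 0; a, 1], by simp⟩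
    have h1 := mem_img_of Ψ (ρ.symm g).2 v
    rw [he, hv, MulEquiv.apply_symm_apply] at h1
    have h2 : (g : Matrix (Fin 2) (Fin 2) F).mulVec ![1, 0] - ![1, 0] = ![0, a] := by
      show (!![1, 0; a, 1] : Matrix (Fin 2) (Fin 2) F).mulVec ![1, 0] - ![1, 0] = ![0, a]
      funext i
      fin_cases i <;> simp
    rwa [h2] at h1
  have h3 := add_mem (h0 (w 0)) (h0' (w 1))
  have h4 : ![w 0, 0] + ![0, w 1] = w := by
    funext i
    fin_cases i <;> simp
  rw [h4] at h3
  exact h3

theorem FacS.eq_one {m : ℕ} (hm : 3 ≤ m) {E : Subgroup P} (h : FacS V m E) {x : P} (hx : x ∈ E)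
    (hv : ∀ v : V, x • v - v ∈ fx V E) : x = 1 := by
  obtain ⟨ρ, Ψ, h0, hs, hk, he⟩ := h
  have h1 : ∀ w : Fin m → ZMod 2, ∑ i, w i = 0 → ∀ i, w ((ρ ⟨x, hx⟩)⁻¹ i) = w i := by
    intro w hw i
    obtain ⟨v, rfl⟩ := hs w hw
    have h2 := (hk _).2 (hv v)
    rw [map_sub, sub_eq_zero] at h2
    rw [← he ⟨x, hx⟩]
    exact congrFun h2 i
  have h3 : ρ ⟨x, hx⟩ = 1 := by
    rw [← inv_eq_one]
    ext1 i
    by_contra hne
    rw [Equiv.Perm.one_apply] at hne
    obtain ⟨j, hj⟩ : ∃ j, j ∉ ({i, (ρ ⟨x, hx⟩)⁻¹ i} : Finset (Fin m)) := by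
      by_contra hcon
      push Not at hcon
      have h4 : (Finset.univ : Finset (Fin m)) ⊆ {i, (ρ ⟨x, hx⟩)⁻¹ i} := fun j _ => hcon j
      have h5 := Finset.card_le_card h4
      rw [Finset.card_univ, Fintype.card_fin] at h5
      have h6 : ({i, (ρ ⟨x, hx⟩)⁻¹ i} : Finset (Fin m)).card ≤ 2 := Finset.card_le_two
      omega
    rw [Finset.mem_insert, Finset.mem_singleton, not_or] at hj
    have hu : ∑ k, ((if k = i then (1 : ZMod 2) else 0) + (if k = j then 1 else 0)) = 0 := by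
      rw [Finset.sum_add_distrib, Finset.sum_ite_eq', Finset.sum_ite_eq']
      simp only [Finset.mem_univ, if_true]
      decide
    have h7 := h1 (fun k => (if k = i then (1 : ZMod 2) else 0) + (if k = j then 1 else 0)) hu i
    simp only [if_true] at h7
    rw [if_neg hne, if_neg (fun h => hj.2 h.symm), if_neg (fun h => hj.1 h.symm)] at h7
    exact absurd h7 (by decide)
  have h5 : (⟨x, hx⟩ : E) = 1 := by
    rw [← map_one ρ] at h3
    exact ρ.injective h3
  exact congrArg Subtype.val h5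

theorem FacS.img_top {m : ℕ} (hm : 3 ≤ m) {E : Subgroup P} {ρ : E ≃* Equiv.Perm (Fin m)}
    {Ψ : V →+ (Fin m → ZMod 2)} (hs : ∀ u : Fin m → ZMod 2, ∑ i, u i = 0 → ∃ v, Ψ v = u)
    (he : ∀ (x : E) (v : V) (i : Fin m), Ψ ((x : P) • v) i = Ψ v ((ρ x)⁻¹ i)) (u : Fin m → ZMod 2)
    (hu : ∑ i, u i = 0) : ∃ d ∈ cmt V E, Ψ d = u := by
  classical
  have h0 : ∀ i j : Fin m, (fun k => (if k = i then (1 : ZMod 2) else 0) + (if k = j then 1 else 0)) ∈
      (cmt V E).map Ψ := by
    intro i j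
    by_cases hij : i = j
    · subst hij
      have h1 : (fun k => (if k = i then (1 : ZMod 2) else 0) + (if k = i then 1 else 0)) = 0 := by
        funext k
        exact CharTwo.add_self_eq_zero _
      rw [h1]
      exact zero_mem _
    · obtain ⟨l, hl⟩ : ∃ l, l ∉ ({i, j} : Finset (Fin m)) := by
        by_contra hcon
        push Not at hcon
        have h4 : (Finset.univ : Finset (Fin m)) ⊆ {i, j} := fun j _ => hcon j
        have h5 := Finset.card_le_card h4
        rw [Finset.card_univ, Fintype.card_fin] at h5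
        have h6 : ({i, j} : Finset (Fin m)).card ≤ 2 := Finset.card_le_two
        omega
      rw [Finset.mem_insert, Finset.mem_singleton, not_or] at hl
      have hw : ∑ k, ((if k = j then (1 : ZMod 2) else 0) + (if k = l then 1 else 0)) = 0 := by
        rw [Finset.sum_add_distrib, Finset.sum_ite_eq', Finset.sum_ite_eq']
        simp only [Finset.mem_univ, if_true]
        decide
      obtain ⟨v, hv⟩ := hs _ hw
      have h1 := mem_img_of Ψ (ρ.symm (Equiv.swap i j)).2 v
      have h2 : Ψ (((ρ.symm (Equiv.swap i j)) : P) • v) - Ψ v =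
          (fun k => (if k = i then (1 : ZMod 2) else 0) + (if k = j then 1 else 0)) := by
        funext k
        rw [Pi.sub_apply, he, MulEquiv.apply_symm_apply, Equiv.swap_inv, hv]
        show ((if Equiv.swap i j k = j then (1 : ZMod 2) else 0) + (if Equiv.swap i j k = l then 1 else 0)) -
          ((if k = j then (1 : ZMod 2) else 0) + (if k = l then 1 else 0)) = _
        by_cases hki : k = i
        · subst hki
          rw [Equiv.swap_apply_left, if_pos rfl, if_neg (fun h => hl.2 h.symm), if_neg hij,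
            if_neg (fun h => hl.1 h.symm)]
          simp
        · by_cases hkj : k = j
          · subst hkj
            rw [Equiv.swap_apply_right, if_neg hij, if_neg (fun h => hl.1 h.symm), if_pos rfl,
              if_neg (fun h => hl.2 h.symm), if_neg hki]
            decide
          · rw [Equiv.swap_apply_of_ne_of_ne hki hkj, sub_self, if_neg hki, if_neg hkj, add_zero]
      rw [h2] at h1
      exact h1
  have i0 : Fin m := ⟨0, by omega⟩
  have h3 : u = ∑ i, (if u i = 1 then (fun k => (if k = i then (1 : ZMod 2) else 0) + (if k = i0 then 1 else 0)) else 0) := by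
    funext k
    rw [Finset.sum_apply]
    have h4 : ∀ i, (if u i = 1 then (fun k => (if k = i then (1 : ZMod 2) else 0) + (if k = i0 then 1 else 0)) else 0) k =
        (if k = i then u i else 0) + (if k = i0 then u i else 0) := by
      intro i
      rcases zmod2' (u i) with h | h
      · rw [h, if_neg (by decide)]
        simp
      · rw [h, if_pos rfl]
    simp only [h4]
    rw [Finset.sum_add_distrib, Finset.sum_ite_eq]
    simp only [Finset.mem_univ, if_true]
    by_cases hk : k = i0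
    · simp only [if_pos hk]
      rw [hu, add_zero]
    · simp only [if_neg hk]
      rw [Finset.sum_const_zero, add_zero]
  have h5 : u ∈ (cmt V E).map Ψ := by
    rw [h3]
    apply sum_mem
    intro i _
    split_ifs
    · exact h0 i i0
    · exact zero_mem _
  exact h5

theorem two_pow_add_one {n : ℕ} (hn : 1 ≤ n) : 3 ≤ 2 ^ n + 1 := by
  have : 2 ^ 1 ≤ 2 ^ n := Nat.pow_le_pow_right (by norm_num) hn
  omega

theorem Fac.eq_one {p : ℕ} {E : Subgroup P} (h : Fac V p E) {x : P} (hx : x ∈ E)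
    (hv : ∀ v : V, x • v - v ∈ fx V E) : x = 1 := by
  obtain ⟨n, hn, ⟨F, i1, i2, _, h1⟩ | ⟨_, h1⟩⟩ := h
  · exact h1.eq_one hx hv
  · exact h1.eq_one (two_pow_add_one hn) hx hv

theorem Fac.exists_cmt {p : ℕ} {E : Subgroup P} (h : Fac V p E) (v : V) : ∃ d ∈ cmt V E, v - d ∈ fx V E := by
  obtain ⟨n, hn, ⟨F, i1, i2, _, h1⟩ | ⟨_, h1⟩⟩ := h
  · obtain ⟨ρ, Ψ, hs, hk, he⟩ := h1
    obtain ⟨d, hd, hd'⟩ := FacL.img_top (V := V) hs he (Ψ v)
    refine ⟨d, hd, ?_⟩
    rw [← hk, map_sub, hd', sub_self]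
  · obtain ⟨ρ, Ψ, h0, hs, hk, he⟩ := h1
    obtain ⟨d, hd, hd'⟩ := FacS.img_top (V := V) (two_pow_add_one hn) hs he (Ψ v) (h0 v)
    refine ⟨d, hd, ?_⟩
    rw [← hk, map_sub, hd', sub_self]

variable {p : ℕ} {T : Subgroup P} {r : ℕ} {E : Fin r → Subgroup P}

/-- elements acting trivially modulo `C_V(E)` -/
def trv (V : Type*) [AddCommGroup V] [DistribMulAction P V] (E : Subgroup P) : Subgroup P where
  carrier := {x | ∀ v : V, x • v - v ∈ fx V E}
  one_mem' := by
    intro v
    rw [one_smul, sub_self]; exact zero_mem _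
  mul_mem' := by
    intro a b ha hb v
    have : (a * b) • v - v = (a • (b • v) - b • v) + (b • v - v) := by rw [mul_smul]; abel
    rw [this]
    exact add_mem (ha _) (hb _)
  inv_mem' := by
    intro a ha v
    have h1 := ha (a⁻¹ • v)
    rw [smul_inv_smul] at h1
    have : a⁻¹ • v - v = -(v - a⁻¹ • v) := by abel
    rw [this]
    exact neg_mem h1

theorem Out.inf_bot (h : Out V p T E) (i : Fin r) : E i ⊓ (⨆ j ∈ {j | j ≠ i}, E j) = ⊥ := by
  rw [eq_bot_iff]
  rintro x ⟨hx1, hx2⟩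
  rw [mem_bot]
  apply (h.fac i).eq_one hx1
  have h1 : (⨆ j ∈ {j | j ≠ i}, E j) ≤ trv V (E i) := by
    apply iSup₂_le
    intro j hj x hx v
    exact h.mod j i hj x hx v
  exact h1 hx2

theorem Out.cmt_le_fx (h : Out V p T E) {i j : Fin r} (hij : i ≠ j) : cmt V (E i) ≤ fx V (E j) :=
  cmt_le fun t ht v => h.mod i j hij t ht v

theorem mem_fx_iSup {ι : Type*} {E : ι → Subgroup P} {v : V} : v ∈ fx V (⨆ i, E i) ↔ ∀ i, v ∈ fx V (E i) := by
  constructor
  · intro h i
    exact fx_anti (le_iSup E i) h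
  · intro h
    have h1 : (⨆ i, E i) ≤ MulAction.stabilizer P v := iSup_le fun i x hx => h i x hx
    intro x hx
    exact h1 hx

theorem Out.decomp (h : Out V p T E) (v : V) :
    ∃ d : Fin r → V, (∀ i, d i ∈ cmt V (E i)) ∧ v - ∑ i, d i ∈ fx V (⨆ i, E i) := by
  choose d hd hd' using fun i => (h.fac i).exists_cmt v
  refine ⟨d, hd, ?_⟩
  rw [mem_fx_iSup]
  intro i
  have h1 : v - ∑ j, d j = (v - d i) - ∑ j ∈ Finset.univ.erase i, d j := by
    rw [← Finset.add_sum_erase _ _ (Finset.mem_univ i)]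
    abel
  rw [h1]
  apply sub_mem (hd' i)
  apply sum_mem
  intro j hj
  exact h.cmt_le_fx (Finset.ne_of_mem_erase hj) (hd j)

end

end H52.FS
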