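import Cfsg.Agent.Lib.H52.FSBridge
import Cfsg.Prelude.Def_BaumannBlocks

/-!
# From the module form to the group form
-/

set_option autoImplicit false

namespace H52.FS

open Subgroup H53.PU

section

variable {G P W : Type*} [Group G] [Group P] [AddCommGroup W] [DistribMulAction P W]

/-- `N ≤ G` acts on `V ≤ G` as `P` acts on `W` -/
structure Rl (V N : Subgroup G) (ι : W → G) (π : N →* P) : Prop where
  add : ∀ a b, ι (a + b) = ι a * ι b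
  inj : Function.Injective ι
  mem : ∀ w, ι w ∈ V
  sur : ∀ g ∈ V, ∃ w, ι w = g
  act : ∀ (n : N) (w : W), ι (π n • w) = n * ι w * (n : G)⁻¹
  psur : Function.Surjective π

/-- the subgroup of `G` corresponding to `B ≤ P` -/
def pb {N : Subgroup G} (π : N →* P) (B : Subgroup P) : Subgroup G := (B.comap π).map N.subtype

theorem mem_pb {N : Subgroup G} {π : N →* P} {B : Subgroup P} {g : G} : g ∈ pb π B ↔ ∃ h : g ∈ N, π ⟨g, h⟩ ∈ B := by
  constructor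
  · rintro ⟨n, hn, rfl⟩
    exact ⟨n.2, hn⟩
  · rintro ⟨h, h'⟩
    exact ⟨⟨g, h⟩, h', rfl⟩

theorem pb_le {N : Subgroup G} (π : N →* P) (B : Subgroup P) : pb π B ≤ N := by
  intro g hg
  obtain ⟨h, _⟩ := mem_pb.1 hg
  exact h

theorem pb_mono {N : Subgroup G} (π : N →* P) {B C : Subgroup P} (h : B ≤ C) : pb π B ≤ pb π C :=
  Subgroup.map_mono (Subgroup.comap_mono h)

variable {V N : Subgroup G} {ι : W → G} {π : N →* P} (R : Rl V N ι π)

include R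

theorem Rl.zero : ι 0 = 1 := by
  have h1 := R.add 0 0
  rw [add_zero] at h1
  exact (mul_eq_left.1 h1.symm)

theorem Rl.neg (a : W) : ι (-a) = (ι a)⁻¹ := by
  rw [eq_inv_iff_mul_eq_one, ← R.add, neg_add_cancel, R.zero]

theorem Rl.sub (a b : W) : ι (a - b) = ι a * (ι b)⁻¹ := by
  rw [sub_eq_add_neg, R.add, R.neg]

theorem Rl.com (a b : W) : ι a * ι b = ι b * ι a := by
  rw [← R.add, ← R.add, add_comm]

theorem Rl.fix_iff (n : N) (w : W) : π n • w = w ↔ (n : G) * ι w = ι w * n := by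
  rw [← mul_inv_eq_iff_eq_mul, ← R.act]
  exact R.inj.eq_iff.symm

theorem Rl.mem_fx_iff (B : Subgroup P) (w : W) : w ∈ fx W B ↔ ι w ∈ centralizer (pb π B : Set G) := by
  rw [mem_centralizer_iff]
  constructor
  · intro h g hg
    obtain ⟨h1, h2⟩ := mem_pb.1 hg
    exact (R.fix_iff ⟨g, h1⟩ w).1 (h _ h2)
  · intro h b hb
    obtain ⟨n, rfl⟩ := R.psur b
    exact (R.fix_iff n w).2 (h n (mem_pb.2 ⟨n.2, hb⟩))

theorem Rl.normalizes {g v : G} (hg : g ∈ N) (hv : v ∈ V) : g * v * g⁻¹ ∈ V := by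
  obtain ⟨w, rfl⟩ := R.sur v hv
  have h1 := R.act ⟨g, hg⟩ w
  rw [← h1]
  exact R.mem _

theorem Rl.mem_cmt {B : Subgroup P} {w : W} (hw : w ∈ cmt W B) : ι w ∈ ⁅V, pb π B⁆ := by
  unfold cmt at hw
  induction hw using AddSubgroup.closure_induction with
  | mem w hw =>
    obtain ⟨t, ht, v, rfl⟩ := hw
    obtain ⟨n, rfl⟩ := R.psur t
    rw [R.sub, R.act, commutator_comm]
    exact commutator_mem_commutator (mem_pb.2 ⟨n.2, ht⟩) (R.mem v)
  | zero => rw [R.zero]; exact one_mem _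
  | add a b _ _ ha hb => rw [R.add]; exact mul_mem ha hb
  | neg a _ ha => rw [R.neg]; exact inv_mem ha

theorem Rl.exists_cmt {B : Subgroup P} {g : G} (hg : g ∈ ⁅V, pb π B⁆) : ∃ w ∈ cmt W B, ι w = g := by
  rw [commutator_comm] at hg
  let S : Subgroup G :=
    { carrier := {g | ∃ w ∈ cmt W B, ι w = g}
      one_mem' := ⟨0, zero_mem _, R.zero⟩
      mul_mem' := by
        rintro _ _ ⟨a, ha, rfl⟩ ⟨b, hb, rfl⟩
        exact ⟨a + b, add_mem ha hb, R.add _ _⟩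
      inv_mem' := by
        rintro _ ⟨a, ha, rfl⟩
        exact ⟨-a, neg_mem ha, R.neg _⟩ }
  have h1 : ⁅pb π B, V⁆ ≤ S := by
    rw [commutator_le]
    intro b hb v hv
    obtain ⟨h1, h2⟩ := mem_pb.1 hb
    obtain ⟨w, rfl⟩ := R.sur v hv
    refine ⟨π ⟨b, h1⟩ • w - w, sub_mem_cmt h2 w, ?_⟩
    rw [R.sub, R.act]
    rfl
  exact h1 hg

theorem Rl.cmt_le (B : Subgroup P) : ⁅V, pb π B⁆ ≤ V := by
  intro g hg
  obtain ⟨w, _, rfl⟩ := R.exists_cmt hg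
  exact R.mem w

theorem Rl.le_normalizer (B : Subgroup P) : pb π B ≤ normalizer ((⁅V, pb π B⁆ : Subgroup G) : Set G) := by
  have h1 : ∀ g ∈ pb π B, ∀ u ∈ ⁅V, pb π B⁆, g * u * g⁻¹ ∈ ⁅V, pb π B⁆ := by
    intro g hg u hu
    have h2 : g * u * g⁻¹ * u⁻¹ ∈ ⁅V, pb π B⁆ := by
      rw [commutator_comm]
      exact commutator_mem_commutator hg (R.cmt_le B hu)
    have h3 := mul_mem h2 hu
    rwa [inv_mul_cancel_right] at h3
  intro g hg
  rw [mem_normalizer_iff]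
  intro u
  refine ⟨h1 g hg u, fun h => ?_⟩
  have h2 := h1 g⁻¹ (inv_mem hg) _ h
  have h3 : g⁻¹ * (g * u * g⁻¹) * g⁻¹⁻¹ = u := by group
  rwa [h3] at h2

/-- inverse of `ι` -/
noncomputable def Rl.kp (v : V) : W := Classical.choose (R.sur v v.2)

theorem Rl.kp_spec (v : V) : ι (R.kp v) = v := Classical.choose_spec (R.sur v v.2)

theorem Rl.kp_eq {v : V} {w : W} (h : ι w = v) : R.kp v = w := R.inj (by rw [R.kp_spec, h])

/-- inverse of `ι` on a subgroup -/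
noncomputable def Rl.kh {U : Subgroup G} (hU : U ≤ V) : U →* Multiplicative W where
  toFun := fun u => Multiplicative.ofAdd (R.kp ⟨u, hU u.2⟩)
  map_one' := by
    have h1 : R.kp ⟨(1 : U), hU (1 : U).2⟩ = 0 := R.kp_eq R.zero
    rw [h1]; rfl
  map_mul' := by
    intro a b
    have h1 : R.kp ⟨(a * b : U), hU (a * b : U).2⟩ = R.kp ⟨a, hU a.2⟩ + R.kp ⟨b, hU b.2⟩ := by
      apply R.kp_eq
      rw [R.add, R.kp_spec, R.kp_spec]; rfl
    rw [h1]; rfl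

theorem Rl.kh_spec {U : Subgroup G} (hU : U ≤ V) (u : U) : ι (R.kh hU u).toAdd = u := R.kp_spec ⟨u, hU u.2⟩

omit R in
/-- restriction of `π` -/
def rst (π : N →* P) (B : Subgroup P) : pb π B →* B where
  toFun := fun e => ⟨π ⟨e, (mem_pb.1 e.2).1⟩, (mem_pb.1 e.2).2⟩
  map_one' := by
    apply Subtype.ext
    show π ⟨((1 : pb π B) : G), _⟩ = 1
    rw [← map_one π]; rfl
  map_mul' := by
    intro a b
    apply Subtype.ext
    show π ⟨((a * b : pb π B) : G), _⟩ = π _ * π _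
    rw [← map_mul]; rfl

omit R in
theorem rst_coe (π : N →* P) (B : Subgroup P) (e : pb π B) (h : (e : G) ∈ N) : (rst π B e : P) = π ⟨e, h⟩ := rfl

theorem Rl.rst_surj (B : Subgroup P) : Function.Surjective (rst π B) := by
  rintro ⟨b, hb⟩
  obtain ⟨n, rfl⟩ := R.psur b
  exact ⟨⟨n, mem_pb.2 ⟨n.2, hb⟩⟩, rfl⟩

theorem Rl.act' {B : Subgroup P} (e : pb π B) (w : W) : ι ((rst π B e : P) • w) = e * ι w * (e : G)⁻¹ :=
  R.act ⟨e, (mem_pb.1 e.2).1⟩ w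

theorem Rl.actsL {F : Type} [Field F] {B : Subgroup P} (h : FacL W F B) :
    Cfsg.ActsAsSL2OnSection F ⊤ (pb π B) ⁅V, pb π B⁆ (⁅V, pb π B⁆ ⊓ centralizer ((pb π B : Subgroup G) : Set G)) := by
  refine ⟨R.le_normalizer B, inf_le_left, ?_⟩
  obtain ⟨ρ, Ψ, hs, hk, he⟩ := h
  refine ⟨(ρ : B →* _).comp (rst π B), (AddMonoidHom.toMultiplicative Ψ).comp (R.kh (R.cmt_le B)), ?_, ?_, ?_, ?_⟩
  · rw [MonoidHom.range_eq_top]
    exact ρ.surjective.comp (R.rst_surj B)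
  · intro z
    obtain ⟨d, hd, hd'⟩ := FacL.img_top (V := W) hs he z.toAdd
    refine ⟨⟨ι d, R.mem_cmt hd⟩, ?_⟩
    have h1 : (R.kh (R.cmt_le B) ⟨ι d, R.mem_cmt hd⟩).toAdd = d := R.inj (R.kh_spec _ _)
    show Multiplicative.ofAdd (Ψ (R.kh (R.cmt_le B) ⟨ι d, R.mem_cmt hd⟩).toAdd) = z
    rw [h1, hd']; rfl
  · intro u
    have h1 : (AddMonoidHom.toMultiplicative Ψ).comp (R.kh (R.cmt_le B)) u = 1 ↔
        Ψ (R.kh (R.cmt_le B) u).toAdd = 0 := Iff.rfl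
    rw [h1, hk, R.mem_fx_iff, R.kh_spec, mem_inf]
    exact ⟨fun h => ⟨u.2, h⟩, fun h => h.2⟩
  · intro e u
    have h1 : (e : G) * u * (e : G)⁻¹ ∈ ⁅V, pb π B⁆ := (mem_normalizer_iff.1 (R.le_normalizer B e.2) u).1 u.2
    refine ⟨⟨_, h1⟩, rfl, ?_⟩
    show Ψ (R.kh (R.cmt_le B) ⟨_, h1⟩).toAdd = _
    have h2 : (R.kh (R.cmt_le B) ⟨_, h1⟩).toAdd = (rst π B e : P) • (R.kh (R.cmt_le B) u).toAdd := by
      apply R.inj
      rw [R.kh_spec, R.act', R.kh_spec]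
    rw [h2, he]
    rfl

theorem Rl.actsS {m : ℕ} (hm : 3 ≤ m) {B : Subgroup P} (h : FacS W m B) :
    Cfsg.ActsAsOddPermModuleOnSection m ⊤ (pb π B) ⁅V, pb π B⁆
      (⁅V, pb π B⁆ ⊓ centralizer ((pb π B : Subgroup G) : Set G)) := by
  refine ⟨R.le_normalizer B, inf_le_left, ?_⟩
  obtain ⟨ρ, Ψ, h0, hs, hk, he⟩ := h
  refine ⟨(ρ : B →* _).comp (rst π B), (AddMonoidHom.toMultiplicative Ψ).comp (R.kh (R.cmt_le B)), ?_, ?_, ?_, ?_, ?_⟩
  · rw [MonoidHom.range_eq_top]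
    exact ρ.surjective.comp (R.rst_surj B)
  · intro u
    exact h0 _
  · intro z hz
    obtain ⟨d, hd, hd'⟩ := FacS.img_top (V := W) hm hs he z hz
    refine ⟨⟨ι d, R.mem_cmt hd⟩, ?_⟩
    have h1 : (R.kh (R.cmt_le B) ⟨ι d, R.mem_cmt hd⟩).toAdd = d := R.inj (R.kh_spec _ _)
    show Ψ (R.kh (R.cmt_le B) ⟨ι d, R.mem_cmt hd⟩).toAdd = z
    rw [h1, hd']
  · intro u
    have h1 : (AddMonoidHom.toMultiplicative Ψ).comp (R.kh (R.cmt_le B)) u = 1 ↔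
        Ψ (R.kh (R.cmt_le B) u).toAdd = 0 := Iff.rfl
    rw [h1, hk, R.mem_fx_iff, R.kh_spec, mem_inf]
    exact ⟨fun h => ⟨u.2, h⟩, fun h => h.2⟩
  · intro e u
    have h1 : (e : G) * u * (e : G)⁻¹ ∈ ⁅V, pb π B⁆ := (mem_normalizer_iff.1 (R.le_normalizer B e.2) u).1 u.2
    refine ⟨⟨_, h1⟩, rfl, ?_⟩
    intro i
    show Ψ (R.kh (R.cmt_le B) ⟨_, h1⟩).toAdd i = _
    have h2 : (R.kh (R.cmt_le B) ⟨_, h1⟩).toAdd = (rst π B e : P) • (R.kh (R.cmt_le B) u).toAdd := by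
      apply R.inj
      rw [R.kh_spec, R.act', R.kh_spec]
    rw [h2, he]
    rfl

variable {p : ℕ} {T : Subgroup P} {r : ℕ} {E : Fin r → Subgroup P}

omit R in
theorem commutator_le' (h : Out W p T E) {i j : Fin r} (hij : i ≠ j) :
    ⁅pb π (E i), pb π (E j)⁆ ≤ pb π ⊥ := by
  rw [Subgroup.commutator_le]
  intro a ha b hb
  obtain ⟨ha1, ha2⟩ := mem_pb.1 ha
  obtain ⟨hb1, hb2⟩ := mem_pb.1 hb
  have h1 : a * b * a⁻¹ * b⁻¹ ∈ N := mul_mem (mul_mem (mul_mem ha1 hb1) (inv_mem ha1)) (inv_mem hb1)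
  show a * b * a⁻¹ * b⁻¹ ∈ pb π ⊥
  rw [mem_pb]
  refine ⟨h1, ?_⟩
  have h2 : (⟨a * b * a⁻¹ * b⁻¹, h1⟩ : N) = ⟨a, ha1⟩ * ⟨b, hb1⟩ * (⟨a, ha1⟩ : N)⁻¹ * (⟨b, hb1⟩ : N)⁻¹ := rfl
  rw [h2, map_mul, map_mul, map_mul, map_inv, map_inv, mem_bot, h.comm i j hij _ ha2 _ hb2]
  group

theorem Rl.pb_iSup {ι' : Type*} [Nonempty ι'] (B : ι' → Subgroup P) : pb π (⨆ i, B i) = ⨆ i, pb π (B i) := by
  unfold pb
  rw [← Subgroup.map_iSup]
  congr 1
  have h1 : (⨆ i, (B i).comap π).map π = ⨆ i, B i := by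
    rw [Subgroup.map_iSup]
    congr 1
    funext i
    exact Subgroup.map_comap_eq_self_of_surjective R.psur _
  rw [← h1, Subgroup.comap_map_eq, sup_eq_left]
  obtain ⟨i⟩ : Nonempty ι' := inferInstance
  exact le_trans (Subgroup.ker_le_comap π (B i)) (le_iSup (fun i => (B i).comap π) i)

omit [AddCommGroup W] [DistribMulAction P W] R in
theorem pb_top : pb π (⊤ : Subgroup P) = N := by
  unfold pb
  rw [Subgroup.comap_top, ← MonoidHom.range_eq_map, Subgroup.range_subtype]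

omit R in
theorem inf_le (h : Out W p T E) (i : Fin r) :
    pb π (E i) ⊓ (⨆ j ∈ {j | j ≠ i}, pb π (E j)) ≤ pb π ⊥ := by
  rintro g ⟨hg1, hg2⟩
  obtain ⟨h1, h2⟩ := mem_pb.1 hg1
  rw [mem_pb]
  refine ⟨h1, ?_⟩
  rw [← h.inf_bot i]
  refine ⟨h2, ?_⟩
  have h3 : (⨆ j ∈ {j | j ≠ i}, pb π (E j)) ≤ pb π (⨆ j ∈ {j | j ≠ i}, E j) := by
    apply iSup₂_le
    intro j hj
    exact pb_mono π (le_biSup E hj)
  obtain ⟨h4, h5⟩ := mem_pb.1 (h3 hg2)
  exact h5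

theorem Rl.conj (h : Out W p T E) (i j : Fin r) :
    ∃ n : N, π n ∈ T ∧ (pb π (E i)).map (MulAut.conj (n : G)).toMonoidHom = pb π (E j) := by
  obtain ⟨t, ht, hij⟩ := h.conj i j
  obtain ⟨n, rfl⟩ := R.psur t
  refine ⟨n, ht, ?_⟩
  ext g
  constructor
  · rintro ⟨x, hx, rfl⟩
    obtain ⟨h1, h2⟩ := mem_pb.1 hx
    rw [mem_pb]
    refine ⟨mul_mem (mul_mem n.2 h1) (inv_mem n.2), ?_⟩
    rw [← hij, H51.FF.mem_cg]
    have h3 : (⟨(MulAut.conj (n : G)).toMonoidHom x, mul_mem (mul_mem n.2 h1) (inv_mem n.2)⟩ : N) =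
      n * ⟨x, h1⟩ * n⁻¹ := rfl
    rw [h3, map_mul, map_mul, map_inv]
    have h4 : (π n)⁻¹ * (π n * π ⟨x, h1⟩ * (π n)⁻¹) * π n = π ⟨x, h1⟩ := by group
    rw [h4]
    exact h2
  · intro hg
    obtain ⟨h1, h2⟩ := mem_pb.1 hg
    refine ⟨(n : G)⁻¹ * g * n, ?_, ?_⟩
    · show (n : G)⁻¹ * g * n ∈ pb π (E i)
      rw [mem_pb]
      refine ⟨mul_mem (mul_mem (inv_mem n.2) h1) n.2, ?_⟩
      rw [← hij, H51.FF.mem_cg] at h2
      have h3 : (⟨(n : G)⁻¹ * g * n, mul_mem (mul_mem (inv_mem n.2) h1) n.2⟩ : N) = n⁻¹ * ⟨g, h1⟩ * n := rfl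
      rw [h3, map_mul, map_mul, map_inv]
      exact h2
    · show (n : G) * ((n : G)⁻¹ * g * n) * (n : G)⁻¹ = g
      group

theorem Rl.decomp (h : Out W p T E) :
    (V ⊓ centralizer (((⨆ i, pb π (E i)) : Subgroup G) : Set G)) ⊔ (⨆ i, ⁅V, pb π (E i)⁆) = V := by
  have : Nonempty (Fin r) := ⟨⟨0, h.pos⟩⟩
  apply le_antisymm
  · apply sup_le inf_le_left
    exact iSup_le fun i => R.cmt_le _
  · intro g hg
    obtain ⟨v, rfl⟩ := R.sur g hg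
    obtain ⟨d, hd, hd'⟩ := h.decomp v
    have h1 : v = (v - ∑ i, d i) + ∑ i, d i := by abel
    rw [h1, R.add]
    apply mul_mem
    · apply Subgroup.mem_sup_left
      refine ⟨R.mem _, ?_⟩
      rw [← R.pb_iSup]
      exact (R.mem_fx_iff _ _).1 hd'
    · apply Subgroup.mem_sup_right
      have h2 : ∀ s : Finset (Fin r), ι (∑ i ∈ s, d i) ∈ (⨆ i, ⁅V, pb π (E i)⁆) := by
        classical
        intro s
        induction s using Finset.induction_on with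
        | empty => rw [Finset.sum_empty, R.zero]; exact one_mem _
        | insert a s ha ih =>
          rw [Finset.sum_insert ha, R.add]
          exact mul_mem (le_iSup (fun i => ⁅V, pb π (E i)⁆) a (R.mem_cmt (hd a))) ih
      exact h2 _

theorem Rl.cmt_cmt (h : Out W p T E) {i j : Fin r} (hij : i ≠ j) : ⁅⁅V, pb π (E i)⁆, pb π (E j)⁆ = ⊥ := by
  rw [commutator_eq_bot_iff_le_centralizer]
  intro g hg
  obtain ⟨w, hw, rfl⟩ := R.exists_cmt hg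
  exact (R.mem_fx_iff _ _).1 (h.cmt_le_fx hij hw)

theorem Rl.sup_eq (h : Out W p T E) {T' : Subgroup G} (hT : ∀ t ∈ T, ∃ n : N, π n = t ∧ (n : G) ∈ T')
    (hT' : T' ≤ N) : (⨆ i, pb π (E i)) ⊔ T' ⊔ pb π ⊥ = N := by
  have : Nonempty (Fin r) := ⟨⟨0, h.pos⟩⟩
  apply le_antisymm
  · exact sup_le (sup_le (iSup_le fun i => pb_le π _) hT') (pb_le π _)
  · intro g hg
    have h1 : pb π (⨆ i, E i) ⊔ T' ⊔ pb π ⊥ = (((⨆ i, E i).comap π ⊔ T'.subgroupOf N ⊔ π.ker).map N.subtype) := by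
      rw [Subgroup.map_sup, Subgroup.map_sup, Subgroup.subgroupOf_map_subtype, inf_eq_left.2 hT']
      rfl
    rw [← R.pb_iSup, h1]
    refine ⟨⟨g, hg⟩, ?_, rfl⟩
    have h2 : (⨆ i, E i).comap π ⊔ T'.subgroupOf N ⊔ π.ker = ⊤ := by
      have h3 : ((⨆ i, E i).comap π ⊔ T'.subgroupOf N).map π = ⊤ := by
        rw [eq_top_iff, ← h.sup, Subgroup.map_sup, Subgroup.map_comap_eq_self_of_surjective R.psur]
        apply sup_le_sup_left
        intro t ht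
        obtain ⟨n, rfl, hn⟩ := hT t ht
        exact ⟨n, mem_subgroupOf.2 hn, rfl⟩
      rw [← Subgroup.comap_map_eq, h3, Subgroup.comap_top]
    rw [h2]
    exact mem_top _

end

end H52.FS
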