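import Cfsg.Agent.Lib.H51.FFMin

/-!
# The output format of the structure theorem for FF-modules of p-minimal groups

`Out p V T E` : the subgroups `E i` (module form) - the CORE statement is `∃ r E, Out p V T E`.
-/

set_option autoImplicit false

namespace H52.FS

open Subgroup H53.PU

section

variable {P : Type*} [Group P] (V : Type*) [AddCommGroup V] [DistribMulAction P V]

/-- `E` is `SL₂(F)` and acts naturally on `V / C_V(E)` -/
def FacL (F : Type) [Field F] (E : Subgroup P) : Prop :=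
  ∃ (ρ : E ≃* Matrix.SpecialLinearGroup (Fin 2) F) (Ψ : V →+ (Fin 2 → F)),
    Function.Surjective Ψ ∧ (∀ v, Ψ v = 0 ↔ v ∈ fx V E) ∧
    ∀ (x : E) (v : V), Ψ ((x : P) • v) =
      ((ρ x : Matrix.SpecialLinearGroup (Fin 2) F) : Matrix (Fin 2) (Fin 2) F).mulVec (Ψ v)

/-- `E` is the symmetric group of degree `m` and acts on `V / C_V(E)` as on its even weight module -/
def FacS (m : ℕ) (E : Subgroup P) : Prop :=
  ∃ (ρ : E ≃* Equiv.Perm (Fin m)) (Ψ : V →+ (Fin m → ZMod 2)),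
    (∀ v, ∑ i, Ψ v i = 0) ∧ (∀ u : Fin m → ZMod 2, ∑ i, u i = 0 → ∃ v, Ψ v = u) ∧
    (∀ v, Ψ v = 0 ↔ v ∈ fx V E) ∧
    ∀ (x : E) (v : V) (i : Fin m), Ψ ((x : P) • v) i = Ψ v ((ρ x)⁻¹ i)

/-- the factors -/
def Fac (p : ℕ) (E : Subgroup P) : Prop :=
  ∃ n : ℕ, 1 ≤ n ∧ ((∃ (F : Type) (_ : Field F) (_ : Fintype F), Fintype.card F = p ^ n ∧ FacL V F E) ∨
    (p = 2 ∧ FacS V (2 ^ n + 1) E))

/-- the output of the structure theorem, in module form -/
structure Out (p : ℕ) (T : Subgroup P) {r : ℕ} (E : Fin r → Subgroup P) : Prop where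
  pos : 1 ≤ r
  comm : ∀ i j, i ≠ j → ∀ x ∈ E i, ∀ y ∈ E j, x * y = y * x
  sup : (⨆ i, E i) ⊔ T = ⊤
  conj : ∀ i j, ∃ t ∈ T, H51.FF.cg t (E i) = E j
  mod : ∀ i j, i ≠ j → ∀ x ∈ E i, ∀ v : V, x • v - v ∈ fx V (E j)
  fac : ∀ i, Fac V p (E i)

end

end H52.FS
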