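import Cfsg.Agent.Lib.H52.Foc1
import Cfsg.Agent.Lib.H52.CSS
import Cfsg.Agent.Lib.H52.FrakM
import Cfsg.Agent.Lib.H51.PMinimal

/-!
# The structure of a minimal failure of control of transfer by all characteristic functors
-/

set_option autoImplicit false
set_option linter.unusedVariables false

namespace H52.Foc

open Subgroup Cfsg H39.MinFail

section ch

variable {G : Type*} [Group G]

/-- `K` is a characteristic subgroup of `S`, ambient form -/
def Ch (S K : Subgroup G) : Prop := K ≤ S ∧ ∀ (φ : MulAut ↥S) (x : ↥S), (x : G) ∈ K → ((φ x : ↥S) : G) ∈ K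

theorem Ch.char {S K : Subgroup G} (h : Ch S K) : (K.subgroupOf S).Characteristic := by
  rw [characteristic_iff_map_le]
  rintro φ _ ⟨x, hx, rfl⟩
  exact h.2 φ x hx

theorem ch_of {S : Subgroup G} {K : Subgroup ↥S} (h : K.Characteristic) : Ch S (K.map S.subtype) := by
  refine ⟨map_subtype_le K, ?_⟩
  rintro φ x ⟨y, hy, hyx⟩
  have h1 : y = x := Subtype.ext hyx
  rw [h1] at hy
  exact ⟨φ x, (characteristic_iff_map_le.1 h φ) ⟨x, hy, rfl⟩, rfl⟩

theorem Ch.trans {S B K : Subgroup G} (h : Ch S B) (h' : Ch B K) : Ch S K := by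
  refine ⟨h'.1.trans h.1, ?_⟩
  intro φ x hx
  have h1 : ∀ (φ : MulAut ↥S) (b : ↥B), ((φ ⟨b, h.1 b.2⟩ : ↥S) : G) ∈ B := fun φ b => h.2 φ ⟨b, h.1 b.2⟩ b.2
  let ψ : MulAut ↥B :=
    { toFun := fun b => ⟨(φ ⟨b, h.1 b.2⟩ : ↥S), h1 φ b⟩
      invFun := fun b => ⟨(φ⁻¹ ⟨b, h.1 b.2⟩ : ↥S), h1 φ⁻¹ b⟩
      left_inv := by
        intro b
        apply Subtype.ext
        show ((φ⁻¹ (φ ⟨b, h.1 b.2⟩) : ↥S) : G) = b
        rw [MulAut.inv_apply_self]
      right_inv := by
        intro b
        apply Subtype.ext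
        show ((φ (φ⁻¹ ⟨b, h.1 b.2⟩) : ↥S) : G) = b
        rw [MulAut.apply_inv_self]
      map_mul' := by
        intro a b
        apply Subtype.ext
        show ((φ (⟨a, h.1 a.2⟩ * ⟨b, h.1 b.2⟩) : ↥S) : G) = (φ ⟨a, h.1 a.2⟩ : ↥S) * (φ ⟨b, h.1 b.2⟩ : ↥S)
        rw [map_mul]; rfl }
  exact h'.2 ψ ⟨x, h'.1 hx⟩ hx

theorem Ch.normalizer_le {S K : Subgroup G} (h : Ch S K) : normalizer (S : Set G) ≤ normalizer (K : Set G) := by
  have key : ∀ g ∈ normalizer (S : Set G), ∀ x ∈ K, g * x * g⁻¹ ∈ K := by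
    intro g hg x hx
    have := h.2 (MulAut.conjNormal (H := S.subgroupOf (normalizer (S : Set G))) ⟨g, hg⟩ |> fun e =>
      ((Subgroup.subgroupOfEquivOfLe (le_normalizer (H := S))).symm.trans e).trans
        (Subgroup.subgroupOfEquivOfLe (le_normalizer (H := S)))) ⟨x, h.1 hx⟩ hx
    exact this
  intro g hg
  rw [mem_normalizer_iff]
  intro x
  refine ⟨key g hg x, fun hx => ?_⟩
  have h1 := key g⁻¹ (inv_mem hg) _ hx
  have e : g⁻¹ * (g * x * g⁻¹) * g⁻¹⁻¹ = x := by group
  rwa [e] at h1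

end ch

universe u

/-- the situation -/
structure Ft (p : ℕ) {G : Type*} [Group G] (S : Sylow p G) (M V X Y : Subgroup G) : Prop extends H52.CSS.Std p S M V where
  noch : ∀ K : Subgroup G, K ≠ ⊥ → Ch (S : Subgroup G) K → ¬ K.Normal
  chief : IsChiefFactor X Y
  XQ : X ≤ pCore p G
  XC : ⁅X, centralizer (V : Set G)⁆ ≤ Y

theorem noch_of {G : Type u} [Group G] [Finite G] {p : ℕ} [hp : Fact p.Prime] (h : IsMinFail p (AllW.{u} p) G)
    (S : Sylow p G) : ∀ K : Subgroup G, K ≠ ⊥ → Ch (S : Subgroup G) K → ¬ K.Normal := by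
  intro K hK hc hn
  have h1 : (K.subgroupOf (S : Subgroup G)).map (S : Subgroup G).subtype = K := by
    rw [subgroupOf_map_subtype, inf_eq_left.2 hc.1]
  refine no_char h S (K.subgroupOf (S : Subgroup G)) ?_ hc.char ?_
  · intro h2
    apply hK
    rw [← h1, h2, Subgroup.map_bot]
  · rw [h1]; exact hn

theorem exists_ft {G : Type u} [Group G] [Finite G] {p : ℕ} [hp : Fact p.Prime] (h : IsMinFail p (AllW.{u} p) G)
    (S : Sylow p G) : ∃ M V X Y : Subgroup G, Ft p S M V X Y ∧
      ∀ u : G, u ∈ (S : Subgroup G) → u ∉ pCore p G → ¬ iterCommutator X (Subgroup.zpowers u) (p - 1) ≤ Y := by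
  set 𝓦 := AllW.{u} p with h𝓦
  have hnoch := noch_of h S
  have hSne : (S : Subgroup G) ≠ ⊥ := by
    intro h0
    apply h.normalizer_ne_top S
    rw [h0, normalizer_eq_top]
  set M := MM p 𝓦 (S : Subgroup G) with hM
  have hMtop : M ≠ ⊤ := h.MM_ne_top S
  have hNM : normalizer ((S : Subgroup G) : Set G) ≤ M := h.le_MM S (le_normalizer) (h.normalizer_ne_top S)
  have hSM : (S : Subgroup G) ≤ M := le_normalizer.trans hNM
  have hMc : IsCoatom M := by
    refine ⟨hMtop, fun K hK => ?_⟩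
    by_contra hK'
    exact hK.not_ge (h.le_MM S (hSM.trans hK.le) hK')
  have hmin : IsPMinimal p G := by
    refine H51.PMinimal.isPMinimal_of_one S ⟨fun hn => ?_, M, ⟨hMc, hSM⟩, ?_⟩
    · exact h.normalizer_ne_top S (normalizer_eq_top_iff.2 hn)
    · rintro K ⟨hK, hSK⟩
      rcases (h.le_MM S hSK hK.1).eq_or_lt with h1 | h1
      · exact h1
      · exact absurd (hK.2 M h1) hMtop
  have hloc : H52.CSS.Loc p S M := by
    refine ⟨hMc, hSM, fun N hN hSN => h.le_MM S hSN hN, ?_, ?_⟩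
    · apply h.le_MM S
      · have h1 : omegaOneCenter p (S : Subgroup G) ≤ centralizer ((S : Subgroup G) : Set G) :=
          fun x hx => (H52.CSS.mem_omegaOneCenter.1 hx).2.1
        exact (Subgroup.le_centralizer_iff).1 h1
      · intro htop
        refine hnoch (omegaOneCenter p (S : Subgroup G)) ?_ ?_ ?_
        · exact H52.FrakM.omegaOne_ne_bot (S.2.to_le inf_le_left) (H52.FrakM.inf_centralizer_ne_bot S.2 hSne)
        · refine ⟨fun x hx => (H52.CSS.mem_omegaOneCenter.1 hx).1, ?_⟩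
          intro φ x hx
          obtain ⟨h1, h2, h3⟩ := H52.CSS.mem_omegaOneCenter.1 hx
          refine H52.CSS.mem_omegaOneCenter.2 ⟨(φ x).2, ?_, ?_⟩
          · rw [mem_centralizer_iff] at h2 ⊢
            intro y hy
            have h4 := h2 (φ⁻¹ ⟨y, hy⟩ : ↥(S : Subgroup G)) (φ⁻¹ ⟨y, hy⟩).2
            have h5 : (φ⁻¹ ⟨y, hy⟩) * x = x * (φ⁻¹ ⟨y, hy⟩) := Subtype.ext h4
            have h6 := congrArg φ h5
            rw [map_mul, map_mul, MulAut.apply_inv_self] at h6
            exact congrArg Subtype.val h6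
          · have h4 : x ^ p = 1 := Subtype.ext h3
            have h5 : (φ x) ^ p = 1 := by rw [← map_pow, h4, map_one]
            exact congrArg Subtype.val h5
        · constructor
          intro n hn g
          have h1 : g ∈ centralizer (omegaOneCenter p (S : Subgroup G) : Set G) := by rw [htop]; trivial
          have h2 := mem_centralizer_iff.1 h1 n hn
          rw [← h2, mul_inv_cancel_right]
          exact hn
    · apply h.le_MM S
      · exact le_normalizer.trans (H13.SylowN.normalizer_le_normalizer_thompsonOf _)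
      · intro htop
        refine hnoch (thompsonSubgroupOf p (S : Subgroup G)) ?_ (ch_of inferInstance) (normalizer_eq_top_iff.1 htop)
        intro h0
        have h1 : p ∣ Nat.card ↥(S : Subgroup G) := by
          have hn : Nontrivial ↥(S : Subgroup G) := (nontrivial_iff_ne_bot _).2 hSne
          obtain ⟨n, hn0, hn⟩ := S.2.nontrivial_iff_card.1 hn
          rw [hn]; exact dvd_pow_self p (by omega)
        apply H13.Thompson.thompson_ne_bot (p := p) (G := ↥(S : Subgroup G)) h1
        exact (map_eq_bot_iff_of_injective _ (S : Subgroup G).subtype_injective).1 h0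
  obtain ⟨X, Y, hXY, hXQ, hXT, hYT, hu⟩ := exists_chief h S
  have hstd : H52.CSS.Std p S M (omegaOneCenter p (pCore p G)) :=
    { hloc with mn := hmin, cp := h.centralizer_le, eqV := rfl }
  refine ⟨M, omegaOneCenter p (pCore p G), X, Y, ⟨hstd, hnoch, hXY, hXQ, ?_⟩, hu⟩
  have hXn := hXY.2.1
  have hYn := hXY.2.2.1
  have hVn := hstd.nor
  set C := centralizer (omegaOneCenter p (pCore p G) : Set G) with hC
  have hcn : (⁅X, C⁆ ⊔ Y).Normal := inferInstance
  rcases hXY.2.2.2 (⁅X, C⁆ ⊔ Y) hcn le_sup_right (sup_le (commutator_le_left _ _) hXY.1.le) with h1 | h1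
  · rw [← h1]; exact le_sup_left
  · exfalso
    apply hXT
    rw [← h1]
    refine sup_le ?_ hYT
    refine (commutator_mono hXQ hstd.CM).trans ?_
    exact (h.commutator_pCore_le S hSM hMtop).trans inf_le_left

end H52.Foc
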