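import Cfsg.Agent.Lib.H52.Foc2
import Cfsg.Agent.Lib.H51.OffFinal
import Cfsg.Agent.Lib.H52.Offender
import Cfsg.Agent.Lib.H38.Basic

/-!
# Baumann's argument, first part
-/

set_option autoImplicit false
set_option linter.unusedVariables false
set_option linter.unusedSectionVars false
set_option linter.style.haveILetI false

namespace H52.Bau

open Subgroup H51.FF H51.SylowAmb H53.PU H51.OG Cfsg H52.CSS H14.MaxIn H52.Foc

variable {G : Type*} [Group G] [Finite G] {p : ℕ} [hp : Fact p.Prime]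

theorem le_of_maxIn {K A B : Subgroup G} (hA : A ∈ maxIn true p K) (hB : B ≤ K) (hE : PrE true p B)
    (hc : ∀ a ∈ A, ∀ b ∈ B, a * b = b * a) : B ≤ A := by
  have h2 := hA.2.2 (A ⊔ B) (sup_le hA.1 hB) (H52.Offender.prE_sup hA.2.1 hE hc)
  have h3 : A = A ⊔ B := Subgroup.eq_of_le_of_card_ge le_sup_left h2
  rw [h3]; exact le_sup_right

/-- the Thompson subgroup and its centre -/
def Jt (p : ℕ) (S : Subgroup G) : Subgroup G := thompsonSubgroupOf p S
def ZJ (p : ℕ) (S : Subgroup G) : Subgroup G := omegaOneCenter p (Jt p S)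
def BB (p : ℕ) (S : Subgroup G) : Subgroup G := S ⊓ centralizer (ZJ p S : Set G)
/-- the intersection of the maximal elementary abelian subgroups of `Q` -/
def XI (p : ℕ) (Q : Subgroup G) : Subgroup G := sInf (maxIn true p Q)

theorem le_Jt {S A : Subgroup G} (hA : A ∈ maxIn true p S) : A ≤ Jt p S := by
  rw [Jt, H52.SFour.thompsonOf_eq]; exact le_sSup hA

theorem Jt_le (S : Subgroup G) : Jt p S ≤ S := H13.SylowN.thompsonOf_le _

theorem ZJ_le (S : Subgroup G) : ZJ p S ≤ Jt p S := fun x hx => (mem_omegaOneCenter.1 hx).1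

theorem ZJ_comm {S : Subgroup G} {x y : G} (hx : x ∈ ZJ p S) (hy : y ∈ Jt p S) : y * x = x * y :=
  mem_centralizer_iff.1 (mem_omegaOneCenter.1 hx).2.1 y hy

theorem ZJ_el (S : Subgroup G) : PrE true p (ZJ p S) := prE_true.2 (omegaOneCenter_elem _)

theorem mem_ZJ {S : Subgroup G} {x : G} : x ∈ ZJ p S ↔ x ∈ Jt p S ∧ x ∈ centralizer (Jt p S : Set G) ∧ x ^ p = 1 :=
  mem_omegaOneCenter

theorem ZJ_le_of_max {S A : Subgroup G} (hA : A ∈ maxIn true p S) : ZJ p S ≤ A := by
  refine le_of_maxIn hA ((ZJ_le S).trans (Jt_le S)) (ZJ_el S) ?_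
  intro a ha z hz
  exact ZJ_comm hz (le_Jt hA ha)

theorem max_le_BB {S A : Subgroup G} (hA : A ∈ maxIn true p S) : A ≤ BB p S := by
  refine le_inf hA.1 ?_
  intro a ha
  rw [mem_centralizer_iff]
  intro z hz
  exact (ZJ_comm hz (le_Jt hA ha)).symm

variable {S : Sylow p G} {M V : Subgroup G} (s : Std p S M V)

include s

theorem vl_le {A : Subgroup G} (hA : A ∈ maxIn true p (S : Subgroup G)) :
    haveI := s.nor
    letI := H51.NAct.addV V (ab_of s.elV)
    letI := actH V (ab_of s.elV)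
    vl (Additive V) (A.map (ph V)) ≤ Nat.card (Additive V) := by
  haveI := s.nor
  letI := H51.NAct.addV V (ab_of s.elV)
  letI := actH V (ab_of s.elV)
  obtain ⟨wd, _⟩ := s.sit.wd
  refine wd.le _ ((S.2.to_le hA.1).map _) ?_
  rintro _ ⟨a, ha, rfl⟩ _ ⟨b, hb, rfl⟩
  rw [← map_mul, ← map_mul, hA.2.1.comm ha hb]

/-- `V C_A(V)` -/
theorem sup_mem {A : Subgroup G} (hA : A ∈ maxIn true p (S : Subgroup G)) :
    V ⊔ (A ⊓ centralizer (V : Set G)) ∈ maxIn true p (S : Subgroup G) := by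
  haveI := s.nor
  letI := H51.NAct.addV V (ab_of s.elV)
  letI := actH V (ab_of s.elV)
  have hker := ph_ker V (ab_of s.elV)
  have h1 := H1.Hall.card_map_mul_card_inf_ker (ph V) A
  rw [hker] at h1
  set D := A ⊓ centralizer (V : Set G) with hD
  have hcen : V ≤ centralizer (D : Set G) := by
    rw [Subgroup.le_centralizer_iff]
    exact inf_le_right
  have hVD : V ≤ normalizer (D : Set G) := hcen.trans (centralizer_le_normalizer _)
  have h2 := H13.Thompson.card_sup_mul_card_inf hVD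
  have hpr : PrE true p (V ⊔ D) := by
    refine H52.Offender.prE_sup (prE_true.2 s.elV) (hA.2.1.mono inf_le_left) ?_
    intro x hx y hy
    exact ((mem_centralizer_iff.1 hy.2) x hx)
  have hle : V ⊔ D ≤ (S : Subgroup G) := sup_le s.VT (inf_le_left.trans hA.1)
  refine mem_maxIn_of_card hA hle hpr (le_antisymm (hA.2.2 _ hle hpr) ?_)
  have h4 : Nat.card ↥(V ⊓ D) ≤ Nat.card ↥(V ⊓ centralizer (A : Set G)) := by
    apply Nat.card_mono (Set.toFinite _)
    have h7 : A ≤ centralizer (A : Set G) := by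
      intro x hx
      rw [mem_centralizer_iff]
      intro y hy
      exact hA.2.1.comm hy hx
    exact inf_le_inf_left V (inf_le_left.trans h7)
  have h5 := vl_le s hA
  unfold vl at h5
  rw [card_fx_map V (ab_of s.elV)] at h5
  have h6 : Nat.card (Additive V) = Nat.card V := rfl
  rw [h6] at h5
  have p1 : 0 < Nat.card ↥(V ⊓ D) := Nat.card_pos
  by_contra hcon
  push Not at hcon
  have h8 : Nat.card ↥(V ⊔ D) * Nat.card ↥(V ⊓ D) < Nat.card A * Nat.card ↥(V ⊓ D) :=
    Nat.mul_lt_mul_of_pos_right hcon p1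
  rw [h2] at h8
  have h9 : Nat.card A * Nat.card ↥(V ⊓ D) ≤ Nat.card V * Nat.card D := by
    calc Nat.card A * Nat.card ↥(V ⊓ D) ≤ Nat.card A * Nat.card ↥(V ⊓ centralizer (A : Set G)) := Nat.mul_le_mul_left _ h4
      _ = (Nat.card ↥(A.map (ph V)) * Nat.card ↥(V ⊓ centralizer (A : Set G))) * Nat.card D := by rw [← h1]; ring
      _ ≤ Nat.card V * Nat.card D := Nat.mul_le_mul_right _ h5
  omega

theorem sup_le_Q {A : Subgroup G} (hA : A ∈ maxIn true p (S : Subgroup G)) :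
    V ⊔ (A ⊓ centralizer (V : Set G)) ≤ pCore p G := by
  refine sup_le (fun x hx => (s.memV.1 hx).1) ?_
  exact (le_inf inf_le_right (inf_le_left.trans hA.1)).trans s.CT

theorem maxQ_iff {A : Subgroup G} : A ∈ maxIn true p (pCore p G) ↔ A ∈ maxIn true p (S : Subgroup G) ∧ A ≤ pCore p G := by
  obtain ⟨A₀, hA₀⟩ := maxIn_nonempty true p (S : Subgroup G)
  have h1 := sup_mem s hA₀
  have h2 := sup_le_Q s hA₀
  have h3 : V ⊔ (A₀ ⊓ centralizer (V : Set G)) ∈ maxIn true p (pCore p G) :=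
    ⟨h2, h1.2.1, fun B hB hE => h1.2.2 B (hB.trans s.QT) hE⟩
  constructor
  · intro hA
    refine ⟨mem_maxIn_of_card h1 (hA.1.trans s.QT) hA.2.1 (le_antisymm (h3.2.2 A hA.1 hA.2.1) (hA.2.2 _ h2 h1.2.1)), hA.1⟩
  · rintro ⟨hA, hAQ⟩
    exact ⟨hAQ, hA.2.1, fun B hB hE => hA.2.2 B (hB.trans s.QT) hE⟩

theorem V_le_XI : V ≤ XI p (pCore p G) := by
  apply le_sInf
  intro A hA
  refine le_of_maxIn hA (fun x hx => (s.memV.1 hx).1) (prE_true.2 s.elV) ?_
  intro a ha v hv
  exact mem_centralizer_iff.1 (s.memV.1 hv).2.1 a (hA.1 ha)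

theorem ZJ_le_XI : ZJ p (S : Subgroup G) ≤ XI p (pCore p G) :=
  le_sInf fun A hA => ZJ_le_of_max ((maxQ_iff s).1 hA).1

theorem XI_le {A : Subgroup G} (hA : A ∈ maxIn true p (S : Subgroup G)) (g : G) :
    XI p (pCore p G) ≤ V ⊔ (A.map (MulAut.conj g).toMonoidHom ⊓ centralizer (V : Set G)) := by
  haveI := s.nor
  have hQn : (pCore p G).Normal := H1.Cores.pCore_normal p
  have hQ : (pCore p G).map (MulAut.conj g).toMonoidHom = pCore p G := H38.Basic.conj_normal _ g
  have hV : V.map (MulAut.conj g).toMonoidHom = V := (haveI := s.nor; H38.Basic.conj_normal V g)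
  have hC : (centralizer (V : Set G)).map (MulAut.conj g).toMonoidHom = centralizer (V : Set G) :=
    H38.Basic.conj_normal _ g
  have h1 : V ⊔ (A ⊓ centralizer (V : Set G)) ∈ maxIn true p (pCore p G) := (maxQ_iff s).2 ⟨sup_mem s hA, sup_le_Q s hA⟩
  have h2 := maxIn_conj h1 (g := g) (by
    rw [← hQ]; exact map_mono h1.1)
  rw [Subgroup.map_sup, Subgroup.map_inf _ _ _ (MulAut.conj g).injective, hV, hC] at h2
  exact sInf_le h2

/-- the elementary abelian subgroup `V Ω₁(Z(J))` -/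
theorem YJ_el : PrE true p (V ⊔ ZJ p (S : Subgroup G)) := by
  obtain ⟨A₀, hA₀⟩ := maxIn_nonempty true p (pCore p G)
  refine hA₀.2.1.mono (sup_le ?_ ?_)
  · exact (V_le_XI s).trans (sInf_le hA₀)
  · exact (ZJ_le_XI s).trans (sInf_le hA₀)

theorem YJ_le_Q : V ⊔ ZJ p (S : Subgroup G) ≤ pCore p G := by
  obtain ⟨A₀, hA₀⟩ := maxIn_nonempty true p (pCore p G)
  exact (sup_le ((V_le_XI s).trans (sInf_le hA₀)) ((ZJ_le_XI s).trans (sInf_le hA₀))).trans hA₀.1

theorem YJ_split {A : Subgroup G} (hA : A ∈ maxIn true p (S : Subgroup G)) (g : G) {y : G}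
    (hy : y ∈ V ⊔ ZJ p (S : Subgroup G)) :
    ∃ v ∈ V, ∃ c ∈ V ⊔ ZJ p (S : Subgroup G), c ∈ A.map (MulAut.conj g).toMonoidHom ∧ y = v * c := by
  haveI := s.nor
  have h1 := (sup_le ((V_le_XI s).trans (XI_le s hA g)) ((ZJ_le_XI s).trans (XI_le s hA g))) hy
  obtain ⟨v, hv, c, hc, rfl⟩ := mem_sup_of_normal_left.1 h1
  refine ⟨v, hv, c, ?_, hc.1, rfl⟩
  have := mul_mem (inv_mem (mem_sup_left hv : v ∈ V ⊔ ZJ p (S : Subgroup G))) hy
  rwa [inv_mul_cancel_left] at this

theorem YJ_normal : (V ⊔ ZJ p (S : Subgroup G)).Normal := by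
  haveI := s.nor
  rw [← normalizer_eq_top_iff]
  by_contra hne
  have hSN : (S : Subgroup G) ≤ normalizer ((V ⊔ ZJ p (S : Subgroup G) : Subgroup G) : Set G) := by
    have h1 : (S : Subgroup G) ≤ normalizer (ZJ p (S : Subgroup G) : Set G) := by
      have h2 : (S : Subgroup G) ≤ normalizer (Jt p (S : Subgroup G) : Set G) :=
        le_normalizer.trans (H13.SylowN.normalizer_le_normalizer_thompsonOf _)
      have key : ∀ g ∈ (S : Subgroup G), ∀ x ∈ ZJ p (S : Subgroup G), g * x * g⁻¹ ∈ ZJ p (S : Subgroup G) := by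
        intro g hg x hx
        obtain ⟨h3, h4, h5⟩ := mem_ZJ.1 hx
        refine mem_ZJ.2 ⟨(mem_normalizer_iff.1 (h2 hg) x).1 h3, ?_, ?_⟩
        · rw [mem_centralizer_iff] at h4 ⊢
          intro y hy
          have h6 := h4 (g⁻¹ * y * g) (by
            have := (mem_normalizer_iff.1 (inv_mem (h2 hg)) y).1 hy
            rwa [inv_inv] at this)
          calc y * (g * x * g⁻¹) = g * ((g⁻¹ * y * g) * x) * g⁻¹ := by group
            _ = g * (x * (g⁻¹ * y * g)) * g⁻¹ := by rw [h6]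
            _ = g * x * g⁻¹ * y := by group
        · rw [conj_pow, h5]; group
      intro g hg
      rw [mem_normalizer_iff]
      intro x
      refine ⟨key g hg x, fun hx => ?_⟩
      have h3 := key g⁻¹ (inv_mem hg) _ hx
      have e : g⁻¹ * (g * x * g⁻¹) * g⁻¹⁻¹ = x := by group
      rwa [e] at h3
    intro g hg
    have h3 := h1 hg
    rw [mem_normalizer_iff_map_conj_eq] at h3 ⊢
    have hV : V.map (MulAut.conj g).toMonoidHom = V := (haveI := s.nor; H38.Basic.conj_normal V g)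
    have h4 : (V ⊔ ZJ p (S : Subgroup G)).map (MulAut.conj g).toMonoidHom = V ⊔ ZJ p (S : Subgroup G) := by
      rw [Subgroup.map_sup, hV]
      congr 1
    exact h4
  have hNM := s.uniq _ hne hSN
  obtain ⟨A, hA, hAC⟩ := s.exA
  apply hAC
  have h1 : normalClosure (A : Set G) ≤ M := by
    refine le_trans ?_ hNM
    rw [normalClosure, closure_le]
    intro w hw
    obtain ⟨a, ha, haw⟩ := Group.mem_conjugatesOfSet_iff.1 hw
    obtain ⟨g, rfl⟩ := isConj_iff.1 haw
    have hmem : g * a * g⁻¹ ∈ A.map (MulAut.conj g).toMonoidHom := ⟨a, ha, rfl⟩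
    have key : ∀ b ∈ A.map (MulAut.conj g).toMonoidHom, ∀ y ∈ V ⊔ ZJ p (S : Subgroup G),
        b * y * b⁻¹ ∈ V ⊔ ZJ p (S : Subgroup G) := by
      intro b hb y hy
      obtain ⟨v, hv, c, hc, hcA, rfl⟩ := YJ_split s hA g hy
      have h2 : b * c = c * b := (hA.2.1.map (MulAut.conj g).toMonoidHom).comm hb hcA
      have h3 : b * (v * c) * b⁻¹ = (b * v * b⁻¹) * c := by
        calc b * (v * c) * b⁻¹ = (b * v * b⁻¹) * (b * c) * b⁻¹ := by group
          _ = _ := by rw [h2]; group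
      rw [h3]
      exact mul_mem (mem_sup_left (s.nor.conj_mem v hv b)) hc
    show g * a * g⁻¹ ∈ normalizer _
    rw [mem_normalizer_iff]
    intro y
    refine ⟨key _ hmem y, fun hy => ?_⟩
    have h3 := key _ (inv_mem hmem) _ hy
    have e : (g * a * g⁻¹)⁻¹ * (g * a * g⁻¹ * y * (g * a * g⁻¹)⁻¹) * (g * a * g⁻¹)⁻¹⁻¹ = y := by group
    rwa [e] at h3
  have h2 := s.core normalClosure_normal h1
  exact ((le_inf subset_normalClosure hA.1).trans h2).trans s.QC

end H52.Bau
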