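import Cfsg.Agent.Lib.H52.Foc3
import Cfsg.Agent.Lib.H53.MS3

/-!
# Baumann's argument, second part
-/

set_option autoImplicit false
set_option linter.unusedVariables false
set_option linter.unusedSectionVars false
set_option linter.style.haveILetI false

namespace H52.Bau

open Subgroup H51.FF H51.SylowAmb H53.PU H51.OG Cfsg H52.CSS H14.MaxIn H52.Foc H53.MS

section grp

variable {G : Type*} [Group G] [Finite G] {p : ℕ} [hp : Fact p.Prime]

/-- `Q ∩ C(V Ω₁(Z(J)))` -/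
def NB (p : ℕ) {G : Type*} [Group G] (S V : Subgroup G) : Subgroup G :=
  pCore p G ⊓ centralizer ((V ⊔ ZJ p S : Subgroup G) : Set G)

variable {S : Sylow p G} {M V : Subgroup G} (s : Std p S M V)

include s

theorem cY_normal : (centralizer ((V ⊔ ZJ p (S : Subgroup G) : Subgroup G) : Set G)).Normal := by
  haveI := YJ_normal s
  infer_instance

theorem cY_le : centralizer ((V ⊔ ZJ p (S : Subgroup G) : Subgroup G) : Set G) ≤ centralizer (V : Set G) :=
  centralizer_le (show (V : Set G) ⊆ ((V ⊔ ZJ p (S : Subgroup G) : Subgroup G) : Set G) from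
    SetLike.coe_subset_coe.2 le_sup_left)

theorem NB_normal : (NB p (S : Subgroup G) V).Normal := by
  haveI := cY_normal s
  haveI : (pCore p G).Normal := H1.Cores.pCore_normal p
  exact normal_inf_normal _ _

theorem mem_cY {x : G} : x ∈ centralizer ((V ⊔ ZJ p (S : Subgroup G) : Subgroup G) : Set G) ↔
    x ∈ centralizer (V : Set G) ∧ x ∈ centralizer (ZJ p (S : Subgroup G) : Set G) := by
  rw [← zpowers_le, ← zpowers_le, ← zpowers_le, Subgroup.le_centralizer_iff, sup_le_iff,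
    Subgroup.le_centralizer_iff, Subgroup.le_centralizer_iff (K := ZJ p (S : Subgroup G))]

theorem BQ : BB p (S : Subgroup G) ⊓ pCore p G = NB p (S : Subgroup G) V := by
  ext x
  constructor
  · rintro ⟨⟨_, h2⟩, h3⟩
    exact ⟨h3, (mem_cY s).2 ⟨s.QC h3, h2⟩⟩
  · rintro ⟨h1, h2⟩
    exact ⟨⟨s.QT h1, ((mem_cY s).1 h2).2⟩, h1⟩

theorem BC : BB p (S : Subgroup G) ⊓ centralizer (V : Set G) ≤ NB p (S : Subgroup G) V := by
  rw [← BQ s]
  rintro x ⟨h1, h2⟩
  exact ⟨h1, s.CT ⟨h2, h1.1⟩⟩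

theorem NB_le_B : NB p (S : Subgroup G) V ≤ BB p (S : Subgroup G) := by
  rw [← BQ s]; exact inf_le_left

omit s in
theorem B_le : BB p (S : Subgroup G) ≤ (S : Subgroup G) := inf_le_left

theorem YJ_le_NB : V ⊔ ZJ p (S : Subgroup G) ≤ NB p (S : Subgroup G) V := by
  refine le_inf (YJ_le_Q s) ?_
  intro x hx
  rw [mem_centralizer_iff]
  intro y hy
  exact (YJ_el s).comm hy hx

theorem Qpow : ∃ k : ℕ, ∀ x ∈ pCore p G, x ^ p ^ k = 1 := by
  have hpg : IsPGroup p ↥(pCore p G) := S.2.to_le s.QT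
  obtain ⟨k, hk⟩ := IsPGroup.iff_card.1 hpg
  refine ⟨k, fun x hx => ?_⟩
  have h1 : (⟨x, hx⟩ : ↥(pCore p G)) ^ p ^ k = 1 := by rw [← hk]; exact pow_card_eq_one'
  exact congrArg Subtype.val h1

theorem cNB : centralizer (NB p (S : Subgroup G) V : Set G) ≤ NB p (S : Subgroup G) V := by
  haveI hNn := NB_normal s
  haveI hQn : (pCore p G).Normal := H1.Cores.pCore_normal p
  have hD : (centralizer (NB p (S : Subgroup G) V : Set G)).Normal := inferInstance
  have h1 : centralizer (NB p (S : Subgroup G) V : Set G) ≤ centralizer ((V ⊔ ZJ p (S : Subgroup G) : Subgroup G) : Set G) :=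
    centralizer_le (SetLike.coe_subset_coe.2 (YJ_le_NB s))
  obtain ⟨k, hk⟩ := Qpow s
  have hpg : IsPGroup p ↥(centralizer (NB p (S : Subgroup G) V : Set G)) := by
    rintro ⟨x, hx⟩
    have key : ∀ q ∈ pCore p G, x ^ p ^ k * q = q * x ^ p ^ k := by
      intro q hq
      have hc : x * q * x⁻¹ * q⁻¹ ∈ NB p (S : Subgroup G) V := by
        refine mem_inf.2 ⟨mul_mem (hQn.conj_mem q hq x) (inv_mem hq), h1 ?_⟩
        have h2 : x * q * x⁻¹ * q⁻¹ = x * (q * x⁻¹ * q⁻¹) := by group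
        rw [h2]
        exact mul_mem hx (hD.conj_mem _ (inv_mem hx) q)
      set c := x * q * x⁻¹ * q⁻¹ with hcdef
      have hxc : x * c = c * x := (mem_centralizer_iff.1 hx c hc).symm
      have hxq : x * q * x⁻¹ = c * q := by rw [hcdef]; group
      have hpow : ∀ n : ℕ, x ^ n * q * (x ^ n)⁻¹ = c ^ n * q := by
        intro n
        induction n with
        | zero => simp
        | succ n ih =>
          have e : x ^ (n + 1) * q * (x ^ (n + 1))⁻¹ = x * (x ^ n * q * (x ^ n)⁻¹) * x⁻¹ := by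
            rw [pow_succ']; group
          rw [e, ih]
          have hcn : x * c ^ n = c ^ n * x := ((show Commute x c from hxc).pow_right n).eq
          calc x * (c ^ n * q) * x⁻¹ = (x * c ^ n) * q * x⁻¹ := by group
            _ = c ^ n * (x * q * x⁻¹) := by rw [hcn]; group
            _ = c ^ (n + 1) * q := by rw [hxq, pow_succ]; group
      have h3 := hpow (p ^ k)
      rw [hk c hc.1, one_mul, mul_inv_eq_iff_eq_mul] at h3
      exact h3
    have h2 : x ^ p ^ k ∈ pCore p G := by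
      apply s.cp
      rw [mem_centralizer_iff]
      intro q hq
      exact (key q hq).symm
    refine ⟨k + k, Subtype.ext ?_⟩
    show x ^ p ^ (k + k) = 1
    rw [pow_add, pow_mul]
    exact hk _ h2
  exact le_inf (H1.Cores.le_pCore hD hpg) h1

/-- `p`-subgroups of `C_G(V Ω₁(Z(J)))` -/
theorem pCY {P : Subgroup G} (hP : IsPGroup p P)
    (hc : P ≤ centralizer ((V ⊔ ZJ p (S : Subgroup G) : Subgroup G) : Set G)) : P ≤ NB p (S : Subgroup G) V := by
  haveI hCn := cY_normal s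
  haveI hQn : (pCore p G).Normal := H1.Cores.pCore_normal p
  obtain ⟨S', hS'⟩ := hP.exists_le_sylow
  obtain ⟨g, hg⟩ := MulAction.exists_smul_eq G S' S
  have h1 : P.map (MulAut.conj g).toMonoidHom ≤ (S : Subgroup G) := by
    rw [← hg]; exact map_mono hS'
  refine le_inf ?_ hc
  intro x hx
  have h2 : g * x * g⁻¹ ∈ (S : Subgroup G) := h1 ⟨x, hx, rfl⟩
  have h3 : g * x * g⁻¹ ∈ centralizer (V : Set G) := cY_le s (hCn.conj_mem x (hc hx) g)
  have h4 := hQn.conj_mem _ (s.CT ⟨h3, h2⟩) g⁻¹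
  have e : g⁻¹ * (g * x * g⁻¹) * g⁻¹⁻¹ = x := by group
  rwa [e] at h4

end grp

/-- the module `W` is `V` -/
structure Mo (p : ℕ) {G H W : Type*} [Group G] [Group H] [AddCommGroup W] [DistribMulAction H W]
    (S M V : Subgroup G) (f : G →* H) (ι : W → G) : Prop where
  sj : Function.Surjective f
  ke : f.ker = centralizer (V : Set G)
  inj : Function.Injective ι
  rng : ∀ g, g ∈ V ↔ ∃ w, ι w = g
  add : ∀ x y, ι (x + y) = ι x * ι y
  act : ∀ (g : G) (w : W), ι (f g • w) = g * ι w * g⁻¹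
  sit : Sit p W (S.map f) (M.map f)

theorem Std.mo {G : Type*} [Group G] [Finite G] {p : ℕ} [hp : Fact p.Prime] {S : Sylow p G} {M V : Subgroup G}
    (s : Std p S M V) :
    haveI := s.nor
    letI := H51.NAct.addV V (ab_of s.elV)
    letI := actH V (ab_of s.elV)
    Mo p (S : Subgroup G) M V (ph V) (fun w : Additive V => ((w.toMul : V) : G)) := by
  haveI := s.nor
  letI := H51.NAct.addV V (ab_of s.elV)
  letI := actH V (ab_of s.elV)
  have tr := tr V (ab_of s.elV)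
  exact ⟨ph_surj V, ph_ker V (ab_of s.elV), tr.inj, tr.rng, tr.add, fun g w => rfl, s.sit⟩

section mod

variable {G : Type*} [Group G] [Finite G] {p : ℕ} [hp : Fact p.Prime]
variable {S : Sylow p G} {M V : Subgroup G} (s : Std p S M V)
variable {H W : Type*} [Group H] [Finite H] [AddCommGroup W] [Finite W] [DistribMulAction H W] {f : G →* H} {ι : W → G}
variable (m : Mo p (S : Subgroup G) M V f ι)

section
include m
omit [Finite H] [Finite W] [Finite G] hp

theorem Mo.mem (w : W) : ι w ∈ V := (m.rng _).2 ⟨w, rfl⟩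

theorem Mo.smul_iff {g : G} {w : W} : f g • w = w ↔ g * ι w = ι w * g := by
  rw [← mul_inv_eq_iff_eq_mul, ← m.act]
  exact ⟨fun h => by rw [h], fun h => m.inj h⟩

theorem Mo.mem_fx (A : Subgroup G) (w : W) : w ∈ fx W (A.map f) ↔ ι w ∈ centralizer (A : Set G) := by
  rw [mem_centralizer_iff]
  constructor
  · intro h a ha
    exact m.smul_iff.1 (h _ ⟨a, ha, rfl⟩)
  · rintro h _ ⟨a, ha, rfl⟩
    exact m.smul_iff.2 (h a ha)

theorem Mo.card_fx (A : Subgroup G) : Nat.card (fx W (A.map f)) = Nat.card ↥(V ⊓ centralizer (A : Set G)) := by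
  refine Nat.card_congr (Equiv.ofBijective (fun x : fx W (A.map f) =>
    (⟨ι x, m.mem x, (m.mem_fx A x).1 x.2⟩ : ↥(V ⊓ centralizer (A : Set G)))) ⟨?_, ?_⟩)
  · intro x y h
    exact Subtype.ext (m.inj (congrArg Subtype.val h))
  · rintro ⟨g, h1, h2⟩
    obtain ⟨w, rfl⟩ := (m.rng g).1 h1
    exact ⟨⟨w, (m.mem_fx A w).2 h2⟩, rfl⟩

theorem Mo.cardV : Nat.card W = Nat.card V := by
  refine Nat.card_congr (Equiv.ofBijective (fun x : W => (⟨ι x, m.mem x⟩ : ↥V)) ⟨?_, ?_⟩)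
  · intro x y h
    exact m.inj (congrArg Subtype.val h)
  · rintro ⟨g, h1⟩
    obtain ⟨w, rfl⟩ := (m.rng g).1 h1
    exact ⟨w, rfl⟩

theorem Mo.map_cg (g : G) (A : Subgroup G) : (A.map (MulAut.conj g).toMonoidHom).map f = cg (f g) (A.map f) := by
  ext x
  rw [mem_cg]
  constructor
  · rintro ⟨_, ⟨a, ha, rfl⟩, rfl⟩
    refine ⟨a, ha, ?_⟩
    show f a = (f g)⁻¹ * f (g * a * g⁻¹) * f g
    rw [map_mul, map_mul, map_inv]; group
  · rintro ⟨a, ha, h⟩
    refine ⟨g * a * g⁻¹, ⟨a, ha, rfl⟩, ?_⟩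
    rw [map_mul, map_mul, map_inv, h]; group

end

include s m

theorem card_le' {A : Subgroup G} (hA : A ∈ maxIn true p (S : Subgroup G)) : Nat.card W ≤ vl W (A.map f) := by
  have h1 := s.card_le hA s.VT
  unfold vl at h1 ⊢
  have h2 : Nat.card ↥(A.map f) * Nat.card ↥(A ⊓ centralizer (V : Set G)) = Nat.card A := by
    rw [← m.ke]; exact H1.Hall.card_map_mul_card_inf_ker f A
  haveI := s.nor
  letI := H51.NAct.addV V (ab_of s.elV)
  letI := actH V (ab_of s.elV)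
  have h3 := H1.Hall.card_map_mul_card_inf_ker (ph V) A
  rw [ph_ker V (ab_of s.elV), ← h2] at h3
  have h4 : Nat.card ↥(A.map (ph V)) = Nat.card ↥(A.map f) :=
    Nat.eq_of_mul_eq_mul_right (Nat.card_pos (α := ↥(A ⊓ centralizer (V : Set G)))) h3
  rw [m.card_fx, m.cardV, ← h4, ← card_fx_map V (ab_of s.elV)]
  exact h1

theorem vl_le' {A : Subgroup G} (hA : A ∈ maxIn true p (S : Subgroup G)) : vl W (A.map f) ≤ Nat.card W := by
  obtain ⟨wd, _⟩ := m.sit.wd
  refine wd.le _ ((S.2.to_le hA.1).map _) ?_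
  rintro _ ⟨a, ha, rfl⟩ _ ⟨b, hb, rfl⟩
  rw [← map_mul, ← map_mul, hA.2.1.comm ha hb]

/-- maximal subgroups with smaller image -/
theorem exists_sub {A : Subgroup G} (hA : A ∈ maxIn true p (S : Subgroup G)) {Z : Subgroup H} (hZ : Z ≤ A.map f)
    (hv : vl W Z = Nat.card W) : ∃ A₁ ∈ maxIn true p (S : Subgroup G), A₁.map f = Z := by
  set AZ := A ⊓ Z.comap f with hAZ
  have hmap : AZ.map f = Z := by
    apply le_antisymm
    · rintro _ ⟨x, hx, rfl⟩; exact hx.2
    · intro z hz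
      obtain ⟨a, ha, rfl⟩ := hZ hz
      exact ⟨a, ⟨ha, hz⟩, rfl⟩
  set VZ := V ⊓ centralizer (AZ : Set G) with hVZ
  have hVZc : VZ ≤ centralizer (AZ : Set G) := inf_le_right
  have hEl : PrE true p (AZ ⊔ VZ) := by
    refine H52.Offender.prE_sup (hA.2.1.mono inf_le_left) ((prE_true.2 s.elV).mono inf_le_left) ?_
    intro x hx y hy
    exact mem_centralizer_iff.1 (hVZc hy) x hx
  have hle : AZ ⊔ VZ ≤ (S : Subgroup G) := sup_le (inf_le_left.trans hA.1) (inf_le_left.trans s.VT)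
  have hVZ1 : VZ.map f = ⊥ := by
    rw [Subgroup.map_eq_bot_iff, m.ke]
    exact (inf_le_left.trans (fun x hx => s.QC ((s.memV.1 hx).1)))
  have hmap' : (AZ ⊔ VZ).map f = Z := by rw [Subgroup.map_sup, hmap, hVZ1, sup_bot_eq]
  refine ⟨AZ ⊔ VZ, mem_maxIn_of_card hA hle hEl (le_antisymm (hA.2.2 _ hle hEl) ?_), hmap'⟩
  have h1 := H1.Hall.card_map_mul_card_inf_ker f A
  have h2 := H1.Hall.card_map_mul_card_inf_ker f AZ
  have h3 : AZ ⊓ f.ker = A ⊓ f.ker := by
    apply le_antisymm (inf_le_inf_right _ inf_le_left)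
    rintro x ⟨hx, hx'⟩
    refine ⟨⟨hx, ?_⟩, hx'⟩
    show f x ∈ Z
    rw [MonoidHom.mem_ker.1 hx']; exact one_mem _
  rw [h3, hmap] at h2
  have h4 := H13.Thompson.card_sup_mul_card_inf (A := VZ) (B := AZ) (hVZc.trans (centralizer_le_normalizer _))
  rw [sup_comm] at h4
  have h5 : Nat.card ↥(VZ ⊓ AZ) ≤ Nat.card ↥(V ⊓ centralizer (A : Set G)) := by
    apply Nat.card_mono (Set.toFinite _)
    rintro x ⟨hx1, hx2⟩
    refine ⟨hx1.1, ?_⟩
    refine mem_centralizer_iff.2 ?_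
    intro y hy
    exact hA.2.1.comm hy hx2.1
  have h6 : Nat.card VZ = Nat.card (fx W Z) := by rw [← hmap, m.card_fx]
  have h7 := vl_le' s m hA
  unfold vl at h7 hv
  rw [m.card_fx] at h7
  have p1 : 0 < Nat.card ↥(V ⊓ centralizer (A : Set G)) := Nat.card_pos
  apply Nat.le_of_mul_le_mul_right _ p1
  calc Nat.card A * Nat.card ↥(V ⊓ centralizer (A : Set G))
      = (Nat.card ↥(A.map f) * Nat.card ↥(V ⊓ centralizer (A : Set G))) * Nat.card ↥(A ⊓ f.ker) := by rw [← h1]; ring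
    _ ≤ Nat.card W * Nat.card ↥(A ⊓ f.ker) := Nat.mul_le_mul_right _ h7
    _ = Nat.card VZ * Nat.card AZ := by rw [← hv, ← h2, h6]; ring
    _ = Nat.card ↥(AZ ⊔ VZ) * Nat.card ↥(VZ ⊓ AZ) := h4.symm
    _ ≤ _ := Nat.mul_le_mul_left _ h5

theorem exists_at : ∃ X ∈ AT p W ((S : Subgroup G).map f), ∃ A ∈ maxIn true p (S : Subgroup G), A.map f = X := by
  obtain ⟨A, hA, hAC⟩ := s.exA
  obtain ⟨wd, _⟩ := m.sit.wd
  have hpg : IsPGroup p ↥(A.map f) := (S.2.to_le hA.1).map _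
  have hcm : Cm (A.map f) (A.map f) := by
    rintro _ ⟨a, ha, rfl⟩ _ ⟨b, hb, rfl⟩
    rw [← map_mul, ← map_mul, hA.2.1.comm ha hb]
  let 𝒵 : Set (Subgroup H) := {Z | Z ≤ A.map f ∧ Z ≠ ⊥ ∧ Nat.card W ≤ vl W Z}
  obtain ⟨Z, hZ, hmin⟩ := Set.exists_min_image 𝒵 (fun Z => Nat.card Z) (Set.toFinite _)
    ⟨A.map f, le_rfl, fun h => hAC (by
      rw [← m.ke]; exact (Subgroup.map_eq_bot_iff _).1 h), card_le' s m hA⟩
  have hvZ : vl W Z = Nat.card W := le_antisymm (wd.le _ (hpg.to_le hZ.1) (hcm.mono hZ.1 hZ.1)) hZ.2.2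
  have hZo : Z ∈ offs p H W := by
    refine ⟨hpg.to_le hZ.1, hcm.mono hZ.1 hZ.1, hZ.2.1, hvZ, ?_⟩
    intro Z' h1 h2 h3
    by_contra h4
    push Not at h4
    have h5 := hmin Z' ⟨h1.trans hZ.1, h2, h4⟩
    exact h3 (Subgroup.eq_of_le_of_card_ge h1 h5)
  obtain ⟨A₁, hA₁, h⟩ := exists_sub s m hA hZ.1 hvZ
  exact ⟨Z, ⟨hZo, hZ.1.trans (map_mono hA.1)⟩, A₁, hA₁, h⟩

theorem exists_A {X : Subgroup H} (hX : X ∈ AT p W ((S : Subgroup G).map f)) :
    ∃ A ∈ maxIn true p (S : Subgroup G), A.map f = X := by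
  obtain ⟨wd, hne⟩ := m.sit.wd
  obtain ⟨Y, hY, A, hA, rfl⟩ := exists_at s m
  obtain ⟨t, ⟨t, ht, rfl⟩, rfl⟩ := at_trans' m.sit wd (wd.fam hne) hY hX
  refine ⟨A.map (MulAut.conj t).toMonoidHom, maxIn_conj hA ?_, m.map_cg t A⟩
  rintro _ ⟨x, hx, rfl⟩
  exact mul_mem (mul_mem ht (hA.1 hx)) (inv_mem ht)

theorem B_map : (BB p (S : Subgroup G)).map f = sSup (AT p W ((S : Subgroup G).map f)) := by
  obtain ⟨wd, hne⟩ := m.sit.wd
  have fam := wd.fam hne
  apply le_antisymm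
  · rintro _ ⟨b, hb, rfl⟩
    refine m2 m.sit wd fam ⟨b, hb.1, rfl⟩ ?_
    intro v hv
    rw [m.smul_iff]
    have h1 : ι v ∈ ZJ p (S : Subgroup G) := by
      have h2 : ∀ A ∈ maxIn true p (S : Subgroup G), ι v ∈ centralizer (A : Set G) := by
        intro A hA
        rw [← m.mem_fx]
        have h3 : A.map f ≤ sSup (AT p W ((S : Subgroup G).map f)) := by
          refine best_le_jt m.sit (map_mono hA.1) ?_ (card_le' s m hA)
          rintro _ ⟨a, ha, rfl⟩ _ ⟨b, hb, rfl⟩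
          rw [← map_mul, ← map_mul, hA.2.1.comm ha hb]
        exact fx_anti h3 hv
      obtain ⟨A₀, hA₀⟩ := maxIn_nonempty true p (S : Subgroup G)
      have h4 : ι v ∈ A₀ := by
        refine le_of_maxIn hA₀ (zpowers_le.2 (s.VT (m.mem v))) ((prE_true.2 s.elV).mono (zpowers_le.2 (m.mem v))) ?_
          (mem_zpowers _)
        rintro a ha _ ⟨n, rfl⟩
        have h5 : Commute a (ι v) := mem_centralizer_iff.1 (h2 A₀ hA₀) a ha
        exact (h5.zpow_right n).eq
      refine mem_ZJ.2 ⟨le_Jt hA₀ h4, ?_, s.elV.2 _ (m.mem v)⟩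
      have h5 : Jt p (S : Subgroup G) ≤ centralizer ({ι v} : Set G) := by
        rw [Jt, H52.SFour.thompsonOf_eq]
        apply sSup_le
        intro A hA a ha
        rw [mem_centralizer_iff]
        rintro _ rfl
        exact (mem_centralizer_iff.1 (h2 A hA) a ha).symm
      rw [mem_centralizer_iff]
      intro y hy
      exact (mem_centralizer_iff.1 (h5 hy) _ rfl).symm
    exact (mem_centralizer_iff.1 hb.2 _ h1).symm
  · apply sSup_le
    intro X hX
    obtain ⟨A, hA, rfl⟩ := exists_A s m hX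
    exact map_mono (max_le_BB hA)

end mod

end H52.Bau
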