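import Cfsg.Agent.Lib.H52.Foc4

/-!
# Baumann's argument, third part
-/

set_option autoImplicit false
set_option linter.unusedVariables false
set_option linter.unusedSectionVars false
set_option linter.style.haveILetI false

namespace H52.Bau

open Subgroup H51.FF H51.SylowAmb H53.PU H51.OG Cfsg H52.CSS H14.MaxIn H52.Foc H53.MS

theorem psl_iso {H L : Type*} [Group H] [Group L] {F : Type*} [Field F] (f : L →* H) {E D : Subgroup H}
    (hc : Cm E D) (hr : f.range = E ⊔ D) (ρ : ↥E ≃* Matrix.SpecialLinearGroup (Fin 2) F) :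
    ∃ (K : Subgroup L) (_ : K.Normal), Nonempty (L ⧸ K ≃* Matrix.ProjectiveSpecialLinearGroup (Fin 2) F) := by
  have hn : ∀ x, f x ∈ normalizer (E : Set H) := by
    intro x
    have h1 : f x ∈ E ⊔ D := by rw [← hr]; exact ⟨x, rfl⟩
    exact sup_le le_normalizer (hc.symm.le_nz) h1
  let θ : L →* MulAut ↥E := E.normalizerMonoidHom.comp (f.codRestrict (normalizer (E : Set H)) hn)
  have hθ : ∀ (x : L) (y : ↥E), ((θ x y : ↥E) : H) = f x * y * (f x)⁻¹ := fun x y => rfl
  have hDN : D ≤ normalizer (E : Set H) := hc.symm.le_nz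
  have hr1 : θ.range = (MulAut.conj : ↥E →* MulAut ↥E).range := by
    apply le_antisymm
    · rintro _ ⟨x, rfl⟩
      have h1 : f x ∈ E ⊔ D := by rw [← hr]; exact ⟨x, rfl⟩
      rw [sup_comm] at h1
      rw [sup_comm, ← SetLike.mem_coe, Subgroup.coe_mul_of_right_le_normalizer_left E D hDN] at h1
      obtain ⟨e, he, d, hd, hed⟩ := h1
      refine ⟨⟨e, he⟩, ?_⟩
      ext y
      rw [hθ]
      have hed' : e * d = f x := hed
      rw [← hed']
      show e * (y : H) * e⁻¹ = e * d * y * (e * d)⁻¹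
      have h2 := hc y y.2 d hd
      calc e * (y : H) * e⁻¹ = e * (y * d) * d⁻¹ * e⁻¹ := by group
        _ = _ := by rw [h2]; group
    · rintro _ ⟨e, rfl⟩
      have h1 : (e : H) ∈ f.range := by rw [hr]; exact mem_sup_left e.2
      obtain ⟨x, hx⟩ := h1
      refine ⟨x, ?_⟩
      ext y
      rw [hθ, hx]; rfl
  have hk : ((MulAut.conj : ↥E →* MulAut ↥E).ker).map (ρ : ↥E →* Matrix.SpecialLinearGroup (Fin 2) F) =
      center (Matrix.SpecialLinearGroup (Fin 2) F) := by
    ext y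
    rw [mem_center_iff]
    constructor
    · rintro ⟨x, hx, rfl⟩ z
      have h1 := DFunLike.congr_fun (MonoidHom.mem_ker.1 hx) (ρ.symm z)
      have h2 : x * ρ.symm z * x⁻¹ = ρ.symm z := h1
      have h3 := congrArg ρ (mul_inv_eq_iff_eq_mul.1 h2)
      rw [map_mul, map_mul, MulEquiv.apply_symm_apply] at h3
      exact h3.symm
    · intro h
      refine ⟨ρ.symm y, ?_, ρ.apply_symm_apply y⟩
      refine MonoidHom.mem_ker.2 ?_
      ext z
      have h1 := h (ρ z)
      have h2 : ρ.symm y * z = z * ρ.symm y := by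
        apply ρ.injective
        rw [map_mul, map_mul, ρ.apply_symm_apply]
        exact h1.symm
      show ((ρ.symm y * z * (ρ.symm y)⁻¹ : ↥E) : H) = z
      rw [h2, mul_inv_cancel_right]
  refine ⟨θ.ker, inferInstance, ⟨?_⟩⟩
  exact (((QuotientGroup.quotientKerEquivRange θ).trans (MulEquiv.subgroupCongr hr1)).trans
    (QuotientGroup.quotientKerEquivRange _).symm).trans (QuotientGroup.congr _ _ ρ hk)

variable {G : Type*} [Group G] [Finite G] {p : ℕ} [hp : Fact p.Prime]
variable {S : Sylow p G} {M V : Subgroup G}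
variable {H W : Type*} [Group H] [Finite H] [AddCommGroup W] [Finite W] [DistribMulAction H W] {f : G →* H} {ι : W → G}

/-- the group generated by the Baumann subgroup and a conjugate of `A` -/
def L2 (p : ℕ) {G : Type*} [Group G] (S A : Subgroup G) (g : G) : Subgroup G :=
  BB p S ⊔ A.map (MulAut.conj g).toMonoidHom

structure Lt (p : ℕ) {G H : Type*} (W : Type*) [Group G] [Group H] [AddCommGroup W] [DistribMulAction H W]
    (S : Subgroup G) (f : G →* H) (X : Subgroup H) (A : Subgroup G) (g : G) : Prop where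
  hX : X ∈ AT p W (S.map f)
  hA : A ∈ maxIn true p S
  map : A.map f = X
  hg : f g ∈ LX p W (S.map f) X
  ne : cg (f g) X ≠ X

variable (s : Std p S M V) (m : Mo p (S : Subgroup G) M V f ι) {X : Subgroup H} {A : Subgroup G} {g : G}
  (l : Lt p W (S : Subgroup G) f X A g)

theorem sup_dx (hX : X ∈ AT p W ((S : Subgroup G).map f)) :
    sSup (AT p W ((S : Subgroup G).map f)) = X ⊔ DX p W ((S : Subgroup G).map f) X := by
  apply le_antisymm
  · apply sSup_le
    intro Y hY
    by_cases h : Y = X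
    · rw [h]; exact le_sup_left
    · exact le_sup_of_le_right (le_sSup ⟨hY, h⟩)
  · exact sup_le (le_sSup hX) (sSup_le fun Y hY => le_sSup hY.1)

include s m

/-- such data exist -/
theorem exists_lt (hX : X ∈ AT p W ((S : Subgroup G).map f)) : ∃ A g, Lt p W (S : Subgroup G) f X A g := by
  obtain ⟨A, hA, h⟩ := exists_A s m hX
  obtain ⟨wd, hne⟩ := m.sit.wd
  have fam := wd.fam hne
  obtain ⟨Z, hZ, hZX, hZM⟩ := at_exZ m.sit wd fam hX
  have pq := at_pq m.sit wd fam hX (at_self m.sit wd fam hX) hZ hZX.symm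
  obtain ⟨l, hl, hl'⟩ := pq.conj
  rw [← at_lx m.sit wd fam hX (at_self m.sit wd fam hX) hZ hZX.symm] at hl
  obtain ⟨g, rfl⟩ := m.sj l
  exact ⟨A, g, hX, hA, h, hl, by rw [← hl']; exact hZX⟩

include l

theorem L2_map : (L2 p (S : Subgroup G) A g).map f = LX p W ((S : Subgroup G).map f) X ⊔
    DX p W ((S : Subgroup G).map f) X := by
  obtain ⟨wd, hne⟩ := m.sit.wd
  have fam := wd.fam hne
  rw [L2, Subgroup.map_sup, B_map s m, m.map_cg, l.map, sup_dx l.hX, sup_right_comm,
    at_gen m.sit wd fam l.hX l.hg l.ne]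

theorem B_top : (BB p (S : Subgroup G)).map f = X ⊔ DX p W ((S : Subgroup G).map f) X := by
  rw [B_map s m, sup_dx l.hX]

theorem mul_lxdx {x : H} (hx : x ∈ LX p W ((S : Subgroup G).map f) X ⊔ DX p W ((S : Subgroup G).map f) X) :
    ∃ e ∈ LX p W ((S : Subgroup G).map f) X, ∃ d ∈ DX p W ((S : Subgroup G).map f) X, e * d = x := by
  obtain ⟨wd, hne⟩ := m.sit.wd
  have fam := wd.fam hne
  have hDN : DX p W ((S : Subgroup G).map f) X ≤ normalizer ((LX p W ((S : Subgroup G).map f) X : Subgroup H) : Set H) :=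
    (at_cmL m.sit wd fam l.hX).symm.le_nz
  rw [← SetLike.mem_coe, Subgroup.coe_mul_of_right_le_normalizer_left _ _ hDN] at hx
  obtain ⟨e, he, d, hd, h⟩ := hx
  exact ⟨e, he, d, hd, h⟩

theorem syl_H {P : Subgroup H} (hP : IsPGroup p P) (h1 : X ⊔ DX p W ((S : Subgroup G).map f) X ≤ P)
    (h2 : P ≤ LX p W ((S : Subgroup G).map f) X ⊔ DX p W ((S : Subgroup G).map f) X) :
    P = X ⊔ DX p W ((S : Subgroup G).map f) X := by
  obtain ⟨wd, hne⟩ := m.sit.wd
  have fam := wd.fam hne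
  refine le_antisymm ?_ h1
  intro x hx
  obtain ⟨e, he, d, hd, rfl⟩ := mul_lxdx s m l (h2 hx)
  have hdP : d ∈ P := h1 (mem_sup_right hd)
  have heP : e ∈ P := by
    have := mul_mem hx (inv_mem hdP)
    rwa [mul_inv_cancel_right] at this
  have h3 : X = P ⊓ LX p W ((S : Subgroup G).map f) X :=
    H51.OG.eq_of_syl (le_inf (le_sup_left.trans h1) (le_lx m.sit wd fam l.hX)) inf_le_right (hP.to_le inf_le_left)
      (at_sylow m.sit wd fam l.hX)
  have h4 : e ∈ X := by rw [h3]; exact ⟨heP, he⟩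
  exact mul_mem (mem_sup_left h4) (mem_sup_right hd)

omit s in
theorem exists_w (w : W) : ∃ a ∈ fx W (sSup (AT p W ((S : Subgroup G).map f))), ∃ b ∈ fx W (cg (f g) X), w = a + b := by
  obtain ⟨wd, hne⟩ := m.sit.wd
  have fam := wd.fam hne
  have hZ : cg (f g) X ∈ Wm p H W (DX p W ((S : Subgroup G).map f) X) :=
    wm_cg (at_self m.sit wd fam l.hX) ((at_cmL m.sit wd fam l.hX).le_nz l.hg)
  have pq := at_pq m.sit wd fam l.hX (at_self m.sit wd fam l.hX) hZ l.ne.symm
  obtain ⟨a, ha, b, hb, rfl⟩ := pq.sp.exists_add w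
  obtain ⟨x, hx, u, c, hc, rfl⟩ := pq.fxA a ha
  refine ⟨x • u - u, cmt_fx_jt m.sit wd l.hX x hx u, c + b, AddSubgroup.add_mem _ (fx_anti le_sup_right hc) hb, by abel⟩

theorem YJ_eq {y : G} (hy : y ∈ V ⊔ ZJ p (S : Subgroup G)) : ∃ v ∈ V, ∃ c ∈ V ⊔ ZJ p (S : Subgroup G),
    c ∈ centralizer ((L2 p (S : Subgroup G) A g : Subgroup G) : Set G) ∧ y = v * c := by
  haveI := s.nor
  obtain ⟨v₀, hv₀, z, hz, rfl⟩ := mem_sup_of_normal_left.1 hy
  obtain ⟨v, hv, c, hc, hcA, hzv⟩ := YJ_split s l.hA g (mem_sup_right hz : z ∈ V ⊔ ZJ p (S : Subgroup G))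
  obtain ⟨w, rfl⟩ := (m.rng v).1 hv
  obtain ⟨a, ha, b, hb, rfl⟩ := exists_w m l w
  have hab : (V : Subgroup G) ≤ V ⊔ ZJ p (S : Subgroup G) := le_sup_left
  refine ⟨v₀ * ι a, mul_mem hv₀ (m.mem a), ι b * c, mul_mem (hab (m.mem b)) hc, ?_, ?_⟩
  · rw [Subgroup.mem_centralizer_iff]
    have h1 : L2 p (S : Subgroup G) A g ≤ centralizer ({ι b * c} : Set G) := by
      apply sup_le
      · intro x hx
        rw [mem_centralizer_iff]
        rintro _ rfl
        have h2 : ι b * c = (ι a)⁻¹ * z := by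
          rw [hzv, m.add]; group
        rw [h2]
        have h3 : x * ι a = ι a * x := by
          have h4 : ι a ∈ centralizer ((BB p (S : Subgroup G) : Subgroup G) : Set G) := by
            rw [← m.mem_fx, B_map s m]; exact ha
          exact (mem_centralizer_iff.1 h4 x hx)
        have h5 : z * x = x * z := mem_centralizer_iff.1 hx.2 z hz
        have h6 : Commute x (ι a) := h3
        have h7 : Commute x z := h5.symm
        exact ((h6.inv_right).mul_right h7).eq.symm
      · intro x hx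
        rw [mem_centralizer_iff]
        rintro _ rfl
        have h4 : ι b ∈ centralizer ((A.map (MulAut.conj g).toMonoidHom : Subgroup G) : Set G) := by
          rw [← m.mem_fx, m.map_cg, l.map]; exact hb
        have h6 : Commute x (ι b) := mem_centralizer_iff.1 h4 x hx
        have h7 : Commute x c := (l.hA.2.1.map (MulAut.conj g).toMonoidHom).comm hx hcA
        exact (h6.mul_right h7).eq.symm
    intro x hx
    exact (mem_centralizer_iff.1 (h1 hx) _ rfl).symm
  · rw [hzv, m.add]; group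

theorem CV_le : L2 p (S : Subgroup G) A g ⊓ centralizer (V : Set G) ≤
    centralizer ((V ⊔ ZJ p (S : Subgroup G) : Subgroup G) : Set G) := by
  rintro x ⟨hx1, hx2⟩
  refine mem_centralizer_iff.2 ?_
  intro y hy
  obtain ⟨v, hv, c, hc, hcL, rfl⟩ := YJ_eq s m l hy
  have h1 : Commute x v := (mem_centralizer_iff.1 hx2 v hv).symm
  have h2 : Commute x c := (mem_centralizer_iff.1 hcL x hx1)
  exact (h1.mul_right h2).eq.symm

omit s m l in
theorem B_le_L2 : BB p (S : Subgroup G) ≤ L2 p (S : Subgroup G) A g := le_sup_left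

theorem B_syl {P : Subgroup G} (hP : IsPGroup p P) (h1 : BB p (S : Subgroup G) ≤ P)
    (h2 : P ≤ L2 p (S : Subgroup G) A g) : P = BB p (S : Subgroup G) := by
  refine le_antisymm ?_ h1
  have h3 : P.map f = (BB p (S : Subgroup G)).map f := by
    rw [B_top s m l]
    apply syl_H s m l (hP.map _)
    · rw [← B_top s m l]; exact map_mono h1
    · rw [← L2_map s m l]; exact map_mono h2
  intro x hx
  obtain ⟨b, hb, hbx⟩ : f x ∈ (BB p (S : Subgroup G)).map f := by rw [← h3]; exact ⟨x, hx, rfl⟩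
  have h4 : b⁻¹ * x ∈ P ⊓ centralizer (V : Set G) := by
    refine mem_inf.2 ⟨mul_mem (inv_mem (h1 hb)) hx, ?_⟩
    rw [← m.ke, MonoidHom.mem_ker, map_mul, map_inv, hbx, inv_mul_cancel]
  have h5 : P ⊓ centralizer (V : Set G) ≤ NB p (S : Subgroup G) V := by
    apply pCY s (hP.to_le inf_le_left)
    exact (inf_le_inf_right _ h2).trans (CV_le s m l)
  have h6 := NB_le_B s (h5 h4)
  have := mul_mem hb h6
  rwa [mul_inv_cancel_left] at this

/-- the Sylow subgroup of `L₂` -/
theorem exists_syl2 : ∃ T₂ : Sylow p ↥(L2 p (S : Subgroup G) A g),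
    (T₂ : Subgroup ↥(L2 p (S : Subgroup G) A g)) = (BB p (S : Subgroup G)).subgroupOf (L2 p (S : Subgroup G) A g) := by
  have hBp : IsPGroup p ↥(BB p (S : Subgroup G)) := S.2.to_le B_le
  have hle : BB p (S : Subgroup G) ≤ L2 p (S : Subgroup G) A g := B_le_L2
  refine ⟨⟨(BB p (S : Subgroup G)).subgroupOf (L2 p (S : Subgroup G) A g),
    hBp.of_equiv (subgroupOfEquivOfLe hle).symm, ?_⟩, rfl⟩
  intro P hP hBP
  have h1 : P.map (L2 p (S : Subgroup G) A g).subtype = BB p (S : Subgroup G) := by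
    apply B_syl s m l (hP.map _)
    · intro x hx
      exact ⟨⟨x, hle hx⟩, hBP hx, rfl⟩
    · exact map_subtype_le P
  rw [← h1, subgroupOf, comap_map_eq_self_of_injective (L2 p (S : Subgroup G) A g).subtype_injective]

theorem cen2 : centralizer (pCore p ↥(L2 p (S : Subgroup G) A g) : Set ↥(L2 p (S : Subgroup G) A g)) ≤
    pCore p ↥(L2 p (S : Subgroup G) A g) := by
  haveI hNn := NB_normal s
  have hle : NB p (S : Subgroup G) V ≤ L2 p (S : Subgroup G) A g := (NB_le_B s).trans B_le_L2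
  have hNp : IsPGroup p ↥(NB p (S : Subgroup G) V) := S.2.to_le ((NB_le_B s).trans B_le)
  have h1 : (NB p (S : Subgroup G) V).subgroupOf (L2 p (S : Subgroup G) A g) ≤ pCore p ↥(L2 p (S : Subgroup G) A g) :=
    H1.Cores.le_pCore inferInstance (hNp.of_equiv (subgroupOfEquivOfLe hle).symm)
  intro x hx
  apply h1
  apply cNB s
  rw [mem_centralizer_iff]
  intro y hy
  exact congrArg Subtype.val (mem_centralizer_iff.1 hx ⟨y, hle hy⟩ (h1 (show (⟨y, hle hy⟩ : ↥(L2 p (S : Subgroup G) A g)) ∈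
    (NB p (S : Subgroup G) V).subgroupOf (L2 p (S : Subgroup G) A g) from hy)))

theorem exists_psl : ∃ (F : Type) (_ : Field F) (_ : Fintype F) (n : ℕ) (K : Subgroup ↥(L2 p (S : Subgroup G) A g)) (_ : K.Normal),
    1 ≤ n ∧ Fintype.card F = p ^ n ∧
      Nonempty (↥(L2 p (S : Subgroup G) A g) ⧸ K ≃* Matrix.ProjectiveSpecialLinearGroup (Fin 2) F) := by
  obtain ⟨wd, hne⟩ := m.sit.wd
  have fam := wd.fam hne
  obtain ⟨F, i1, i2, ρ, Ψ, h1, h2, h3, h4⟩ := lx_sl m.sit wd fam l.hX
  obtain ⟨n, hn⟩ := IsPGroup.iff_card.1 l.hX.1.1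
  obtain ⟨K, hK, h5⟩ := psl_iso (f.comp (L2 p (S : Subgroup G) A g).subtype) (at_cmL m.sit wd fam l.hX) (by
    rw [MonoidHom.range_comp, Subgroup.range_subtype]; exact L2_map s m l) ρ
  refine ⟨F, i1, i2, n, K, hK, ?_, by rw [h4, hn], h5⟩
  have h6 := wd.one_lt l.hX.1
  rw [hn] at h6
  by_contra h7
  have h8 : n = 0 := by omega
  rw [h8, pow_zero] at h6
  omega

theorem L2_not_le : ¬ L2 p (S : Subgroup G) A g ≤ M := by
  obtain ⟨wd, hne⟩ := m.sit.wd
  have fam := wd.fam hne
  intro h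
  apply lx_not_le m.sit wd fam l.hX
  refine le_trans ?_ (map_mono h)
  rw [L2_map s m l]; exact le_sup_left

end H52.Bau
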