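import Cfsg.Agent.Lib.H52.Foc5
import Cfsg.Agent.S2764

/-!
# Baumann's argument, fourth part
-/

set_option autoImplicit false
set_option linter.unusedVariables false
set_option linter.unusedSectionVars false
set_option linter.style.haveILetI false

namespace H52.Bau

open Subgroup H51.FF H51.SylowAmb H53.PU H51.OG Cfsg H52.CSS H14.MaxIn H52.Foc H53.MS

section ch

variable {G : Type*} [Group G] [Finite G] {p : ℕ} [hp : Fact p.Prime]

theorem ch_cent {S Z : Subgroup G} (h : Ch S Z) : Ch S (S ⊓ centralizer (Z : Set G)) := by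
  refine ⟨inf_le_left, ?_⟩
  intro φ x hx
  refine mem_inf.2 ⟨(φ x).2, mem_centralizer_iff.2 ?_⟩
  intro z hz
  have h1 : ((φ⁻¹ ⟨z, h.1 hz⟩ : ↥S) : G) ∈ Z := h.2 φ⁻¹ ⟨z, h.1 hz⟩ hz
  have h2 : (φ⁻¹ ⟨z, h.1 hz⟩ : ↥S) * x = x * φ⁻¹ ⟨z, h.1 hz⟩ := Subtype.ext (mem_centralizer_iff.1 hx.2 _ h1)
  have h3 := congrArg φ h2
  rw [map_mul, map_mul, MulAut.apply_inv_self] at h3
  exact congrArg Subtype.val h3

theorem ch_omega {S J : Subgroup G} (h : Ch S J) : Ch S (omegaOneCenter p J) := by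
  refine ⟨fun x hx => h.1 (mem_omegaOneCenter.1 hx).1, ?_⟩
  intro φ x hx
  obtain ⟨h1, h2, h3⟩ := mem_omegaOneCenter.1 hx
  refine mem_omegaOneCenter.2 ⟨h.2 φ x h1, ?_, ?_⟩
  · refine mem_centralizer_iff.2 ?_
    intro z hz
    have h4 : ((φ⁻¹ ⟨z, h.1 hz⟩ : ↥S) : G) ∈ J := h.2 φ⁻¹ ⟨z, h.1 hz⟩ hz
    have h5 : (φ⁻¹ ⟨z, h.1 hz⟩ : ↥S) * x = x * φ⁻¹ ⟨z, h.1 hz⟩ := Subtype.ext (mem_centralizer_iff.1 h2 _ h4)
    have h6 := congrArg φ h5
    rw [map_mul, map_mul, MulAut.apply_inv_self] at h6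
    exact congrArg Subtype.val h6
  · have h4 : x ^ p = 1 := Subtype.ext h3
    have h5 : (φ x) ^ p = 1 := by rw [← map_pow, h4, map_one]
    exact congrArg Subtype.val h5

theorem ch_BB (S : Subgroup G) : Ch S (BB p S) := by
  have h1 : Ch S (Jt p S) := ch_of (G := G) (S := S) inferInstance
  exact ch_cent (ch_omega h1)

end ch

variable {G : Type*} [Group G] [Finite G] {p : ℕ} [hp : Fact p.Prime]
variable {S : Sylow p G} {M V : Subgroup G}
variable {H W : Type*} [Group H] [Finite H] [AddCommGroup W] [Finite W] [DistribMulAction H W] {f : G →* H} {ι : W → G}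

variable (s : Std p S M V) (m : Mo p (S : Subgroup G) M V f ι) {X : Subgroup H} {A : Subgroup G} {g : G}
  (l : Lt p W (S : Subgroup G) f X A g)

omit [Finite H] [Finite W] hp in
theorem Lt.exists_min (l : Lt p W (S : Subgroup G) f X A g) : ∃ g₀, Lt p W (S : Subgroup G) f X A g₀ ∧
    ∀ g', Lt p W (S : Subgroup G) f X A g' → Nat.card ↥(L2 p (S : Subgroup G) A g₀) ≤ Nat.card ↥(L2 p (S : Subgroup G) A g') := by
  obtain ⟨g₀, h1, h2⟩ := Set.exists_min_image {g | Lt p W (S : Subgroup G) f X A g}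
    (fun g => Nat.card ↥(L2 p (S : Subgroup G) A g)) (Set.toFinite _) ⟨g, l⟩
  exact ⟨g₀, h1, fun g' h => h2 g' h⟩

include s m l

theorem nz_of_lt (hmin : ∀ g', Lt p W (S : Subgroup G) f X A g' →
    Nat.card ↥(L2 p (S : Subgroup G) A g) ≤ Nat.card ↥(L2 p (S : Subgroup G) A g')) {K : Subgroup G}
    (h1 : BB p (S : Subgroup G) ≤ K) (h2 : K < L2 p (S : Subgroup G) A g) : K ≤ (normalizer (X : Set H)).comap f := by
  obtain ⟨wd, hne⟩ := m.sit.wd
  have fam := wd.fam hne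
  intro k hk
  rw [mem_comap, mem_nz_iff]
  by_contra hcon
  have h3 : f k ∈ LX p W ((S : Subgroup G).map f) X ⊔ DX p W ((S : Subgroup G).map f) X := by
    rw [← L2_map s m l]; exact ⟨k, h2.le hk, rfl⟩
  obtain ⟨e, he, d, hd, hed⟩ := mul_lxdx s m l h3
  obtain ⟨b, hb, rfl⟩ : d ∈ (BB p (S : Subgroup G)).map f := by
    rw [B_top s m l]; exact mem_sup_right hd
  have hk' : k * b⁻¹ ∈ K := mul_mem hk (inv_mem (h1 hb))
  have hfk : f (k * b⁻¹) = e := by rw [map_mul, map_inv, ← hed, mul_inv_cancel_right]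
  have hcgb : cg (f b) X = X :=
    mem_nz_iff.1 (((at_cmL m.sit wd fam l.hX).mono (le_lx m.sit wd fam l.hX) le_rfl).symm.le_nz hd)
  have hlt : Lt p W (S : Subgroup G) f X A (k * b⁻¹) := by
    refine ⟨l.hX, l.hA, l.map, by rw [hfk]; exact he, ?_⟩
    rw [hfk]
    intro h4
    apply hcon
    rw [← hed, ← cg_cg, hcgb, h4]
  have h5 := hmin _ hlt
  have h6 : L2 p (S : Subgroup G) A (k * b⁻¹) ≤ K := by
    apply sup_le h1
    rintro _ ⟨a, ha, rfl⟩
    have hA : a ∈ K := h1 (max_le_BB l.hA ha)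
    exact mul_mem (mul_mem hk' hA) (inv_mem hk')
  have h7 : Nat.card ↥K < Nat.card ↥(L2 p (S : Subgroup G) A g) := by
    by_contra h8
    push Not at h8
    exact h2.ne (Subgroup.eq_of_le_of_card_ge h2.le h8)
  have h8 : Nat.card ↥(L2 p (S : Subgroup G) A (k * b⁻¹)) ≤ Nat.card ↥K := Nat.card_mono (Set.toFinite _) h6
  omega

theorem uniq2 (hmin : ∀ g', Lt p W (S : Subgroup G) f X A g' →
    Nat.card ↥(L2 p (S : Subgroup G) A g) ≤ Nat.card ↥(L2 p (S : Subgroup G) A g')) :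
    ∃! M₂ : Subgroup ↥(L2 p (S : Subgroup G) A g), IsCoatom M₂ ∧
      (BB p (S : Subgroup G)).subgroupOf (L2 p (S : Subgroup G) A g) ≤ M₂ := by
  obtain ⟨wd, hne⟩ := m.sit.wd
  have fam := wd.fam hne
  set L := L2 p (S : Subgroup G) A g with hL
  have hBL : BB p (S : Subgroup G) ≤ L := B_le_L2
  have key : ∀ K : Subgroup ↥L, K ≠ ⊤ → (BB p (S : Subgroup G)).subgroupOf L ≤ K →
      K ≤ ((normalizer (X : Set H)).comap f).subgroupOf L := by
    intro K hK hBK x hx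
    have h1 : BB p (S : Subgroup G) ≤ K.map L.subtype := fun b hb => ⟨⟨b, hBL hb⟩, hBK hb, rfl⟩
    have h2 : K.map L.subtype < L := by
      refine lt_of_le_of_ne (map_subtype_le K) ?_
      intro h3
      apply hK
      rw [eq_top_iff]
      rintro ⟨y, hy⟩ _
      rw [← h3] at hy
      obtain ⟨y', hy', rfl⟩ := hy
      exact hy'
    exact nz_of_lt s m l hmin h1 h2 ⟨x, hx, rfl⟩
  have hBM : (BB p (S : Subgroup G)).subgroupOf L ≤ ((normalizer (X : Set H)).comap f).subgroupOf L := by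
    intro x hx
    show f x ∈ normalizer (X : Set H)
    have h1 : f x ∈ X ⊔ DX p W ((S : Subgroup G).map f) X := by
      rw [← B_top s m l]; exact ⟨x, hx, rfl⟩
    exact (sup_le le_normalizer (((at_cmL m.sit wd fam l.hX).mono (le_lx m.sit wd fam l.hX) le_rfl).symm.le_nz)) h1
  have hMt : ((normalizer (X : Set H)).comap f).subgroupOf L ≠ ⊤ := by
    intro h
    have h1 : f g ∈ L.map f := by rw [hL, L2_map s m l]; exact mem_sup_left l.hg
    obtain ⟨x, hx, hxg⟩ := h1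
    have h2 : (⟨x, hx⟩ : ↥L) ∈ ((normalizer (X : Set H)).comap f).subgroupOf L := by rw [h]; trivial
    have h3 : f x ∈ normalizer (X : Set H) := h2
    rw [hxg, mem_nz_iff] at h3
    exact l.ne h3
  refine ⟨((normalizer (X : Set H)).comap f).subgroupOf L, ⟨⟨hMt, ?_⟩, hBM⟩, ?_⟩
  · intro K hK
    by_contra hK'
    exact hK.not_ge (key K hK' (hBM.trans hK.le))
  · rintro K ⟨hK, hBK⟩
    have h1 := key K hK.1 hBK
    by_contra hne'
    exact hMt (hK.2 _ (lt_of_le_of_ne h1 hne'))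

/-- no characteristic subgroup -/
theorem no_ch2 (hno : ∀ K : Subgroup G, K ≠ ⊥ → Ch (S : Subgroup G) K → ¬ K.Normal)
    {T₂ : Subgroup ↥(L2 p (S : Subgroup G) A g)}
    (hT₂ : T₂ = (BB p (S : Subgroup G)).subgroupOf (L2 p (S : Subgroup G) A g)) :
    ∀ T : Subgroup ↥T₂, T ≠ ⊥ → T.Characteristic → ¬ (T.map T₂.subtype).Normal := by
  subst hT₂
  intro T hT hTc hTn
  have hBL : BB p (S : Subgroup G) ≤ L2 p (S : Subgroup G) A g := B_le_L2
  set K := (T.map ((BB p (S : Subgroup G)).subgroupOf (L2 p (S : Subgroup G) A g)).subtype).map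
    (L2 p (S : Subgroup G) A g).subtype with hK
  have hKbot : K ≠ ⊥ := by
    intro h
    apply hT
    rw [hK, (Subgroup.map_eq_bot_iff_of_injective _ (L2 p (S : Subgroup G) A g).subtype_injective),
      (Subgroup.map_eq_bot_iff_of_injective _ (Subgroup.subtype_injective _))] at h
    exact h
  have hchB : Ch (BB p (S : Subgroup G)) K := by
    refine ⟨?_, ?_⟩
    · rintro _ ⟨_, ⟨x, hx, rfl⟩, rfl⟩
      exact x.2
    · intro φ x hx
      obtain ⟨_, ⟨y, hy, rfl⟩, hyx⟩ := hx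
      let e := subgroupOfEquivOfLe hBL
      let ψ : MulAut ↥((BB p (S : Subgroup G)).subgroupOf (L2 p (S : Subgroup G) A g)) := (e.trans φ).trans e.symm
      have h1 : ψ y ∈ T := (characteristic_iff_map_le.1 hTc ψ) ⟨y, hy, rfl⟩
      refine ⟨_, ⟨ψ y, h1, rfl⟩, ?_⟩
      have h2 : e y = x := Subtype.ext hyx
      show (((e.symm (φ (e y)) : ↥((BB p (S : Subgroup G)).subgroupOf (L2 p (S : Subgroup G) A g))) :
        ↥(L2 p (S : Subgroup G) A g)) : G) = _
      rw [h2]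
      exact congrArg Subtype.val (e.apply_symm_apply (φ x))
  have hchS : Ch (S : Subgroup G) K := (ch_BB (p := p) (S : Subgroup G)).trans hchB
  have hSN : (S : Subgroup G) ≤ normalizer (K : Set G) := le_normalizer.trans hchS.normalizer_le
  have hne : normalizer (K : Set G) ≠ ⊤ := by
    intro h
    exact hno K hKbot hchS (normalizer_eq_top_iff.1 h)
  apply L2_not_le s m l
  refine le_trans ?_ (s.uniq _ hne hSN)
  have key : ∀ x ∈ L2 p (S : Subgroup G) A g, ∀ k ∈ K, x * k * x⁻¹ ∈ K := by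
    rintro x hx _ ⟨k, hk, rfl⟩
    exact ⟨⟨x, hx⟩ * k * ⟨x, hx⟩⁻¹, hTn.conj_mem k hk ⟨x, hx⟩, rfl⟩
  intro x hx
  rw [mem_normalizer_iff]
  intro k
  refine ⟨key x hx k, fun hk => ?_⟩
  have h1 := key x⁻¹ (inv_mem hx) _ hk
  have e : x⁻¹ * (x * k * x⁻¹) * x⁻¹⁻¹ = k := by group
  rwa [e] at h1

/-- the result on `L₂` -/
theorem nat2 (hno : ∀ K : Subgroup G, K ≠ ⊥ → Ch (S : Subgroup G) K → ¬ K.Normal)
    (hmin : ∀ g', Lt p W (S : Subgroup G) f X A g' →
      Nat.card ↥(L2 p (S : Subgroup G) A g) ≤ Nat.card ↥(L2 p (S : Subgroup G) A g')) :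
    ∃ (F : Type) (_ : Field F) (_ : Fintype F), CharP F p ∧
      ∀ (U R : Subgroup ↥(L2 p (S : Subgroup G) A g)) [R.Normal], U ≤ Cfsg.pCore p ↥(L2 p (S : Subgroup G) A g) →
        Cfsg.IsChiefFactor U R → ¬ ⁅U, (⊤ : Subgroup ↥(L2 p (S : Subgroup G) A g))⁆ ≤ R →
        Cfsg.IsNaturalSL2Module F (U.map (QuotientGroup.mk' R)) (⊤ : Subgroup (↥(L2 p (S : Subgroup G) A g) ⧸ R)) := by
  obtain ⟨T₂, hT₂⟩ := exists_syl2 s m l
  obtain ⟨F, i1, i2, n, K, hK, hn, hF, hiso⟩ := exists_psl s m l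
  have h := (Cfsg.Agent.S2764.result T₂ (cen2 s m l) (by rw [hT₂]; exact uniq2 s m l hmin) K F n hn hF hiso
    (no_ch2 s m l hno hT₂)).2
  refine ⟨F, i1, i2, ?_, h⟩
  obtain ⟨q, hq⟩ := CharP.exists F
  have hqp : q.Prime := CharP.char_is_prime F q
  obtain ⟨k, hk, hk'⟩ := FiniteField.card F q
  rw [hF] at hk'
  have h1 : q ∣ p ^ n := by rw [hk']; exact dvd_pow_self q (PNat.pos k).ne'
  have h2 : q = p := (Nat.prime_dvd_prime_iff_eq hqp hp.out).1 (hqp.dvd_of_dvd_pow h1)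
  rw [← h2]; exact hq

end H52.Bau
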