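import Cfsg.Agent.Lib.H52.Foc6
import Cfsg.Agent.Lib.H52.Foc7
import Cfsg.Agent.Lib.H52.PuChief

/-!
# The final contradiction
-/

set_option autoImplicit false
set_option linter.unusedVariables false
set_option linter.unusedSectionVars false
set_option linter.style.haveILetI false

namespace H52.Quad

open Subgroup Cfsg

universe v

section

variable {G Ĝ : Type*} [Group G] [Group Ĝ]

@[reducible] def actQ (π : G →* Ĝ) (X : Subgroup Ĝ) [hX : X.Normal] (hab : ∀ a ∈ X, ∀ b ∈ X, a * b = b * a) :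
    letI := H51.NAct.addV X hab
    DistribMulAction G (Additive X) :=
  letI := H51.NAct.addV X hab
  { smul := fun g x => Additive.ofMul ((MulAut.conjNormal (π g) : MulAut X) x.toMul)
    one_smul := fun x => by
      show Additive.ofMul ((MulAut.conjNormal (π 1) : MulAut X) x.toMul) = x
      rw [map_one, map_one]; rfl
    mul_smul := fun a b x => by
      show Additive.ofMul ((MulAut.conjNormal (π (a * b)) : MulAut X) x.toMul) =
        Additive.ofMul ((MulAut.conjNormal (π a) : MulAut X) ((MulAut.conjNormal (π b) : MulAut X) x.toMul))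
      rw [map_mul, map_mul]; rfl
    smul_zero := fun a => congrArg Additive.ofMul (map_one (MulAut.conjNormal (π a) : MulAut X))
    smul_add := fun a x y => congrArg Additive.ofMul (map_mul (MulAut.conjNormal (π a) : MulAut X) x.toMul y.toMul) }

/-- the section as a module -/
theorem exists_sec {G : Type v} [Group G] [Finite G] {P Y : Subgroup G} [hP : P.Normal] [hY : Y.Normal] (hab : ⁅P, P⁆ ≤ Y) :
    ∃ (W : Type v) (_ : AddCommGroup W) (_ : Finite W) (_ : DistribMulAction G W) (j : W → G ⧸ Y), Sec P Y j := by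
  have hn : (P.map (QuotientGroup.mk' Y)).Normal := hP.map _ (QuotientGroup.mk'_surjective Y)
  have hab' : ∀ a ∈ P.map (QuotientGroup.mk' Y), ∀ b ∈ P.map (QuotientGroup.mk' Y), a * b = b * a := by
    rintro _ ⟨a, ha, rfl⟩ _ ⟨b, hb, rfl⟩
    have h1 : a * b * a⁻¹ * b⁻¹ ∈ Y := hab (commutator_mem_commutator ha hb)
    have h2 : QuotientGroup.mk' Y (a * b * a⁻¹ * b⁻¹) = 1 := (QuotientGroup.eq_one_iff _).2 h1
    rw [map_mul, map_mul, map_mul, map_inv, map_inv, mul_inv_eq_one, mul_inv_eq_iff_eq_mul] at h2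
    exact h2
  letI := H51.NAct.addV (P.map (QuotientGroup.mk' Y)) hab'
  letI := actQ (QuotientGroup.mk' Y) (P.map (QuotientGroup.mk' Y)) hab'
  refine ⟨Additive ↥(P.map (QuotientGroup.mk' Y)), inferInstance, inferInstance, inferInstance,
    fun w => ((w.toMul : ↥(P.map (QuotientGroup.mk' Y))) : G ⧸ Y), ?_, ?_, ?_, ?_⟩
  · intro x y h
    exact Additive.toMul.injective (Subtype.ext h)
  · intro g
    constructor
    · intro h
      exact ⟨Additive.ofMul ⟨g, h⟩, rfl⟩
    · rintro ⟨w, rfl⟩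
      exact (w.toMul : ↥(P.map (QuotientGroup.mk' Y))).2
  · intro x y
    rfl
  · intro k w
    rfl

end

section

variable {G W : Type*} [Group G] [AddCommGroup W] [DistribMulAction G W] {P Y : Subgroup G} [hYn : Y.Normal]
  [hPn : P.Normal] {j : W → G ⧸ Y} (c : Sec P Y j)

include c

theorem Sec.iter (hYP : Y ≤ P) {a : G} (h : ∀ w, qd W a w = 0) {n : ℕ} (hn : 2 ≤ n) :
    iterCommutator P (zpowers a) n ≤ Y := by
  let Fa : AddSubgroup W := ((DistribSMul.toAddMonoidHom W a) - AddMonoidHom.id W).ker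
  have hFa : ∀ w, w ∈ Fa ↔ a • w = w := by
    intro w
    show a • w - w = 0 ↔ _
    exact sub_eq_zero
  let K : Subgroup G :=
    { carrier := {k | (∀ w ∈ Fa, k • w = w) ∧ ∀ w : W, k • w - w ∈ Fa}
      one_mem' := ⟨fun w _ => one_smul G w, fun w => by rw [one_smul, sub_self]; exact AddSubgroup.zero_mem _⟩
      mul_mem' := by
        rintro x y ⟨h1, h2⟩ ⟨h3, h4⟩
        refine ⟨fun w hw => by rw [mul_smul, h3 w hw, h1 w hw], fun w => ?_⟩
        have e : (x * y) • w - w = (x • (y • w) - y • w) + (y • w - w) := by rw [mul_smul]; abel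
        rw [e]
        exact AddSubgroup.add_mem _ (h2 _) (h4 w)
      inv_mem' := by
        rintro x ⟨h1, h2⟩
        refine ⟨fun w hw => by rw [inv_smul_eq_iff, h1 w hw], fun w => ?_⟩
        have e : x⁻¹ • w - w = -(x • (x⁻¹ • w) - x⁻¹ • w) := by rw [smul_inv_smul]; abel
        rw [e]
        exact AddSubgroup.neg_mem _ (h2 _) }
  have haK : a ∈ K := by
    refine ⟨fun w hw => (hFa w).1 hw, fun w => ?_⟩
    rw [hFa]
    have := h w
    rw [qd_apply, sub_eq_zero] at this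
    exact this
  have hz : zpowers a ≤ K := zpowers_le.2 haK
  have h1 : ⁅P, zpowers a⁆ ≤ c.pre Fa := by
    rw [commutator_le]
    intro x hx k hk
    obtain ⟨w, hw⟩ := (c.rng _).1 ⟨x, hx, rfl⟩
    have h2 := c.cm k hw
    have h3 : k * x * k⁻¹ * x⁻¹ ∈ c.pre Fa := ⟨_, (hz hk).2 w, h2⟩
    have h4 := inv_mem h3
    have e : (k * x * k⁻¹ * x⁻¹)⁻¹ = x * k * x⁻¹ * k⁻¹ := by group
    rw [e] at h4
    exact h4
  have h2 : ⁅c.pre Fa, zpowers a⁆ ≤ Y := by
    rw [commutator_le]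
    rintro x ⟨w, hw, hwx⟩ k hk
    have h2 := c.cm k hwx
    rw [(hz hk).1 w hw, sub_self, c.zero] at h2
    have h3 : k * x * k⁻¹ * x⁻¹ ∈ Y := (QuotientGroup.eq_one_iff _).1 h2.symm
    have h4 := inv_mem h3
    have e : (k * x * k⁻¹ * x⁻¹)⁻¹ = x * k * x⁻¹ * k⁻¹ := by group
    rw [e] at h4
    exact h4
  obtain ⟨k, rfl⟩ : ∃ k, n = k + 2 := ⟨n - 2, by omega⟩
  clear hn
  induction k with
  | zero => exact (commutator_mono h1 le_rfl).trans h2
  | succ k ih =>
    show ⁅iterCommutator P (zpowers a) (k + 2), zpowers a⁆ ≤ Y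
    exact (commutator_mono ih le_rfl).trans (commutator_le_left Y _)

end

end H52.Quad

namespace H52.Bau

open Subgroup H51.FF H51.SylowAmb H53.PU H51.OG Cfsg H52.CSS H14.MaxIn H52.Foc H53.MS

section

variable {G : Type*} [Group G] [Finite G] {p : ℕ} [hp : Fact p.Prime]
variable {S : Sylow p G} {M V : Subgroup G}
variable {H W : Type*} [Group H] [Finite H] [AddCommGroup W] [Finite W] [DistribMulAction H W] {f : G →* H} {ι : W → G}

variable (s : Std p S M V) (m : Mo p (S : Subgroup G) M V f ι) {X : Subgroup H} {A : Subgroup G} {g : G}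
  (l : Lt p W (S : Subgroup G) f X A g)

/-- `[Q, L₂] ≤ NB` -/
theorem cmQ (s : Std p S M V) (hA : A ∈ maxIn true p (S : Subgroup G)) {x y : G} (hx : x ∈ pCore p G)
    (hy : y ∈ L2 p (S : Subgroup G) A g) : y * x * y⁻¹ * x⁻¹ ∈ NB p (S : Subgroup G) V := by
  haveI hNn := NB_normal s
  haveI hQn : (pCore p G).Normal := H1.Cores.pCore_normal p
  let K : Subgroup G :=
    { carrier := {y | ∀ x ∈ pCore p G, y * x * y⁻¹ * x⁻¹ ∈ NB p (S : Subgroup G) V}
      one_mem' := fun x hx => by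
        have e : (1 : G) * x * 1⁻¹ * x⁻¹ = 1 := by group
        rw [e]; exact one_mem _
      mul_mem' := by
        intro y z hy hz x hx
        have e : y * z * x * (y * z)⁻¹ * x⁻¹ = y * (z * x * z⁻¹ * x⁻¹) * y⁻¹ * (y * x * y⁻¹ * x⁻¹) := by group
        rw [e]
        exact mul_mem (hNn.conj_mem _ (hz x hx) y) (hy x hx)
      inv_mem' := by
        intro y hy x hx
        have e : y⁻¹ * x * y⁻¹⁻¹ * x⁻¹ = y⁻¹ * (y * x * y⁻¹ * x⁻¹)⁻¹ * y⁻¹⁻¹ := by group
        rw [e]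
        exact hNn.conj_mem _ (inv_mem (hy x hx)) y⁻¹ }
  have hBK : BB p (S : Subgroup G) ≤ K := by
    intro b hb x hx
    rw [← BQ s]
    have hxS : x ∈ (S : Subgroup G) := s.QT hx
    have hN : normalizer ((S : Subgroup G) : Set G) ≤ normalizer (BB p (S : Subgroup G) : Set G) :=
      (ch_BB (p := p) (S : Subgroup G)).normalizer_le
    have h1 : x * b⁻¹ * x⁻¹ ∈ BB p (S : Subgroup G) :=
      (mem_normalizer_iff.1 (hN (le_normalizer hxS)) b⁻¹).1 (inv_mem hb)
    refine mem_inf.2 ⟨?_, mul_mem (hQn.conj_mem x hx b) (inv_mem hx)⟩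
    have e : b * x * b⁻¹ * x⁻¹ = b * (x * b⁻¹ * x⁻¹) := by group
    rw [e]
    exact mul_mem hb h1
  have hKn : ∀ y ∈ K, ∀ g : G, g * y * g⁻¹ ∈ K := by
    intro y hy g x hx
    have h1 : g⁻¹ * x * g ∈ pCore p G := by
      have := hQn.conj_mem x hx g⁻¹
      rwa [inv_inv] at this
    have h2 := hNn.conj_mem _ (hy _ h1) g
    have e : g * (y * (g⁻¹ * x * g) * y⁻¹ * (g⁻¹ * x * g)⁻¹) * g⁻¹ = g * y * g⁻¹ * x * (g * y * g⁻¹)⁻¹ * x⁻¹ := by group
    rwa [e] at h2
  have hle : L2 p (S : Subgroup G) A g ≤ K := by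
    apply sup_le hBK
    rintro _ ⟨a, ha, rfl⟩
    exact hKn a (hBK (max_le_BB hA ha)) g
  exact hle hy x hx

include s m

theorem exists_quad (hp2 : p ≠ 2) (hno : ∀ K : Subgroup G, K ≠ ⊥ → Ch (S : Subgroup G) K → ¬ K.Normal)
    {P Y : Subgroup G} (hch : IsChiefFactor P Y) (hPQ : P ≤ pCore p G) (hPC : ⁅P, centralizer (V : Set G)⁆ ≤ Y) :
    ∃ a ∈ (S : Subgroup G), a ∉ pCore p G ∧ iterCommutator P (zpowers a) (p - 1) ≤ Y := by
  obtain ⟨wd, hne⟩ := m.sit.wd
  have fam := wd.fam hne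
  obtain ⟨X, hX⟩ := at_nonempty m.sit wd fam
  obtain ⟨A, g₁, l₁⟩ := exists_lt s m hX
  obtain ⟨g, l, hmin⟩ := l₁.exists_min
  obtain ⟨F, i1, i2, i3, hnat⟩ := nat2 s m l hno hmin
  obtain ⟨a, haA, haC⟩ : ∃ a ∈ A, a ∉ centralizer (V : Set G) := by
    by_contra hcon
    push Not at hcon
    apply l.hX.1.2.2.1
    rw [← l.map, Subgroup.map_eq_bot_iff, m.ke]
    exact hcon
  have haS : a ∈ (S : Subgroup G) := l.hA.1 haA
  have haQ : a ∉ pCore p G := fun h => haC (s.QC h)
  have hap : a ^ p = 1 := by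
    have := (prE_true.1 l.hA.2.1).2 a haA
    exact this
  have haL : a ∈ L2 p (S : Subgroup G) A g := B_le_L2 (max_le_BB l.hA haA)
  have hPn := hch.2.1
  have hYn := hch.2.2.1
  haveI hQn : (pCore p G).Normal := H1.Cores.pCore_normal p
  have hQp : IsPGroup p ↥(pCore p G) := S.2.to_le s.QT
  have hab : ⁅P, P⁆ ≤ Y :=
    (commutator_mono le_rfl hPQ).trans (H39.Chief.commutator_le_of_chief hch inferInstance hQp.isNilpotent hPQ)
  obtain ⟨W', w1, w2, w3, j, c⟩ := H52.Quad.exists_sec (P := P) (Y := Y) hab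
  have hq := two_lt_of_odd (T := (S : Subgroup G).map f) (V := W) wd hp2
  have hker : ∀ z ∈ centralizer (V : Set G), ∀ w : W', z • w = w := by
    intro z hz w
    obtain ⟨x, hx, hxw⟩ := (c.rng (j w)).2 ⟨w, rfl⟩
    have h1 := c.cm z hxw.symm
    have h2 : x * z * x⁻¹ * z⁻¹ ∈ Y := hPC (commutator_mem_commutator hx hz)
    have h3 : z * x * z⁻¹ * x⁻¹ ∈ Y := by
      have := inv_mem h2
      have e : (x * z * x⁻¹ * z⁻¹)⁻¹ = z * x * z⁻¹ * x⁻¹ := by group
      rwa [e] at this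
    have h4 : QuotientGroup.mk' Y (z * x * z⁻¹ * x⁻¹) = 1 := (QuotientGroup.eq_one_iff _).2 h3
    rw [h4, ← c.zero] at h1
    exact sub_eq_zero.1 (c.inj h1)
  have hact : ∀ x y : G, f x = f y → ∀ w : W', x • w = y • w := by
    intro x y h w
    have h1 : y⁻¹ * x ∈ centralizer (V : Set G) := by
      rw [← m.ke, MonoidHom.mem_ker, map_mul, map_inv, h, inv_mul_cancel]
    have h2 := hker _ h1 w
    rwa [mul_smul, inv_smul_eq_iff] at h2
  have hLXN : LX p W ((S : Subgroup G).map f) X ≤ sSup {L | ∃ Y ∈ AT p W ((S : Subgroup G).map f), L = LX p W ((S : Subgroup G).map f) Y} :=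
    le_sSup ⟨X, hX, rfl⟩
  set Z' : Subgroup H := sSup {L | ∃ Y ∈ AT p W ((S : Subgroup G).map f), Y ≠ X ∧ L = LX p W ((S : Subgroup G).map f) Y} with hZ'
  have hZN : Z' ≤ sSup {L | ∃ Y ∈ AT p W ((S : Subgroup G).map f), L = LX p W ((S : Subgroup G).map f) Y} := by
    apply sSup_le
    rintro _ ⟨Y, hY, _, rfl⟩
    exact le_sSup ⟨Y, hY, rfl⟩
  have hNle : sSup {L | ∃ Y ∈ AT p W ((S : Subgroup G).map f), L = LX p W ((S : Subgroup G).map f) Y} ≤
      LX p W ((S : Subgroup G).map f) X ⊔ Z' := by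
    apply sSup_le
    rintro _ ⟨Y, hY, rfl⟩
    by_cases h : Y = X
    · rw [h]; exact le_sup_left
    · exact le_sup_of_le_right (le_sSup ⟨Y, hY, h, rfl⟩)
  have hCm : Cm (LX p W ((S : Subgroup G).map f) X) Z' := by
    apply Cm.symm
    apply cm_sSup
    rintro _ ⟨Y, hY, hne, rfl⟩
    exact lx_cm m.sit wd fam hq hY hX hne
  have hNn := base_normal m.sit wd fam
  have hqd : ∀ w : W', H52.Quad.qd W' a w = 0 := by
    refine H52.Quad.lemQ (N := (sSup {L | ∃ Y ∈ AT p W ((S : Subgroup G).map f), L = LX p W ((S : Subgroup G).map f) Y}).comap f)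
      (R := (LX p W ((S : Subgroup G).map f) X).comap f) (Z := Z'.comap f) (L := L2 p (S : Subgroup G) A g)
      (hNn := hNn.comap f) (c.nontriv hch) (c.irr hch) (comap_mono hLXN) (comap_mono hZN) ?_ ?_ ?_ ?_ ?_ ?_
    · rw [← map_le_iff_le_comap, L2_map s m l]
      refine sup_le hLXN ?_
      apply sSup_le
      rintro Y ⟨hY, _⟩
      exact (le_lx m.sit wd fam hY).trans (le_sSup ⟨Y, hY, rfl⟩)
    · rw [Subgroup.comap_sup_eq _ _ _ m.sj]
      exact comap_mono hNle
    · intro r hr z hz w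
      rw [← mul_smul, ← mul_smul]
      apply hact
      rw [map_mul, map_mul]
      exact hCm _ hr _ hz
    · refine mem_comap.2 (le_lx m.sit wd fam hX ?_)
      rw [← l.map]; exact ⟨a, haA, rfl⟩
    · intro r hr
      have h1 : f r ∈ (L2 p (S : Subgroup G) A g).map f := by
        rw [L2_map s m l]; exact mem_sup_left hr
      obtain ⟨y, hy, hyr⟩ := h1
      exact ⟨y, hy, hact r y hyr.symm⟩
    · intro W₁ hW₁
      exact c.nat (p := p) (F := F) (hQp.to_le hPQ) hch.1.le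
        (fun x hx y hy => B_le_L2 (NB_le_B s (cmQ s l.hA (hPQ hx) hy))) hnat haL hap hW₁
  refine ⟨a, haS, haQ, c.iter hch.1.le hqd ?_⟩
  have h2 := hp.out.two_le
  omega

end

end H52.Bau

namespace H52.Foc

open Subgroup H51.FF H51.SylowAmb H53.PU H51.OG Cfsg H52.CSS H39.MinFail

universe u

/-- there is no minimal failure for odd primes -/
theorem no_minFail {p : ℕ} [hp : Fact p.Prime] (hp2 : p ≠ 2) {G : Type u} [Group G] [Finite G] :
    ¬ IsMinFail p (AllW.{u} p) G := by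
  intro h
  obtain ⟨S⟩ := (inferInstance : Nonempty (Sylow p G))
  obtain ⟨M, V, X, Y, ft, hu⟩ := exists_ft h S
  have s := ft.toStd
  haveI := s.nor
  letI := H51.NAct.addV V (ab_of s.elV)
  letI := actH V (ab_of s.elV)
  obtain ⟨a, haS, haQ, ha⟩ := H52.Bau.exists_quad s (H52.Bau.Std.mo s) hp2 ft.noch ft.chief ft.XQ ft.XC
  exact hu a haS haQ ha

end H52.Foc
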