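import Cfsg.Agent.Lib.H52.Foc8
import Cfsg.Agent.Lib.H39.KTrans

/-!
# The focal subgroup for odd primes
-/

set_option autoImplicit false

namespace H52.Foc

open Cfsg H39.MinFail H39.Sect H38.Basic

universe u

theorem focal_le {G : Type u} [Group G] [Finite G] {p : ℕ} [hpp : Fact p.Prime] (hp : p ≠ 2) (S : Sylow p G)
    (hS : (S : Subgroup G) ≠ ⊥) :
    (S : Subgroup G) ⊓ commutator G ≤ ⨆ K : {K : Subgroup ↥(S : Subgroup G) // K ≠ ⊥ ∧ K.Characteristic}, (S : Subgroup G) ⊓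
      ⁅Subgroup.normalizer ((((K : Subgroup ↥(S : Subgroup G))).map (S : Subgroup G).subtype : Subgroup G) : Set G),
        Subgroup.normalizer ((((K : Subgroup ↥(S : Subgroup G))).map (S : Subgroup G).subtype : Subgroup G) : Set G)⁆ := by
  have h1 := H39.KTrans.fc_of_no_minFail (p := p) (𝓦 := AllW.{u} p) (fun W hW => hW) (allW_nonempty p)
    (fun X _ _ => no_minFail hp) G
  rw [fc_iff (𝓦 := AllW.{u} p) (fun W hW => hW) (isSyl_sylow S)] at h1
  have h2 : (S : Subgroup G) ⊓ commutator G ≤ (S : Subgroup G) ⊓ ⁅(⊤ : Subgroup G), (⊤ : Subgroup G)⁆ := le_rfl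
  refine h2.trans ?_
  rw [show (S : Subgroup G) ⊓ ⁅(⊤ : Subgroup G), (⊤ : Subgroup G)⁆ = _ from h1]
  apply iSup₂_le
  intro W hW
  have hnt : Nontrivial ↥(S : Subgroup G) := (Subgroup.nontrivial_iff_ne_bot _).2 hS
  have hK1 : W ↥(S : Subgroup G) ≠ ⊥ := hW.1 _ S.2 hnt
  have hK2 : (W ↥(S : Subgroup G)).Characteristic := by
    rw [Subgroup.characteristic_iff_map_eq]
    intro φ
    exact hW.2 _ _ S.2 φ
  refine le_trans ?_ (le_iSup _ (⟨W ↥(S : Subgroup G), hK1, hK2⟩ : {K : Subgroup ↥(S : Subgroup G) // K ≠ ⊥ ∧ K.Characteristic}))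
  apply inf_le_inf_left
  exact Subgroup.commutator_mono inf_le_right inf_le_right

end H52.Foc
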