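import Cfsg.Agent.Lib.H52.Trace

set_option autoImplicit false
set_option linter.unusedSectionVars false
set_option linter.unusedVariables false

/-! Kieler's lemma and relatives. -/

namespace H52.Kieler

open Subgroup Cfsg H52.PCore H52.PRes H52.Cop H52.Syl H52.Red H52.YL H52.YL2 H52.Trace
open scoped commutatorElement

variable {G : Type*} [Group G] [Finite G] {p : ℕ} [Fact p.Prime]

/-- `Ω₁(Z(T))` -/
abbrev oz (p : ℕ) (T : Subgroup G) : Subgroup G := omegaOne p (T ⊓ centralizer (T : Set G))

omit [Finite G] [Fact p.Prime] in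
theorem mem_oz {T : Subgroup G} {x : G} : x ∈ oz p T ↔ x ∈ T ∧ x ∈ centralizer (T : Set G) ∧ x ^ p = 1 := by
  rw [mem_omegaOne_iff (center_comm T), mem_inf, and_assoc]

omit [Finite G] [Fact p.Prime] in
theorem le_centralizer_oz (T : Subgroup G) : T ≤ centralizer (oz p T : Set G) := by
  rw [Subgroup.le_centralizer_iff]; exact omegaOne_le.trans inf_le_right

omit [Finite G] [Fact p.Prime] in
theorem oz_le (T : Subgroup G) : oz p T ≤ T := omegaOne_le.trans inf_le_left

/-- common splitting: `z ∈ Ω₁Z(T)` inside a normal elementary abelian `V` -/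
theorem split {L T V W : Subgroup G} (hT : SylIn p T L) (hV : IsElementaryAbelian p V)
    (hVL : V ≤ L) (hLV : L ≤ normalizer (V : Set G)) (hWV : W ≤ V) {z : G} (hzV : z ∈ V)
    (hzT : z ∈ centralizer (T : Set G)) (hzW : ∀ x ∈ L, x * z * x⁻¹ * z⁻¹ ∈ W) :
    ∃ w ∈ W, w ∈ oz p T ∧ z * w ∈ V ⊓ centralizer (L : Set G) := by
  obtain ⟨w, hw, hw2⟩ := exists_fixed_mul (elem_isPGroup hV) (elem_comm hV) hLV hT hWV hzV hzT hzW
  refine ⟨w, hw, ?_, hw2⟩
  rw [mem_oz]
  refine ⟨hT.normal_le hVL hLV (elem_isPGroup hV) (hWV hw), ?_, hV.2 w (hWV hw)⟩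
  have : w = z⁻¹ * (z * w) := by group
  rw [this]
  exact mul_mem (inv_mem hzT) (centralizer_le hT.le hw2.2)

theorem conj_mem_commutator_resOf {L T V : Subgroup G} (hT : SylIn p T L) {z : G} (hzV : z ∈ V)
    (hzT : z ∈ centralizer (T : Set G)) : ∀ x ∈ L, x * z * x⁻¹ * z⁻¹ ∈ ⁅V, resOf p L⁆ := by
  intro x hx
  rw [← hT.sup_resOf_eq, mem_sup_iff_of_le_normalizer (hT.le.trans (le_normalizer_resOf L))] at hx
  obtain ⟨t, ht, o, ho, rfl⟩ := hx
  have hto : t * o * t⁻¹ ∈ resOf p L := le_normalizer_iff.1 (le_normalizer_resOf L) t (hT.le ht) o ho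
  have htz := mem_centralizer_iff.1 hzT t ht
  have : t * o * z * (t * o)⁻¹ * z⁻¹ = ⁅t * o * t⁻¹, z⁆ := by
    simp only [commutatorElement_def]
    calc t * o * z * (t * o)⁻¹ * z⁻¹ = (t * o * t⁻¹) * ((t * z) * t⁻¹) * (t * o⁻¹ * t⁻¹) * z⁻¹ := by group
      _ = (t * o * t⁻¹) * ((z * t) * t⁻¹) * (t * o⁻¹ * t⁻¹) * z⁻¹ := by rw [htz]
      _ = _ := by group
  rw [this, commutator_comm]
  exact commutator_mem_commutator hto hzV

/-- Kieler's lemma, normal case (relative). -/
theorem kieler_normal {K L T : Subgroup G} (hK : K ⊓ centralizer (pCoreOf p K : Set G) ≤ pCoreOf p K)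
    (hT : SylIn p T K) (hLK : L ≤ K) (hn : K ≤ normalizer (L : Set G)) :
    L ⊓ centralizer (oz p T : Set G) = L ⊓ centralizer (oz p (T ⊓ L) : Set G) := by
  have hS : SylIn p (T ⊓ L) L := hT.inf_normal hLK hn
  set S := T ⊓ L with hSdef
  set Z := oz p T with hZ
  have hTZ : T ≤ centralizer (Z : Set G) := le_centralizer_oz T
  apply le_antisymm
  · -- direction 2
    refine le_inf inf_le_left ?_
    set X := L ⊓ centralizer (Z : Set G) with hX
    set U := oz p S with hU
    have hLchar := charP_of_normal hK hLK hn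
    have hOS : pCoreOf p L ≤ S := hS.pCoreOf_le
    have hUL : U ≤ L := (oz_le S).trans inf_le_right
    have hUC : U ≤ centralizer (pCoreOf p L : Set G) := by
      rw [Subgroup.le_centralizer_iff]
      exact hOS.trans (le_centralizer_oz S)
    have hUO : U ≤ pCoreOf p L := (le_inf hUL hUC).trans hLchar
    set Z' := pCoreOf p L ⊓ centralizer (pCoreOf p L : Set G) with hZ'
    have hZ'n : L ≤ normalizer (Z' : Set G) :=
      (le_inf (le_normalizer_pCoreOf L) ((le_normalizer_pCoreOf L).trans
        (normalizer_le_normalizer_centralizer _))).trans normalizer_inf_le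
    have hVZ' : ncl X U ≤ Z' := ncl_le (le_inf hUO hUC) (inf_le_left.trans hZ'n)
    have hZ'c : Z' ≤ centralizer (Z' : Set G) := center_comm _
    have hVe : IsElementaryAbelian p (ncl X U) := by
      unfold ncl
      apply elem_closure
      · intro x hx y hy
        have hx' := hVZ' (Subgroup.subset_closure hx)
        have hy' := hVZ' (Subgroup.subset_closure hy)
        exact (mem_centralizer_iff.1 (hZ'c hx') y hy').symm
      · rintro _ ⟨l, hl, x, hx, rfl⟩
        rw [conj_pow, (mem_oz.1 hx).2.2]; simp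
    have hTL : T ≤ normalizer (L : Set G) := hT.le.trans hn
    have hTS : T ≤ normalizer (S : Set G) := (le_inf le_normalizer hTL).trans normalizer_inf_le
    have hTU : T ≤ normalizer (U : Set G) :=
      (le_inf hTS (hTS.trans (normalizer_le_normalizer_centralizer _))).trans
        (normalizer_inf_le.trans (normalizer_le_normalizer_omegaOne _))
    have hTX : T ≤ normalizer (X : Set G) :=
      (le_inf hTL (hTZ.trans le_normalizer)).trans normalizer_inf_le
    have hTV : T ≤ normalizer (ncl X U : Set G) := by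
      intro t ht
      apply mem_normalizer_of_cj_eq
      rw [cj_ncl, cj_eq_of_mem_normalizer (hTX ht), cj_eq_of_mem_normalizer (hTU ht)]
    have hSX : SylIn p S X := hS.of_le (le_inf inf_le_right (inf_le_left.trans hTZ)) inf_le_left
    have h1 := fixed_of_fixed (elem_isPGroup hVe) (elem_comm hVe) (le_normalizer_ncl X U) hSX
      hT.isPGroup hTV hTX hTS (by
        rintro v ⟨hv, hvT⟩
        have hvZ : v ∈ Z := by
          rw [hZ, mem_oz]
          refine ⟨?_, hvT, hVe.2 v hv⟩
          exact (hOS.trans inf_le_left) ((hVZ' hv).1)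
        have : X ≤ centralizer (Z : Set G) := inf_le_right
        rw [Subgroup.le_centralizer_iff] at this
        exact this hvZ)
    have h2 : U ≤ centralizer (X : Set G) := by
      refine le_trans (le_inf (le_ncl X U) ?_) h1
      exact omegaOne_le.trans inf_le_right
    rwa [Subgroup.le_centralizer_iff] at h2
  · -- direction 1
    refine le_inf inf_le_left ?_
    have hV : PRed p K (ncl K Z) := pRed_ncl hK hT le_rfl hT.le pRed_omega_center
    set V := ncl K Z with hVdef
    rintro x ⟨hxL, hx⟩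
    rw [mem_centralizer_iff]
    intro z hz
    rw [SetLike.mem_coe] at hx
    have hzV : z ∈ V := le_ncl K Z hz
    have hW : ∀ y ∈ L, y * z * y⁻¹ * z⁻¹ ∈ V ⊓ L := by
      intro y hy
      refine Subgroup.mem_inf.2 ⟨?_, ?_⟩
      · exact V.mul_mem (le_normalizer_iff.1 hV.norm y (hLK hy) z hzV) (V.inv_mem hzV)
      · have : y * z * y⁻¹ * z⁻¹ = y * (z * y⁻¹ * z⁻¹) := by group
        rw [this]
        exact L.mul_mem hy (le_normalizer_iff.1 hn z (hV.le hzV) _ (L.inv_mem hy))
    obtain ⟨w, hw, hw2⟩ := exists_fixed_mul hV.isPGroup hV.comm (hLK.trans hV.norm) hS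
      (inf_le_left : V ⊓ L ≤ V) hzV
      (centralizer_le inf_le_left ((mem_oz.1 hz).2.1)) hW
    have hwS : w ∈ oz p S := by
      rw [mem_oz]
      refine ⟨⟨hT.normal_le hV.le hV.norm hV.isPGroup hw.1, hw.2⟩, ?_, hV.ea.2 w hw.1⟩
      have : w = z⁻¹ * (z * w) := by group
      rw [this]
      exact mul_mem (inv_mem (centralizer_le inf_le_left ((mem_oz.1 hz).2.1)))
        (centralizer_le inf_le_right hw2.2)
    have h3 := mem_centralizer_iff.1 hx w hwS
    have h4 := mem_centralizer_iff.1 hw2.2 x hxL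
    have : z = (z * w) * w⁻¹ := by group
    rw [this]
    have h5 : Commute (z * w) x := h4.symm
    have h6 : Commute w⁻¹ x := (show Commute w x from h3).inv_left
    exact h5.mul_left h6

theorem kieler {L T : Subgroup G} (hG : centralizer (pCore p G : Set G) ≤ pCore p G)
    (hT : SylIn p T ⊤) (hL : L.IsSubnormal) :
    L ⊓ centralizer (oz p T : Set G) = L ⊓ centralizer (oz p (T ⊓ L) : Set G) := by
  induction hL with
  | top => rw [inf_top_eq]
  | step H K h_le hK hN ih =>
    have h1 := kieler_normal (charP_of_subnormal hG hK) (hT.inf_subnormal hK) h_le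
      ((normal_subOf_iff h_le).1 hN)
    rw [inf_assoc, inf_eq_right.2 h_le] at h1
    rw [← h1, ← inf_eq_left.2 h_le, inf_assoc, ih, ← inf_assoc]

end H52.Kieler
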