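import Cfsg.Agent.Lib.H52.YMin
import Cfsg.Agent.Lib.H53.Amb

set_option autoImplicit false
set_option linter.unusedSectionVars false
set_option linter.unusedVariables false

/-! The L-Lemma for `p`-minimal groups. -/

namespace H52.LL

open Subgroup Cfsg H52.PCore H52.PRes H52.Cop H52.Syl H52.Red H52.YL H52.YL2 H52.Sub H52.Irr
open scoped commutatorElement

variable {G : Type*} [Group G] [Finite G] {p : ℕ} [Fact p.Prime]

theorem card_lt_of_lt {H K : Subgroup G} (h : H < K) : Nat.card ↥H < Nat.card ↥K := by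
  refine lt_of_le_of_ne (Subgroup.card_le_of_le h.le) ?_
  intro he
  exact h.ne (Subgroup.eq_of_le_of_card_ge h.le he.ge)

theorem lt_inf_normalizer {N T : Subgroup G} (hT : IsPGroup p T) (hNT : N < T) :
    N < T ⊓ normalizer (N : Set G) := by
  have hnc : Group.IsNilpotent T := hT.isNilpotent
  have h2 : N.subgroupOf T < Subgroup.normalizer ((N.subgroupOf T : Subgroup T) : Set T) := by
    apply Group.normalizerCondition_of_isNilpotent
    rw [lt_top_iff_ne_top, Ne, Subgroup.subgroupOf_eq_top]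
    exact not_le_of_gt hNT
  obtain ⟨y, hy1, hy2⟩ := SetLike.exists_of_lt h2
  have hyN : (y : G) ∉ N := fun hh => hy2 (by rwa [Subgroup.mem_subgroupOf])
  refine lt_of_le_of_ne (le_inf hNT.le le_normalizer) ?_
  intro he
  apply hyN
  rw [he]
  refine Subgroup.mem_inf.2 ⟨y.2, ?_⟩
  rw [Subgroup.mem_normalizer_iff] at hy1 ⊢
  intro z
  constructor
  · intro hz
    have := (hy1 ⟨z, hNT.le hz⟩).1 (by rwa [Subgroup.mem_subgroupOf])
    rw [Subgroup.mem_subgroupOf] at this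
    exact this
  · intro hz
    have hzT : z ∈ T := by
      have h3 : (y : G)⁻¹ * (y * z * (y : G)⁻¹) * y ∈ T :=
        mul_mem (mul_mem (inv_mem y.2) (hNT.le hz)) y.2
      have h4 : (y : G)⁻¹ * (y * z * (y : G)⁻¹) * y = z := by group
      rwa [h4] at h3
    have := (hy1 ⟨z, hzT⟩).2 (by rw [Subgroup.mem_subgroupOf]; exact hz)
    rwa [Subgroup.mem_subgroupOf] at this

/-- `U` is the unique maximal subgroup of `H` above `B`. -/
def UM (H B U : Subgroup G) : Prop := B ≤ U ∧ U < H ∧ ∀ X : Subgroup G, B ≤ X → X < H → X ≤ U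

theorem UM.unique {H B U U' : Subgroup G} (h : UM H B U) (h' : UM H B U') : U = U' :=
  le_antisymm (h'.2.2 _ h.1 h.2.1) (h.2.2 _ h'.1 h'.2.1)

theorem cj_lt_cj {g : G} {H K : Subgroup G} (h : H < K) : cj g H < cj g K :=
  lt_of_le_of_ne (cj_mono h.le) (fun he => h.ne (cj_inj.1 he))

theorem UM.cj {H B U : Subgroup G} (h : UM H B U) {g : G} (hg : g ∈ H) :
    UM H (Syl.cj g B) (Syl.cj g U) := by
  refine ⟨cj_mono h.1, ?_, ?_⟩
  · have := cj_lt_cj (g := g) h.2.1
    rwa [cj_of_mem hg] at this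
  · intro X hX hXH
    rw [le_cj_iff]
    apply h.2.2
    · rwa [← cj_le_iff]
    · have := cj_lt_cj (g := g⁻¹) hXH
      rwa [cj_of_mem (inv_mem hg)] at this

structure PM (p : ℕ) (H M : Subgroup G) : Prop where
  lt : M < H
  syl : ∃ T, SylIn p T H ∧ UM H T M
  self : ∀ x ∈ H, Syl.cj x M = M → x ∈ M

/-- Sylow subgroups lie in unique maximal subgroups. -/
theorem PM.um {H M : Subgroup G} (h : PM p H M) {S : Subgroup G} (hS : SylIn p S H) :
    ∃ g ∈ H, UM H S (Syl.cj g M) := by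
  obtain ⟨T, hT, hU⟩ := h.syl
  obtain ⟨g, hg, rfl⟩ := hT.conj hS
  exact ⟨g, hg, hU.cj hg⟩

theorem PM.cj_lt {H M : Subgroup G} (h : PM p H M) {g : G} (hg : g ∈ H) : Syl.cj g M < H := by
  have := LL.cj_lt_cj (g := g) h.lt
  rwa [cj_of_mem hg] at this

theorem PM.max {H M : Subgroup G} (h : PM p H M) {g : G} (hg : g ∈ H) {X : Subgroup G}
    (hX : Syl.cj g M ≤ X) (hXH : X < H) : X = Syl.cj g M := by
  obtain ⟨T, hT, hU⟩ := h.syl
  have h1 := hU.cj hg
  exact le_antisymm (h1.2.2 X (h1.1.trans hX) hXH) hX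

theorem PM.self_cj {H M : Subgroup G} (h : PM p H M) {g : G} (hg : g ∈ H) {x : G} (hx : x ∈ H)
    (he : Syl.cj x (Syl.cj g M) = Syl.cj g M) : x ∈ Syl.cj g M := by
  rw [mem_cj]
  apply h.self _ (mul_mem (mul_mem (inv_mem hg) hx) hg)
  rw [mul_assoc, ← Syl.cj_cj, ← Syl.cj_cj, he, cj_inv_cj]

theorem PM.exists_le {H M : Subgroup G} (h : PM p H M) {B : Subgroup G} (hB : IsPGroup p B) (hBH : B ≤ H) :
    ∃ g ∈ H, B ≤ Syl.cj g M := by
  obtain ⟨S, hS, hBS⟩ := exists_sylIn_le hBH hB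
  obtain ⟨g, hg, hU⟩ := h.um hS
  exact ⟨g, hg, hBS.trans hU.1⟩

theorem PM.pCoreOf_le {H M : Subgroup G} (h : PM p H M) {g : G} (hg : g ∈ H) : pCoreOf p H ≤ Syl.cj g M := by
  obtain ⟨T, hT, hU⟩ := h.syl
  exact ((hT.cj g).pCoreOf_le |> fun h' => by
    rw [cj_of_mem hg] at h'
    exact h'.trans (cj_mono hU.1))

/-- The conclusion of the L-Lemma. -/
def Concl (p : ℕ) (H M A : Subgroup G) : Prop := ∃ L L₀ : Subgroup G, A ⊔ pCoreOf p H ≤ L ∧ L ≤ H ∧
  A ⊔ pCoreOf p L ≤ L₀ ∧ L₀ < L ∧ (∀ X, A ⊔ pCoreOf p L ≤ X → X < L → X ≤ L₀) ∧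
  (∃ g ∈ H, L₀ = L ⊓ Syl.cj g M) ∧ ∀ x ∈ L, x ∉ L₀ → A ⊔ Syl.cj x A ⊔ pCoreOf p L = L

theorem cj_pCoreOf (g : G) (L : Subgroup G) : cj g (pCoreOf p L) = pCoreOf p (cj g L) :=
  H53.Amb.pCoreOf_map_conj p L g

theorem Concl.cj {H M A : Subgroup G} (hc : Concl p H M A) {h : G} (hh : h ∈ H) :
    Concl p H M (Syl.cj h A) := by
  obtain ⟨L, L₀, h1, h2, h3, h4, h5, ⟨g, hg, h6⟩, h7⟩ := hc
  refine ⟨Syl.cj h L, Syl.cj h L₀, ?_, ?_, ?_, cj_lt_cj h4, ?_, ⟨h * g, mul_mem hh hg, ?_⟩, ?_⟩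
  · have := cj_mono (g := h) h1
    rwa [cj_sup, cj_pCoreOf, cj_of_mem hh] at this
  · have := cj_mono (g := h) h2
    rwa [cj_of_mem hh] at this
  · have := cj_mono (g := h) h3
    rwa [cj_sup, cj_pCoreOf] at this
  · intro X hX hXL
    rw [le_cj_iff]
    apply h5
    · rw [← cj_pCoreOf, ← cj_sup, cj_le_iff] at hX; exact hX
    · have := cj_lt_cj (g := h⁻¹) hXL
      rwa [cj_inv_cj] at this
  · rw [h6, cj_inf, Syl.cj_cj]
  · intro x hx hx0
    rw [mem_cj] at hx hx0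
    have := congrArg (Syl.cj h) (h7 _ hx hx0)
    rw [cj_sup, cj_sup, cj_pCoreOf, Syl.cj_cj] at this
    rw [Syl.cj_cj]
    have h8 : h * (h⁻¹ * x * h) = x * h := by group
    rwa [h8] at this

theorem concl_of_cj {H M A : Subgroup G} {h : G} (hh : h ∈ H) (hc : Concl p H M (Syl.cj h A)) :
    Concl p H M A := by
  have := hc.cj (inv_mem hh)
  rwa [cj_inv_cj] at this

/-- direct construction when `A` lies in a unique conjugate of `M`. -/
theorem concl_of_unique {H M A : Subgroup G} (h : PM p H M) (hA : IsPGroup p A) (hAH : A ≤ H)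
    {g₀ : G} (hg₀ : g₀ ∈ H) (hAg : A ≤ Syl.cj g₀ M)
    (hu : ∀ g ∈ H, A ≤ Syl.cj g M → Syl.cj g M = Syl.cj g₀ M) : Concl p H M A := by
  obtain ⟨N, hN⟩ : ∃ N : Subgroup G, N = Syl.cj g₀ M := ⟨_, rfl⟩
  rw [← hN] at hAg hu
  have hNH : N < H := hN ▸ h.cj_lt hg₀
  obtain ⟨L, hLH, hL⟩ := (Set.toFinite {X : Subgroup G | A ⊔ pCoreOf p H ≤ X ∧ X ≤ H ∧ ¬ X ≤ N}).exists_le_minimal
    (show H ∈ _ from ⟨sup_le hAH (PCore.pCoreOf_le H), le_rfl, not_le_of_gt hNH⟩)
  obtain ⟨hAL, -, hLN⟩ := hL.prop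
  have hQL : pCoreOf p H ≤ pCoreOf p L :=
    le_pCoreOf (le_sup_right.trans hAL) (hLH.trans (le_normalizer_pCoreOf H)) (isPGroup_pCoreOf H)
  have hAOL : IsPGroup p ((A ⊔ pCoreOf p L : Subgroup G)) :=
    hA.to_sup_of_normal_right' (isPGroup_pCoreOf L) ((le_sup_left.trans hAL).trans (le_normalizer_pCoreOf L))
  have hAOLL : A ⊔ pCoreOf p L ≤ L := sup_le (le_sup_left.trans hAL) (PCore.pCoreOf_le L)
  have hX : ∀ X, A ⊔ pCoreOf p L ≤ X → X < L → X ≤ L ⊓ N := by
    intro X hAX hXL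
    refine le_inf hXL.le ?_
    by_contra hne
    have := hL.eq_of_le (show X ∈ _ from ⟨(sup_le_sup_left hQL A).trans hAX, hXL.le.trans hLH, hne⟩) hXL.le
    exact hXL.ne this
  refine ⟨L, L ⊓ N, hAL, hLH, ?_, ?_, hX, ⟨g₀, hg₀, by rw [hN]⟩, ?_⟩
  · refine le_inf hAOLL ?_
    obtain ⟨g, hg, hle⟩ := h.exists_le hAOL (hAOLL.trans hLH)
    have := hu g hg (le_sup_left.trans hle)
    rwa [this] at hle
  · refine lt_of_le_of_ne inf_le_left ?_
    intro he
    exact hLN (by rw [← he]; exact inf_le_right)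
  · intro x hx hx0
    have h1 : A ⊔ Syl.cj x A ⊔ pCoreOf p L ≤ L := by
      refine sup_le (sup_le (le_sup_left.trans hAL) ?_) (PCore.pCoreOf_le L)
      calc Syl.cj x A ≤ Syl.cj x L := cj_mono (le_sup_left.trans hAL)
        _ = L := cj_of_mem hx
    by_contra hne
    have h2 := hX _ (sup_le (le_sup_left.trans le_sup_left) le_sup_right) (lt_of_le_of_ne h1 hne)
    have h3 : Syl.cj x A ≤ N := ((le_sup_right.trans le_sup_left).trans h2).trans inf_le_right
    rw [cj_le_iff, hN, Syl.cj_cj] at h3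
    have hxH : x ∈ H := hLH hx
    have h4 := hu _ (mul_mem (inv_mem hxH) hg₀) h3
    rw [← Syl.cj_cj, ← hN] at h4
    -- `x⁻¹` fixes `N`
    have h5 : x⁻¹ ∈ N := by
      rw [hN]
      apply h.self_cj hg₀ (inv_mem hxH)
      rw [← hN]; exact h4
    exact hx0 (mem_inf.2 ⟨hx, by simpa using inv_mem h5⟩)

theorem concl_of_sup {H M A : Subgroup G} (hAH : A ≤ H) (hc : Concl p H M (A ⊔ pCoreOf p H)) :
    Concl p H M A := by
  obtain ⟨L, L₀, h1, h2, h3, h4, h5, h6, h7⟩ := hc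
  have hQL : pCoreOf p H ≤ pCoreOf p L :=
    le_pCoreOf (le_sup_right.trans h1) (h2.trans (le_normalizer_pCoreOf H)) (isPGroup_pCoreOf H)
  have he : A ⊔ pCoreOf p H ⊔ pCoreOf p L = A ⊔ pCoreOf p L := by
    rw [sup_assoc, sup_eq_right.2 hQL]
  rw [he] at h3 h5
  refine ⟨L, L₀, le_sup_left.trans h1, h2, h3, h4, h5, h6, ?_⟩
  intro x hx hx0
  have := h7 x hx hx0
  have hxQ : cj x (pCoreOf p H) = pCoreOf p H := cj_eq_of_mem_normalizer (le_normalizer_pCoreOf H (h2 hx))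
  rw [cj_sup, hxQ] at this
  refine Eq.trans ?_ this
  apply le_antisymm
  · exact sup_le_sup_right (sup_le_sup le_sup_left le_sup_left) _
  · have h8 : pCoreOf p H ≤ A ⊔ cj x A ⊔ pCoreOf p L := hQL.trans le_sup_right
    exact sup_le (sup_le (sup_le (le_sup_left.trans le_sup_left) h8)
      (sup_le (le_sup_right.trans le_sup_left) h8)) le_sup_right

/-- join of the `H`-conjugates of `A` inside `S` -/
def W (H A S : Subgroup G) : Subgroup G := ⨆ h : {h : G // h ∈ H ∧ Syl.cj h A ≤ S}, Syl.cj (h : G) A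

theorem W_le (H A S : Subgroup G) : W H A S ≤ S := iSup_le fun h => h.2.2

theorem cj_le_W {H A S : Subgroup G} {h : G} (hh : h ∈ H) (hS : Syl.cj h A ≤ S) : Syl.cj h A ≤ W H A S :=
  le_iSup (fun h : {h : G // h ∈ H ∧ Syl.cj h A ≤ S} => Syl.cj (h : G) A) ⟨h, hh, hS⟩

theorem le_W {H A S : Subgroup G} (hS : A ≤ S) : A ≤ W H A S := by
  have := cj_le_W (H := H) (A := A) (S := S) H.one_mem (by rwa [cj_one])
  rwa [cj_one] at this

theorem W_le_iff {H A S K : Subgroup G} : W H A S ≤ K ↔ ∀ h ∈ H, Syl.cj h A ≤ S → Syl.cj h A ≤ K := by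
  constructor
  · intro hK h hh hS
    exact (cj_le_W hh hS).trans hK
  · intro hK
    exact iSup_le fun h => hK h h.2.1 h.2.2

/-- if `A` is the only conjugate of `A` in `S` then `N_H(S)` normalizes `A` -/
theorem normalizer_le_of_W_eq {H A S : Subgroup G} (hAS : A ≤ S) (hW : W H A S = A) :
    H ⊓ normalizer (S : Set G) ≤ normalizer (A : Set G) := by
  rintro x hx
  obtain ⟨hxH, hxS⟩ := mem_inf.1 hx
  apply mem_normalizer_of_cj_le
  have : cj x A ≤ S := by
    calc cj x A ≤ cj x S := cj_mono hAS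
      _ = S := cj_eq_of_mem_normalizer hxS
  exact (cj_le_W hxH this).trans hW.le

theorem main_step {H M : Subgroup G} (h : PM p H M)
    (IH1 : ∀ L L₀ : Subgroup G, Nat.card L < Nat.card H → PM p L L₀ → ∀ A : Subgroup G, A ≤ L → IsPGroup p A →
      ¬ A ≤ pCoreOf p L → Concl p L L₀ A)
    {A : Subgroup G} (hAH : A ≤ H) (hA : IsPGroup p A) (hAO : ¬ A ≤ pCoreOf p H) (hQA : pCoreOf p H ≤ A)
    (IH2 : ∀ B : Subgroup G, B ≤ H → IsPGroup p B → ¬ B ≤ pCoreOf p H → Nat.card A < Nat.card B → Concl p H M B) :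
    Concl p H M A := by
  by_contra hfail
  have hHQ := le_normalizer_pCoreOf (p := p) H
  -- Step C
  have stepC : ∀ S : Subgroup G, S ≤ H → IsPGroup p S → A ≤ S → W H A S ≠ A → ∃ g ∈ H, UM H (W H A S) (cj g M) := by
    intro S hSH hSp hAS hWA
    obtain ⟨B, hB⟩ : ∃ B : Subgroup G, B = W H A S := ⟨_, rfl⟩
    rw [← hB] at hWA ⊢
    have hAB : A < B := lt_of_le_of_ne (hB ▸ le_W hAS) (Ne.symm hWA)
    have hBS : B ≤ S := hB ▸ W_le H A S
    have hBH := hBS.trans hSH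
    have hBp : IsPGroup p B := hSp.to_le hBS
    have hBO : ¬ B ≤ pCoreOf p H := fun h' => hAO (hAB.le.trans h')
    obtain ⟨L, L₀, h1, h2, h3, h4, h5, ⟨g, hg, h6⟩, h7⟩ := IH2 B hBH hBp hBO (card_lt_of_lt hAB)
    have hQL : pCoreOf p H ≤ pCoreOf p L :=
      le_pCoreOf (le_sup_right.trans h1) (h2.trans (le_normalizer_pCoreOf H)) (isPGroup_pCoreOf H)
    have hBL : B ≤ L := le_sup_left.trans h1
    by_cases hLH : L = H
    · subst hLH
      have h8 : L₀ = cj g M := by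
        rw [h6]; exact inf_eq_right.2 (h.cj_lt hg).le
      refine ⟨g, hg, ?_⟩
      rw [← h8]
      refine ⟨le_sup_left.trans h3, h4, ?_⟩
      intro X hBX hX
      exact h5 X (sup_le hBX (hQA.trans (hAB.le.trans hBX))) hX
    · exfalso
      have hLlt : L < H := lt_of_le_of_ne h2 hLH
      -- `PM L L₀`
      have hself : ∀ x ∈ L, cj x L₀ = L₀ → x ∈ L₀ := by
        intro x hx he
        by_contra hx0
        have h8 := h7 x hx hx0
        apply h4.not_ge
        conv_lhs => rw [← h8]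
        refine sup_le (sup_le (le_sup_left.trans h3) ?_) (le_sup_right.trans h3)
        calc cj x B ≤ cj x L₀ := cj_mono (le_sup_left.trans h3)
          _ = L₀ := he
      have hBOp : IsPGroup p ((B ⊔ pCoreOf p L : Subgroup G)) :=
        hBp.to_sup_of_normal_right' (isPGroup_pCoreOf L) (hBL.trans (le_normalizer_pCoreOf L))
      have hBOL : B ⊔ pCoreOf p L ≤ L := sup_le hBL (PCore.pCoreOf_le L)
      obtain ⟨T, hT, hBT⟩ := exists_sylIn_le hBOL hBOp
      have hTL : T ≠ L := by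
        rintro rfl
        have h8 : pCoreOf p T = T := le_antisymm (PCore.pCoreOf_le T) (le_pCoreOf le_rfl le_normalizer hT.isPGroup)
        rw [h8] at h3
        exact h4.not_ge (le_sup_right.trans h3)
      have hTL₀ : T ≤ L₀ := h5 T hBT (lt_of_le_of_ne hT.le hTL)
      have hPM : PM p L L₀ := ⟨h4, ⟨T, hT, hTL₀, h4, fun X hTX hX => h5 X (hBT.trans hTX) hX⟩, hself⟩
      have key : B ≤ pCoreOf p L := by
        conv_lhs => rw [hB]
        rw [W_le_iff]
        intro x hx hxS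
        by_contra hne
        have hxB : cj x A ≤ B := hB ▸ cj_le_W hx hxS
        obtain ⟨L', L₀', k1, k2, k3, k4, k5, ⟨g', hg', k6⟩, k7⟩ :=
          IH1 L L₀ (card_lt_of_lt hLlt) hPM (cj x A) (hxB.trans hBL) (isPGroup_cj hA) hne
        apply hfail
        apply concl_of_cj hx
        refine ⟨L', L₀', sup_le (le_sup_left.trans k1) ((hQL.trans le_sup_right).trans k1), k2.trans h2, k3, k4, k5,
          ⟨g' * g, mul_mem (h2 hg') hg, ?_⟩, k7⟩
        rw [k6, h6, cj_inf, cj_of_mem hg', Syl.cj_cj, ← inf_assoc, inf_eq_left.2 k2]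
      -- contradiction
      obtain ⟨x, hx, hx0⟩ := SetLike.exists_of_lt h4
      have h8 := h7 x hx hx0
      apply h4.not_ge
      conv_lhs => rw [← h8]
      refine sup_le (sup_le (le_sup_left.trans h3) ?_) (le_sup_right.trans h3)
      refine le_trans ?_ (le_sup_right.trans h3)
      calc cj x B ≤ cj x (pCoreOf p L) := cj_mono key
        _ = pCoreOf p L := cj_eq_of_mem_normalizer (le_normalizer_pCoreOf L hx)
  -- `N_H(A)` and a maximal subgroup above it
  have hNA : H ⊓ normalizer (A : Set G) < H := by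
    refine lt_of_le_of_ne inf_le_left ?_
    intro he
    apply hAO
    refine le_pCoreOf hAH ?_ hA
    rw [← he]; exact inf_le_right
  obtain ⟨N, hNle, hN⟩ := (Set.toFinite {X : Subgroup G | X < H}).exists_le_maximal
    (show H ⊓ normalizer (A : Set G) ∈ {X : Subgroup G | X < H} from hNA)
  have hNH : N < H := hN.prop
  have hNmax : ∀ X, N ≤ X → X < H → X = N := fun X h1 h2 => (hN.eq_of_le h2 h1).symm
  have hAN : A ≤ N := (le_inf hAH le_normalizer).trans hNle
  -- when `W S = A`, a Sylow subgroup `S` of a subgroup `K ≥ N_H(A) ∩ R` is big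
  have big : ∀ (K S : Subgroup G), K ≤ H → SylIn p S K → A ≤ S → W H A S = A →
      (∀ R : Subgroup G, SylIn p R K → S ≤ R → True) → S ≤ N → H ⊓ normalizer (S : Set G) ≤ N := by
    intro K S hK hS hAS hW _ _
    exact (le_inf inf_le_left (normalizer_le_of_W_eq hAS hW)).trans hNle
  -- Step E1
  have hE1 : ∃ g ∈ H, N = cj g M := by
    obtain ⟨S, hS, hAS⟩ := exists_sylIn_le hAN hA
    by_cases hW : W H A S = A
    · have h1 : H ⊓ normalizer (S : Set G) ≤ N := (le_inf inf_le_left (normalizer_le_of_W_eq hAS hW)).trans hNle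
      obtain ⟨T, hT, hST⟩ := exists_sylIn_le (hS.le.trans hNH.le) hS.isPGroup
      have h2 : S = T := by
        by_contra hne
        have h3 := lt_inf_normalizer hT.isPGroup (lt_of_le_of_ne hST hne)
        have h4 : T ⊓ normalizer (S : Set G) ≤ N := (inf_le_inf_right _ hT.le).trans h1
        exact h3.ne (hS.max h4 (hT.isPGroup.to_le inf_le_left) h3.le).symm
      subst h2
      obtain ⟨g, hg, hU⟩ := h.um hT
      exact ⟨g, hg, (hNmax _ (hU.2.2 N hS.le hNH) hU.2.1).symm⟩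
    · obtain ⟨g, hg, hU⟩ := stepC S (hS.le.trans hNH.le) hS.isPGroup hAS hW
      exact ⟨g, hg, (hNmax _ (hU.2.2 N ((W_le H A S).trans hS.le) hNH) hU.2.1).symm⟩
  obtain ⟨g₀, hg₀, hNg⟩ := hE1
  apply hfail
  apply concl_of_unique h hA hAH hg₀ (hNg ▸ hAN)
  -- Step E2
  intro g hg hAg
  rw [← hNg]
  obtain ⟨M₂, hM₂⟩ : ∃ M₂ : Subgroup G, M₂ = cj g M := ⟨_, rfl⟩
  rw [← hM₂] at hAg ⊢
  have hM₂H : M₂ < H := hM₂ ▸ h.cj_lt hg
  have hM₂max : ∀ X, M₂ ≤ X → X < H → X = M₂ := fun X h1 h2 => by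
    rw [hM₂] at h1 ⊢; exact h.max hg h1 h2
  obtain ⟨S, hS, hAS⟩ := exists_sylIn_le (le_inf hAg hAN) hA
  have hSM₂ : S ≤ M₂ := hS.le.trans inf_le_left
  have hSN : S ≤ N := hS.le.trans inf_le_right
  by_cases hW : W H A S = A
  · have h1 : H ⊓ normalizer (S : Set G) ≤ N := (le_inf inf_le_left (normalizer_le_of_W_eq hAS hW)).trans hNle
    obtain ⟨T, hT, hST⟩ := exists_sylIn_le hSM₂ hS.isPGroup
    have h2 : S = T := by
      by_contra hne
      have h3 := lt_inf_normalizer hT.isPGroup (lt_of_le_of_ne hST hne)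
      have h4 : T ⊓ normalizer (S : Set G) ≤ M₂ ⊓ N := by
        refine le_inf (inf_le_left.trans hT.le) ((inf_le_inf_right _ (hT.le.trans hM₂H.le)).trans h1)
      exact h3.ne (hS.max h4 (hT.isPGroup.to_le inf_le_left) h3.le).symm
    subst h2
    -- `S` is Sylow in `H`
    have h3 : SylIn p S H := by
      obtain ⟨T₀, hT₀, hU⟩ := h.syl
      have h4 : SylIn p (cj g T₀) H := by
        have := hT₀.cj g; rwa [cj_of_mem hg] at this
      have h5 : SylIn p (cj g T₀) M₂ := h4.of_le (by rw [hM₂]; exact cj_mono hU.1) hM₂H.le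
      obtain ⟨m, hm, he⟩ := h5.conj hT
      rw [he]
      have := h4.cj m
      rwa [cj_of_mem (hM₂H.le hm)] at this
    obtain ⟨g', hg', hU⟩ := h.um h3
    have h4 := hM₂max _ (hU.2.2 M₂ hSM₂ hM₂H) hU.2.1
    have h5 := hNmax _ (hU.2.2 N hSN hNH) hU.2.1
    rw [← h4, ← h5]
  · obtain ⟨g', hg', hU⟩ := stepC S (hSN.trans hNH.le) hS.isPGroup hAS hW
    have h4 := hM₂max _ (hU.2.2 M₂ ((W_le H A S).trans hSM₂) hM₂H) hU.2.1
    have h5 := hNmax _ (hU.2.2 N ((W_le H A S).trans hSN) hNH) hU.2.1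
    rw [← h4, ← h5]

theorem main : ∀ (n : ℕ) (H M : Subgroup G), Nat.card H ≤ n → PM p H M → ∀ A : Subgroup G, A ≤ H → IsPGroup p A →
    ¬ A ≤ pCoreOf p H → Concl p H M A := by
  intro n
  induction n with
  | zero =>
    intro H M hn
    have : 0 < Nat.card H := Nat.card_pos
    omega
  | succ n IH =>
    intro H M hn h
    have IH1 : ∀ L L₀ : Subgroup G, Nat.card L < Nat.card H → PM p L L₀ → ∀ A : Subgroup G, A ≤ L → IsPGroup p A →
      ¬ A ≤ pCoreOf p L → Concl p L L₀ A := fun L L₀ hL => IH L L₀ (by omega)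
    have key : ∀ (m : ℕ) (A : Subgroup G), Nat.card H - Nat.card A ≤ m → A ≤ H → IsPGroup p A →
        ¬ A ≤ pCoreOf p H → Concl p H M A := by
      intro m
      induction m with
      | zero =>
        intro A hm hAH hA hAO
        exfalso
        have h1 : Nat.card A ≤ Nat.card H := card_le_of_le hAH
        have h2 : A = H := eq_of_le_of_card_ge hAH (by omega)
        subst h2
        exact hAO (le_pCoreOf le_rfl le_normalizer hA)
      | succ m ih =>
        intro A hm hAH hA hAO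
        apply concl_of_sup hAH
        have hp : IsPGroup p ((A ⊔ pCoreOf p H : Subgroup G)) :=
          hA.to_sup_of_normal_right' (isPGroup_pCoreOf H) (hAH.trans (le_normalizer_pCoreOf H))
        have h1 : Nat.card A ≤ Nat.card (A ⊔ pCoreOf p H : Subgroup G) := card_le_of_le le_sup_left
        apply main_step h IH1 (sup_le hAH (PCore.pCoreOf_le H)) hp (fun h' => hAO (le_sup_left.trans h')) le_sup_right
        intro B hBH hBp hBO hcard
        have h2 : Nat.card B ≤ Nat.card H := card_le_of_le hBH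
        exact ih B (by omega) hBH hBp hBO
    exact fun A => key _ A le_rfl

end H52.LL
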