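import Cfsg.Agent.Lib.H52.Offender

/-!
# The pairing argument: two opposite quadratic offenders produce an `S₄`-section
-/

set_option autoImplicit false

namespace H52.Pairing

open Subgroup Cfsg H38.Basic H52.ThompNPC3
open scoped commutatorElement

/-- four elements generating an `S₄`-section -/
theorem involves_of_pair {G : Type*} [Group G] [Finite G] {a b v w : G} (hva : a * v * a⁻¹ = w * v)
    (hwa : a * w = w * a) (hvb : b * v = v * b) (hwb : b * w * b⁻¹ = v * w) (hv2 : v * v = 1) (hw2 : w * w = 1)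
    (hvw : v * w = w * v) (hv : v ≠ 1) (hw : w ≠ 1) : Involves (Equiv.Perm (Fin 4)) G := by
  classical
  have hvi : v⁻¹ = v := inv_eq_of_mul_eq_one_left hv2
  have hwi : w⁻¹ = w := inv_eq_of_mul_eq_one_left hw2
  let T : Subgroup G :=
    { carrier := {x | x = 1 ∨ x = v ∨ x = w ∨ x = v * w}
      one_mem' := Or.inl rfl
      mul_mem' := by
        have e1 : v * (v * w) = w := by rw [← mul_assoc, hv2, one_mul]
        have e2 : w * (v * w) = v := by rw [← mul_assoc, ← hvw, mul_assoc, hw2, mul_one]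
        have e3 : v * w * v = w := by rw [hvw, mul_assoc, hv2, mul_one]
        have e4 : v * w * w = v := by rw [mul_assoc, hw2, mul_one]
        have e5 : v * w * (v * w) = 1 := by rw [mul_assoc, e2, hv2]
        rintro x y (rfl | rfl | rfl | rfl) (rfl | rfl | rfl | rfl)
        · left; rw [one_mul]
        · right; left; rw [one_mul]
        · right; right; left; rw [one_mul]
        · right; right; right; rw [one_mul]
        · right; left; rw [mul_one]
        · left; exact hv2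
        · right; right; right; rfl
        · right; right; left; exact e1
        · right; right; left; rw [mul_one]
        · right; right; right; exact hvw.symm
        · left; exact hw2
        · right; left; exact e2
        · right; right; right; rw [mul_one]
        · right; right; left; exact e3
        · right; left; exact e4
        · left; exact e5
      inv_mem' := by
        rintro x (rfl | rfl | rfl | rfl)
        · left; exact inv_one
        · right; left; exact hvi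
        · right; right; left; exact hwi
        · right; right; right; rw [mul_inv_rev, hvi, hwi, hvw] }
  have hvT : v ∈ T := Or.inr (Or.inl rfl)
  have hwT : w ∈ T := Or.inr (Or.inr (Or.inl rfl))
  have hTcase : ∀ x ∈ T, x = 1 ∨ x = v ∨ x = w ∨ x = v * w := fun x hx => hx
  have hTp : IsPGroup 2 T := by
    rintro ⟨x, hx⟩
    refine ⟨1, Subtype.ext ?_⟩
    show x ^ 2 ^ 1 = 1
    rw [pow_one, pow_two]
    rcases hTcase x hx with rfl | rfl | rfl | rfl
    · exact one_mul 1
    · exact hv2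
    · exact hw2
    · calc v * w * (v * w) = v * (w * v) * w := by group
        _ = v * (v * w) * w := by rw [hvw]
        _ = (v * v) * (w * w) := by group
        _ = 1 := by rw [hv2, hw2, one_mul]
  have hnorm : ∀ g : G, g * v * g⁻¹ ∈ T → g * w * g⁻¹ ∈ T → g ∈ normalizer (T : Set G) := by
    intro g h1 h2
    apply mem_normalizer_fintype
    intro x hx
    rcases hTcase x hx with rfl | rfl | rfl | rfl
    · show g * 1 * g⁻¹ ∈ T
      rw [mul_one, mul_inv_cancel]; exact one_mem T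
    · exact h1
    · exact h2
    · show g * (v * w) * g⁻¹ ∈ T
      have : g * (v * w) * g⁻¹ = (g * v * g⁻¹) * (g * w * g⁻¹) := by group
      rw [this]; exact mul_mem h1 h2
  have hcent : ∀ g : G, g * v * g⁻¹ = v → g * w * g⁻¹ = w → g ∈ centralizer (T : Set G) := by
    intro g h1 h2
    have h1' : g * v = v * g := by rw [← mul_inv_eq_iff_eq_mul]; exact h1
    have h2' : g * w = w * g := by rw [← mul_inv_eq_iff_eq_mul]; exact h2
    rw [mem_centralizer_iff]
    intro x hx
    rcases hTcase x hx with rfl | rfl | rfl | rfl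
    · rw [one_mul, mul_one]
    · exact h1'.symm
    · exact h2'.symm
    · rw [mul_assoc, ← h2', ← mul_assoc, ← h1', mul_assoc]
  have hwa' : a * w * a⁻¹ = w := by rw [mul_inv_eq_iff_eq_mul]; exact hwa
  have hvb' : b * v * b⁻¹ = v := by rw [mul_inv_eq_iff_eq_mul]; exact hvb
  have haN : a ∈ normalizer (T : Set G) :=
    hnorm a (by rw [hva]; exact mul_mem hwT hvT) (by rw [hwa']; exact hwT)
  have hbN : b ∈ normalizer (T : Set G) :=
    hnorm b (by rw [hvb']; exact hvT) (by rw [hwb]; exact mul_mem hvT hwT)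
  have ha2 : a * a ∈ centralizer (T : Set G) := by
    apply hcent
    · calc a * a * v * (a * a)⁻¹ = a * (a * v * a⁻¹) * a⁻¹ := by group
        _ = a * (w * v) * a⁻¹ := by rw [hva]
        _ = (a * w * a⁻¹) * (a * v * a⁻¹) := by group
        _ = w * (w * v) := by rw [hwa', hva]
        _ = v := by rw [← mul_assoc, hw2, one_mul]
    · calc a * a * w * (a * a)⁻¹ = a * (a * w * a⁻¹) * a⁻¹ := by group
        _ = w := by rw [hwa', hwa']
  have hb2 : b * b ∈ centralizer (T : Set G) := by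
    apply hcent
    · calc b * b * v * (b * b)⁻¹ = b * (b * v * b⁻¹) * b⁻¹ := by group
        _ = v := by rw [hvb', hvb']
    · calc b * b * w * (b * b)⁻¹ = b * (b * w * b⁻¹) * b⁻¹ := by group
        _ = b * (v * w) * b⁻¹ := by rw [hwb]
        _ = (b * v * b⁻¹) * (b * w * b⁻¹) := by group
        _ = v * (v * w) := by rw [hvb', hwb]
        _ = w := by rw [← mul_assoc, hv2, one_mul]
  have hrv : (a * b) * v * (a * b)⁻¹ = w * v := by
    calc (a * b) * v * (a * b)⁻¹ = a * (b * v * b⁻¹) * a⁻¹ := by group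
      _ = w * v := by rw [hvb', hva]
  have hrw : (a * b) * w * (a * b)⁻¹ = v := by
    calc (a * b) * w * (a * b)⁻¹ = a * (b * w * b⁻¹) * a⁻¹ := by group
      _ = a * (v * w) * a⁻¹ := by rw [hwb]
      _ = (a * v * a⁻¹) * (a * w * a⁻¹) := by group
      _ = w * v * w := by rw [hva, hwa']
      _ = v * (w * w) := by rw [← hvw, mul_assoc]
      _ = v := by rw [hw2, mul_one]
  have hr2v : (a * b) * (w * v) * (a * b)⁻¹ = w := by
    calc (a * b) * (w * v) * (a * b)⁻¹ = ((a * b) * w * (a * b)⁻¹) * ((a * b) * v * (a * b)⁻¹) := by group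
      _ = v * (w * v) := by rw [hrw, hrv]
      _ = (v * v) * w := by rw [← hvw, ← mul_assoc]
      _ = w := by rw [hv2, one_mul]
  have hr3 : (a * b) ^ 3 ∈ centralizer (T : Set G) := by
    have e : ∀ x, (a * b) ^ 3 * x * ((a * b) ^ 3)⁻¹ = (a * b) * ((a * b) * ((a * b) * x * (a * b)⁻¹) * (a * b)⁻¹) * (a * b)⁻¹ := by
      intro x
      rw [pow_succ, pow_two]; group
    apply hcent
    · rw [e, hrv, hr2v, hrw]
    · rw [e, hrw, hrv, hr2v]
  have hrn : a * b ∉ centralizer (T : Set G) := by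
    intro h1
    have h2 := mem_centralizer_iff.1 h1 v hvT
    have h3 : (a * b) * v * (a * b)⁻¹ = v := by rw [← h2]; group
    rw [hrv] at h3
    exact hw (mul_eq_right.1 h3)
  apply H51.S4Section3.backward hTp
  set N := normalizer (T : Set G) with hN'
  have hmk : ∀ (g : G) (hg : g ∈ N), g ∈ centralizer (T : Set G) →
      ((⟨g, hg⟩ : N) : N ⧸ (centralizer (T : Set G)).subgroupOf N) = 1 := by
    intro g hg hgc
    rw [QuotientGroup.eq_one_iff]; exact hgc
  have habN : a * b ∈ N := mul_mem haN hbN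
  refine involves_S3 (s := ((⟨a, haN⟩ : N) : N ⧸ (centralizer (T : Set G)).subgroupOf N))
    (r := ((⟨a * b, habN⟩ : N) : N ⧸ (centralizer (T : Set G)).subgroupOf N)) ?_ ?_ ?_ ?_
  · rw [← QuotientGroup.mk_mul]
    exact hmk (a * a) (mul_mem haN haN) ha2
  · rw [← QuotientGroup.mk_pow]
    exact hmk ((a * b) ^ 3) (pow_mem habN 3) hr3
  · intro h1
    rw [QuotientGroup.eq_one_iff] at h1
    exact hrn h1
  · have h4 : a * (a * b) * a⁻¹ * (a * b) ∈ centralizer (T : Set G) := by
      have e : a * (a * b) * a⁻¹ * (a * b) = (a * a) * (b * b) := by group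
      rw [e]; exact mul_mem ha2 hb2
    have h1 := hmk (a * (a * b) * a⁻¹ * (a * b)) (mul_mem (mul_mem (mul_mem haN habN) (inv_mem haN)) habN) h4
    rw [eq_inv_iff_mul_eq_one, ← QuotientGroup.mk_inv, ← QuotientGroup.mk_mul, ← QuotientGroup.mk_mul,
      ← QuotientGroup.mk_mul]
    exact h1

/-- Two opposite quadratic offenders on an elementary abelian normal 2-subgroup produce an `S₄`-section. -/
theorem involves_of_opposite {G : Type*} [Group G] [Finite G] {V A B : Subgroup G} [hVn : V.Normal]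
    (hVc : V ≤ centralizer (V : Set G)) (hV2 : ∀ v ∈ V, v ^ 2 = 1) (g : G)
    (hB : B = A.map (MulAut.conj g).toMonoidHom)
    (hgen : A ⊔ B ⊔ centralizer (V : Set G) = ⊤)
    (hq : ∀ a ∈ A, ∀ a' ∈ A, ∀ v ∈ V, a' * ⁅a, v⁆ = ⁅a, v⁆ * a')
    (hoff : Nat.card V * Nat.card (A ⊓ centralizer (V : Set G) : Subgroup G) ≤
      Nat.card A * Nat.card (V ⊓ centralizer (A : Set G) : Subgroup G))
    (hregA : ∀ L : Subgroup G, L ≠ ⊤ → B ≤ L → centralizer (V : Set G) ≤ L → A ⊓ L ≤ centralizer (V : Set G))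
    (hregB : ∀ L : Subgroup G, L ≠ ⊤ → A ≤ L → centralizer (V : Set G) ≤ L → B ⊓ L ≤ centralizer (V : Set G))
    (hA : ¬ A ≤ centralizer (V : Set G)) (hN : ¬ ∀ x : G, x ^ 2 ∈ centralizer (V : Set G)) :
    Involves (Equiv.Perm (Fin 4)) G := by
  classical
  set C := centralizer (V : Set G) with hC
  have hCn : C.Normal := inferInstance
  have hCv : ∀ c ∈ C, ∀ v ∈ V, c * v = v * c := fun c hc v hv => (mem_centralizer_iff.1 hc v hv).symm
  have hVV : ∀ x ∈ V, ∀ y ∈ V, x * y = y * x := fun x hx y hy => hCv x (hVc hx) y hy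
  set Z : Subgroup G := V ⊓ center G with hZ
  have hZn : Z.Normal := inferInstance
  set X : Subgroup G := V ⊓ centralizer (B : Set G) with hX
  set Y : Subgroup G := V ⊓ centralizer (A : Set G) with hY
  have hXb : ∀ x ∈ X, ∀ b ∈ B, b * x = x * b := fun x hx b hb => mem_centralizer_iff.1 (mem_inf.1 hx).2 b hb
  have hYa : ∀ y ∈ Y, ∀ a ∈ A, a * y = y * a := fun y hy a ha => mem_centralizer_iff.1 (mem_inf.1 hy).2 a ha
  have hXV : X ≤ V := inf_le_left
  have hYV : Y ≤ V := inf_le_left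
  have hXYZ : X ⊓ Y ≤ Z := by
    intro x hx
    obtain ⟨h1, h2⟩ := mem_inf.1 hx
    refine mem_inf.2 ⟨hXV h1, ?_⟩
    have h3 : (⊤ : Subgroup G) ≤ centralizer ({x} : Set G) := by
      rw [← hgen]
      refine sup_le (sup_le ?_ ?_) ?_
      · intro a ha
        rw [mem_centralizer_singleton_iff]; exact hYa x h2 a ha
      · intro b hb
        rw [mem_centralizer_singleton_iff]; exact hXb x h1 b hb
      · intro c hc
        rw [mem_centralizer_singleton_iff]; exact hCv c hc x (hXV h1)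
    rw [mem_center_iff]
    intro y
    exact mem_centralizer_singleton_iff.1 (h3 (mem_top y))
  have hZX : Z ≤ X := by
    intro z hz
    refine mem_inf.2 ⟨(mem_inf.1 hz).1, mem_centralizer_iff.2 fun b _ => ?_⟩
    exact mem_center_iff.1 (mem_inf.1 hz).2 b
  have hZY : Z ≤ Y := by
    intro z hz
    refine mem_inf.2 ⟨(mem_inf.1 hz).1, mem_centralizer_iff.2 fun b _ => ?_⟩
    exact mem_center_iff.1 (mem_inf.1 hz).2 b
  have hZc : ∀ z ∈ Z, ∀ x : G, x * z = z * x := fun z hz x => mem_center_iff.1 (mem_inf.1 hz).2 x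
  have hBmem : ∀ b ∈ B, ∃ a ∈ A, b = g * a * g⁻¹ := by
    intro b hb
    rw [hB] at hb
    obtain ⟨a, ha, rfl⟩ := hb
    exact ⟨a, ha, rfl⟩
  have hAB : ∀ a ∈ A, g * a * g⁻¹ ∈ B := by
    intro a ha
    rw [hB]
    exact ⟨a, ha, rfl⟩
  have hqB : ∀ b ∈ B, ∀ b' ∈ B, ∀ v ∈ V, b' * ⁅b, v⁆ = ⁅b, v⁆ * b' := by
    intro b hb b' hb' v hv
    obtain ⟨a, ha, rfl⟩ := hBmem b hb
    obtain ⟨a', ha', rfl⟩ := hBmem b' hb'
    have h1 := hq a ha a' ha' (g⁻¹ * v * g) (by
      have := hVn.conj_mem v hv g⁻¹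
      rwa [inv_inv] at this)
    have h2 : ⁅g * a * g⁻¹, v⁆ = g * ⁅a, g⁻¹ * v * g⁆ * g⁻¹ := by
      rw [commutatorElement_def, commutatorElement_def]; group
    rw [h2]
    calc g * a' * g⁻¹ * (g * ⁅a, g⁻¹ * v * g⁆ * g⁻¹) = g * (a' * ⁅a, g⁻¹ * v * g⁆) * g⁻¹ := by group
      _ = g * (⁅a, g⁻¹ * v * g⁆ * a') * g⁻¹ := by rw [h1]
      _ = _ := by group
  have hcommV : ∀ x : G, ∀ v ∈ V, ⁅x, v⁆ ∈ V := by
    intro x v hv
    rw [commutatorElement_def]
    exact mul_mem (hVn.conj_mem v hv x) (inv_mem hv)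
  have hcommY : ∀ a ∈ A, ∀ v ∈ V, ⁅a, v⁆ ∈ Y := fun a ha v hv =>
    mem_inf.2 ⟨hcommV a v hv, mem_centralizer_iff.2 fun a' ha' => hq a ha a' ha' v hv⟩
  have hcommX : ∀ b ∈ B, ∀ v ∈ V, ⁅b, v⁆ ∈ X := fun b hb v hv =>
    mem_inf.2 ⟨hcommV b v hv, mem_centralizer_iff.2 fun b' hb' => hqB b hb b' hb' v hv⟩
  have hconjinj : Function.Injective (MulAut.conj g).toMonoidHom := (MulAut.conj g).injective
  have hcardB : Nat.card B = Nat.card A := by
    rw [hB]; exact card_map_of_injective hconjinj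
  have hXY : X = Y.map (MulAut.conj g).toMonoidHom := by
    ext x
    constructor
    · intro hx
      refine ⟨g⁻¹ * x * g, mem_inf.2 ⟨?_, ?_⟩, ?_⟩
      · have := hVn.conj_mem x (hXV hx) g⁻¹
        rwa [inv_inv] at this
      · rw [mem_centralizer_iff]
        intro a ha
        have h1 := hXb x hx _ (hAB a ha)
        calc a * (g⁻¹ * x * g) = g⁻¹ * ((g * a * g⁻¹) * x) * g := by group
          _ = g⁻¹ * (x * (g * a * g⁻¹)) * g := by rw [h1]
          _ = _ := by group
      · show g * (g⁻¹ * x * g) * g⁻¹ = x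
        group
    · rintro ⟨y, hy, rfl⟩
      show g * y * g⁻¹ ∈ X
      refine mem_inf.2 ⟨hVn.conj_mem y (hYV hy) g, ?_⟩
      rw [mem_centralizer_iff]
      intro b hb
      obtain ⟨a, ha, rfl⟩ := hBmem b hb
      have h1 := hYa y hy a ha
      calc g * a * g⁻¹ * (g * y * g⁻¹) = g * (a * y) * g⁻¹ := by group
        _ = g * (y * a) * g⁻¹ := by rw [h1]
        _ = _ := by group
  have hcardX : Nat.card X = Nat.card Y := by
    rw [hXY]; exact card_map_of_injective hconjinj
  have hBC : B ⊓ C = (A ⊓ C).map (MulAut.conj g).toMonoidHom := by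
    ext x
    constructor
    · intro hx
      obtain ⟨a, ha, rfl⟩ := hBmem x (mem_inf.1 hx).1
      refine ⟨a, mem_inf.2 ⟨ha, ?_⟩, rfl⟩
      have := hCn.conj_mem _ (mem_inf.1 hx).2 g⁻¹
      have e : g⁻¹ * (g * a * g⁻¹) * g⁻¹⁻¹ = a := by group
      rwa [e] at this
    · rintro ⟨a, ha, rfl⟩
      exact mem_inf.2 ⟨hAB a (mem_inf.1 ha).1, hCn.conj_mem a (mem_inf.1 ha).2 g⟩
  have hcardBC : Nat.card (B ⊓ C : Subgroup G) = Nat.card (A ⊓ C : Subgroup G) := by
    rw [hBC]; exact card_map_of_injective hconjinj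
  -- the quotient
  set π := QuotientGroup.mk' Z with hπ
  have hπs : Function.Surjective π := QuotientGroup.mk'_surjective Z
  have hker : π.ker = Z := QuotientGroup.ker_mk' Z
  have hker' : ∀ x, π x = 1 ↔ x ∈ Z := fun x => by rw [← MonoidHom.mem_ker, hker]
  let L : G → Subgroup G := fun v => (centralizer ({π v} : Set (G ⧸ Z))).comap π
  have hL : ∀ v x : G, x ∈ L v ↔ ⁅x, v⁆ ∈ Z := by
    intro v x
    rw [← hker', map_commutatorElement, commutatorElement_eq_one_iff_mul_comm]
    show π x ∈ centralizer ({π v} : Set (G ⧸ Z)) ↔ _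
    rw [mem_centralizer_singleton_iff]
  -- `X` is not contained in `Y`
  have hXnY : ¬ X ≤ Y := by
    intro h1
    apply hN
    have h2 : X = Y := eq_of_le_of_card_ge h1 hcardX.ge
    have h3 : Y ≤ Z := by
      intro y hy
      exact hXYZ (mem_inf.2 ⟨h2 ▸ hy, hy⟩)
    have h4 : ∀ v ∈ V, ∀ x : G, ⁅x, v⁆ ∈ Z := by
      intro v hv x
      have h5 : (⊤ : Subgroup G) ≤ L v := by
        rw [← hgen]
        refine sup_le (sup_le ?_ ?_) ?_
        · intro a ha
          rw [hL]; exact h3 (hcommY a ha v hv)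
        · intro b hb
          rw [hL]; exact h3 (h2 ▸ hcommX b hb v hv)
        · intro c hc
          rw [hL]
          have : ⁅c, v⁆ = 1 := commutatorElement_eq_one_iff_mul_comm.2 (hCv c hc v hv)
          rw [this]; exact one_mem Z
      exact (hL v x).1 (h5 (mem_top x))
    intro x
    rw [hC, mem_centralizer_iff]
    intro v hv
    have h5 := h4 v hv x
    have h6 : ⁅x, v⁆ ^ 2 = 1 := hV2 _ (mem_inf.1 h5).1
    have h7 : x * v * x⁻¹ = ⁅x, v⁆ * v := by rw [commutatorElement_def]; group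
    have h8 : x ^ 2 * v * (x ^ 2)⁻¹ = v := by
      calc x ^ 2 * v * (x ^ 2)⁻¹ = x * (x * v * x⁻¹) * x⁻¹ := by rw [pow_two]; group
        _ = x * (⁅x, v⁆ * v) * x⁻¹ := by rw [h7]
        _ = (x * ⁅x, v⁆) * v * x⁻¹ := by group
        _ = (⁅x, v⁆ * x) * v * x⁻¹ := by rw [hZc _ h5 x]
        _ = ⁅x, v⁆ * (x * v * x⁻¹) := by group
        _ = ⁅x, v⁆ * (⁅x, v⁆ * v) := by rw [h7]
        _ = ⁅x, v⁆ ^ 2 * v := by rw [pow_two, mul_assoc]
        _ = v := by rw [h6, one_mul]
    calc v * x ^ 2 = (x ^ 2 * v * (x ^ 2)⁻¹) * x ^ 2 := by rw [h8]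
      _ = x ^ 2 * v := by group
  obtain ⟨v, hvX, hvY⟩ := SetLike.not_le_iff_exists.1 hXnY
  have hvV := hXV hvX
  -- regularity of `A` on `v`
  have hregv : ∀ a ∈ A, ⁅a, v⁆ ∈ Z → a ∈ C := by
    intro a ha haZ
    by_cases hLt : L v = ⊤
    · exfalso
      apply hvY
      refine mem_inf.2 ⟨hvV, mem_centralizer_iff.2 fun a' ha' => ?_⟩
      have h1 : ⁅g, v⁆ ∈ Z := by rw [← hL, hLt]; exact mem_top g
      have h2 := hXb v hvX _ (hAB a' ha')
      have h3 := hZc _ h1 (g * a' * g⁻¹)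
      have h4 : g * v * g⁻¹ = ⁅g, v⁆ * v := by rw [commutatorElement_def]; group
      have h5 : (g * a' * g⁻¹) * (g * v * g⁻¹) = (g * v * g⁻¹) * (g * a' * g⁻¹) := by
        rw [h4]
        calc g * a' * g⁻¹ * (⁅g, v⁆ * v) = (g * a' * g⁻¹ * ⁅g, v⁆) * v := by rw [mul_assoc (g * a' * g⁻¹)]
          _ = ⁅g, v⁆ * (g * a' * g⁻¹ * v) := by rw [h3, mul_assoc]
          _ = ⁅g, v⁆ * v * (g * a' * g⁻¹) := by rw [h2]; exact (mul_assoc _ _ _).symm
      calc a' * v = g⁻¹ * ((g * a' * g⁻¹) * (g * v * g⁻¹)) * g := by group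
        _ = g⁻¹ * ((g * v * g⁻¹) * (g * a' * g⁻¹)) * g := by rw [h5]
        _ = v * a' := by group
    · refine hregA (L v) hLt ?_ ?_ (mem_inf.2 ⟨ha, (hL v a).2 haZ⟩)
      · intro b hb
        rw [hL, commutatorElement_eq_one_iff_mul_comm.2 (hXb v hvX b hb)]
        exact one_mem Z
      · intro c hc
        rw [hL, commutatorElement_eq_one_iff_mul_comm.2 (hCv c hc v hvV)]
        exact one_mem Z
  obtain ⟨a₀, ha₀, ha₀C⟩ := SetLike.not_le_iff_exists.1 hA
  set w := ⁅a₀, v⁆ with hw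
  have hwY : w ∈ Y := hcommY a₀ ha₀ v hvV
  have hwV : w ∈ V := hYV hwY
  have hwZ : w ∉ Z := fun h => ha₀C (hregv a₀ ha₀ h)
  have hwX : w ∉ X := fun h => hwZ (hXYZ (mem_inf.2 ⟨h, hwY⟩))
  have hvZ : v ∉ Z := fun h => hvY (hZY h)
  -- regularity of `B` on `w`
  have hregw : ∀ b ∈ B, ⁅b, w⁆ ∈ Z → b ∈ C := by
    intro b hb hbZ
    by_cases hLt : L w = ⊤
    · exfalso
      apply hwX
      refine mem_inf.2 ⟨hwV, mem_centralizer_iff.2 fun b' hb' => ?_⟩
      obtain ⟨a', ha', rfl⟩ := hBmem b' hb'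
      have h1 : ⁅g⁻¹, w⁆ ∈ Z := by rw [← hL, hLt]; exact mem_top g⁻¹
      have h2 := hYa w hwY a' ha'
      have h3 := hZc _ h1 a'
      have h4 : g⁻¹ * w * g = ⁅g⁻¹, w⁆ * w := by rw [commutatorElement_def g⁻¹ w]; group
      have h5 : a' * (g⁻¹ * w * g) = (g⁻¹ * w * g) * a' := by
        rw [h4]
        calc a' * (⁅g⁻¹, w⁆ * w) = (a' * ⁅g⁻¹, w⁆) * w := by rw [mul_assoc a']
          _ = ⁅g⁻¹, w⁆ * (a' * w) := by rw [h3, mul_assoc]
          _ = ⁅g⁻¹, w⁆ * w * a' := by rw [h2]; exact (mul_assoc _ _ _).symm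
      calc g * a' * g⁻¹ * w = g * (a' * (g⁻¹ * w * g)) * g⁻¹ := by group
        _ = g * ((g⁻¹ * w * g) * a') * g⁻¹ := by rw [h5]
        _ = w * (g * a' * g⁻¹) := by group
    · refine hregB (L w) hLt ?_ ?_ (mem_inf.2 ⟨hb, (hL w b).2 hbZ⟩)
      · intro a ha
        rw [hL, commutatorElement_eq_one_iff_mul_comm.2 (hYa w hwY a ha)]
        exact one_mem Z
      · intro c hc
        rw [hL, commutatorElement_eq_one_iff_mul_comm.2 (hCv c hc w hwV)]
        exact one_mem Z
  -- the homomorphism `b ↦ [b, w] Z`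
  let f : B →* G ⧸ Z := MonoidHom.mk' (fun b => π ⁅(b : G), w⁆) (by
    rintro ⟨b, hb⟩ ⟨b', hb'⟩
    have h1 := hXb _ (hcommX b' hb' w hwV) b hb
    have h2 : ⁅b * b', w⁆ = b * ⁅b', w⁆ * b⁻¹ * ⁅b, w⁆ := by
      rw [commutatorElement_def, commutatorElement_def, commutatorElement_def]; group
    have h3 : b * ⁅b', w⁆ * b⁻¹ = ⁅b', w⁆ := by rw [mul_inv_eq_iff_eq_mul]; exact h1
    have h4 := hVV _ (hcommV b' w hwV) _ (hcommV b w hwV)
    show π ⁅b * b', w⁆ = π ⁅b, w⁆ * π ⁅b', w⁆
    rw [h2, h3, h4, map_mul])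
  have hfdef : ∀ b : B, f b = π ⁅(b : G), w⁆ := fun b => rfl
  have hfker : f.ker = C.subgroupOf B := by
    ext b
    rw [MonoidHom.mem_ker, hfdef, hker', mem_subgroupOf]
    constructor
    · intro h; exact hregw b b.2 h
    · intro h
      rw [commutatorElement_eq_one_iff_mul_comm.2 (hCv b h w hwV)]
      exact one_mem Z
  have hcard1 : Nat.card f.range * Nat.card (B ⊓ C : Subgroup G) = Nat.card B := by
    have h1 : Nat.card f.ker = Nat.card (B ⊓ C : Subgroup G) := by
      rw [hfker]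
      have h2 : (C.subgroupOf B).map B.subtype = B ⊓ C := by
        rw [subgroupOf_map_subtype, inf_comm]
      rw [← h2, card_map_of_injective B.subtype_injective]
    rw [← h1, ← Subgroup.index_ker, mul_comm]
    exact f.ker.card_mul_index
  have hcard2 : Nat.card (X.map π) * Nat.card Z = Nat.card X := by
    have h1 : Nat.card (Z.subgroupOf X) * (Z.subgroupOf X).index = Nat.card X := (Z.subgroupOf X).card_mul_index
    have h2 : Nat.card (Z.subgroupOf X) = Nat.card Z := by
      have h3 : (Z.subgroupOf X).map X.subtype = Z := by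
        rw [subgroupOf_map_subtype, inf_eq_left.2 hZX]
      conv_rhs => rw [← h3]
      rw [card_map_of_injective X.subtype_injective]
    have h3 : (Z.subgroupOf X).index = Nat.card (X.map π) := by
      have h4 := relIndex_ker (f := π) (K := X)
      rw [hker] at h4
      exact h4
    rw [h2, h3] at h1
    rw [mul_comm]; exact h1
  have hcard3 : Nat.card X * Nat.card Y ≤ Nat.card V * Nat.card Z := by
    have h1 := H13.Thompson.card_sup_mul_card_inf (A := X) (B := Y) (by
      refine le_trans ?_ (centralizer_le_normalizer _)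
      intro x hx
      rw [mem_centralizer_iff]
      intro y hy
      exact hVV y (hYV hy) x (hXV hx))
    have h2 : Nat.card (X ⊔ Y : Subgroup G) ≤ Nat.card V := Subgroup.card_le_of_le (sup_le hXV hYV)
    have h3 : Nat.card (X ⊓ Y : Subgroup G) ≤ Nat.card Z := Subgroup.card_le_of_le hXYZ
    rw [← h1]
    exact Nat.mul_le_mul h2 h3
  have hY0 : 0 < Nat.card Y := Nat.card_pos
  have hZ0 : 0 < Nat.card Z := Nat.card_pos
  have hBC0 : 0 < Nat.card (B ⊓ C : Subgroup G) := Nat.card_pos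
  have hcard4 : Nat.card X * Nat.card (B ⊓ C : Subgroup G) ≤ Nat.card B * Nat.card Z := by
    rw [hcardBC, hcardB]
    have h1 : (Nat.card X * Nat.card (A ⊓ C : Subgroup G)) * Nat.card Y ≤
        (Nat.card A * Nat.card Z) * Nat.card Y := by
      calc (Nat.card X * Nat.card (A ⊓ C : Subgroup G)) * Nat.card Y =
          (Nat.card X * Nat.card Y) * Nat.card (A ⊓ C : Subgroup G) := by ring
        _ ≤ (Nat.card V * Nat.card Z) * Nat.card (A ⊓ C : Subgroup G) := Nat.mul_le_mul_right _ hcard3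
        _ = (Nat.card V * Nat.card (A ⊓ C : Subgroup G)) * Nat.card Z := by ring
        _ ≤ (Nat.card A * Nat.card Y) * Nat.card Z := Nat.mul_le_mul_right _ hoff
        _ = (Nat.card A * Nat.card Z) * Nat.card Y := by ring
    exact Nat.le_of_mul_le_mul_right h1 hY0
  have hcard5 : Nat.card (X.map π) ≤ Nat.card f.range := by
    have h1 : Nat.card (X.map π) * (Nat.card Z * Nat.card (B ⊓ C : Subgroup G)) ≤
        Nat.card f.range * (Nat.card Z * Nat.card (B ⊓ C : Subgroup G)) := by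
      calc Nat.card (X.map π) * (Nat.card Z * Nat.card (B ⊓ C : Subgroup G)) =
          (Nat.card (X.map π) * Nat.card Z) * Nat.card (B ⊓ C : Subgroup G) := by ring
        _ = Nat.card X * Nat.card (B ⊓ C : Subgroup G) := by rw [hcard2]
        _ ≤ Nat.card B * Nat.card Z := hcard4
        _ = (Nat.card f.range * Nat.card (B ⊓ C : Subgroup G)) * Nat.card Z := by rw [hcard1]
        _ = _ := by ring
    exact Nat.le_of_mul_le_mul_right h1 (Nat.mul_pos hZ0 hBC0)
  have hrange : f.range = X.map π := by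
    apply eq_of_le_of_card_ge _ hcard5
    rintro _ ⟨b, rfl⟩
    exact mem_map_of_mem π (hcommX b b.2 w hwV)
  have hvr : π v ∈ f.range := by rw [hrange]; exact mem_map_of_mem π hvX
  obtain ⟨⟨b, hb⟩, hbv⟩ := hvr
  rw [hfdef] at hbv
  have hfin : Finite (G ⧸ Z) := inferInstance
  apply H51.Involves.involves_of_hom π hπs
  refine involves_of_pair (a := π a₀) (b := π b) (v := π v) (w := π w) ?_ ?_ ?_ ?_ ?_ ?_ ?_ ?_ ?_
  · rw [← map_inv, ← map_mul, ← map_mul, ← map_mul]
    congr 1
    rw [hw, commutatorElement_def]; group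
  · rw [← map_mul, ← map_mul, hYa w hwY a₀ ha₀]
  · rw [← map_mul, ← map_mul, hXb v hvX b hb]
  · rw [← hbv]
    show π b * π w * (π b)⁻¹ = π ⁅b, w⁆ * π w
    rw [← map_inv, ← map_mul, ← map_mul, ← map_mul]
    congr 1
    rw [commutatorElement_def]; group
  · rw [← map_mul, ← pow_two, hV2 v hvV, map_one]
  · rw [← map_mul, ← pow_two, hV2 w hwV, map_one]
  · rw [← map_mul, ← map_mul, hVV v hvV w hwV]
  · rw [Ne, hker']; exact hvZ
  · rw [Ne, hker']; exact hwZ

end H52.Pairing
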