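import Cfsg.Agent.Lib.H52.PmCrit
import Cfsg.Agent.Lib.H51.PuB2e

/-!
Rank one pushing up for several groups over the same `S`, the case `b = 2` (copy of H51.PuB2a-e without push).
-/

set_option autoImplicit false
set_option linter.unusedSectionVars false

open Cfsg Subgroup H28.Cj H28.RelSyl H52.PU H51.PuB2
open scoped commutatorElement

namespace H52.PM

variable {X : Type*} [Group X] {p : ℕ}

/-- the configuration around the edge `S` of a critical path: vertices `A' - A - B - B'`, edges `T, S, R` -/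
structure Conf (p : ℕ) (A' A B B' T S R : Subgroup X) : Prop where
  c1 : Cr p A' T B S
  c2 : Cr p A S B' R
  sAT : Loc p A T
  sBR : Loc p B R
  oppA : T ⊔ S = A
  oppB : S ⊔ R = B
  a1 : Vf p A' ≤ Qf p A
  a1' : Vf p A ≤ Qf p A'
  a2 : Vf p A ≤ Qf p B
  a2' : Vf p B ≤ Qf p A
  a3 : Vf p B ≤ Qf p B'
  a3' : Vf p B' ≤ Qf p B
  wl : ∃ W, W ⊔ Qf p A = T ∧ ⁅Qf p A', W⁆ ≤ Vf p A
  wr : ∃ W, W ⊔ Qf p B = R ∧ ⁅Qf p B', W⁆ ≤ Vf p B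
  gl : ∃ g ∈ A, cj g (Vf p A') ≤ Qf p B
  gr : ∃ g ∈ B, cj g (Vf p B') ≤ Qf p A

variable {A' A B B' T S R : Subgroup X} [Finite X] [Fact p.Prime]

theorem Conf.rev (h : Conf p A' A B B' T S R) : Conf p B' B A A' R S T where
  c1 := h.c2.symm
  c2 := h.c1.symm
  sAT := h.sBR
  sBR := h.sAT
  oppA := by rw [sup_comm]; exact h.oppB
  oppB := by rw [sup_comm]; exact h.oppA
  a1 := h.a3'
  a1' := h.a3
  a2 := h.a2'
  a2' := h.a2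
  a3 := h.a1'
  a3' := h.a1
  wl := h.wr
  wr := h.wl
  gl := h.gr
  gr := h.gl

namespace Conf

variable (h : Conf p A' A B B' T S R)

include h

theorem sAS : Loc p A S := h.c2.sα
theorem sBS : Loc p B S := h.c1.sβ
theorem sA'T : Loc p A' T := h.c1.sα
theorem sB'R : Loc p B' R := h.c2.sβ

theorem QA_T : Qf p A ≤ T := h.sAT.Q_le
theorem QA_S : Qf p A ≤ S := h.sAS.Q_le

/-- `Z(T) ∩ Z(S) ≤ C(A)` -/
theorem ZZ {x : X} (h1 : x ∈ Zf T) (h2 : x ∈ Zf S) : x ∈ centralizer (A : Set X) := by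
  have h3 : A ≤ centralizer ({x} : Set X) := by
    rw [← h.oppA]
    apply sup_le
    · intro t ht
      rw [mem_centralizer_singleton_iff]
      exact H51.PuElem.Zf_comm h1 ht
    · intro t ht
      rw [mem_centralizer_singleton_iff]
      exact H51.PuElem.Zf_comm h2 ht
  rw [mem_centralizer_iff]
  intro a ha
  have := h3 ha
  rwa [mem_centralizer_singleton_iff] at this

/-- central elements in `Q` are in `Z(S)` -/
theorem CQ {x : X} (h1 : x ∈ centralizer (A : Set X)) (h2 : x ∈ Qf p A) : x ∈ Zf S := by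
  rw [H51.PuElem.mem_Zf]
  exact ⟨h.QA_S h2, fun y hy => mem_centralizer_iff.mp h1 y (h.sAS.S_le hy)⟩

theorem CQV {x : X} (h1 : x ∈ centralizer (A : Set X)) (h2 : x ∈ Qf p A) : x ∈ Vf p A :=
  h.sAS.Z_le_V (h.CQ h1 h2)

/-- `[V(A'), T] ≤ C(A)` -/
theorem c_m1 {x t : X} (hx : x ∈ Vf p A') (ht : t ∈ T) : ⁅x, t⁆ ∈ centralizer (A : Set X) := by
  have h1 : ⁅x, t⁆ ∈ ⁅Vf p A', T⁆ := commutator_mem_commutator hx ht
  rw [h.c1.comm_eq] at h1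
  exact h.ZZ (h.c1.comm_le_Z h1) (h.c1.comm_le_Z' h1)

/-- `[V(B), S] ≤ C(A)` -/
theorem c_1 {x t : X} (hx : x ∈ Vf p B) (ht : t ∈ S) : ⁅x, t⁆ ∈ centralizer (A : Set X) := by
  have h1 : ⁅x, t⁆ ∈ ⁅Vf p B, S⁆ := commutator_mem_commutator hx ht
  rw [h.c1.comm_eq'] at h1
  exact h.ZZ (h.c1.comm_le_Z h1) (h.c1.comm_le_Z' h1)

/-- `[V(A), S] ≤ Z(S)` -/
theorem c_0 {x t : X} (hx : x ∈ Vf p A) (ht : t ∈ S) : ⁅x, t⁆ ∈ Zf S := by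
  have h1 : ⁅x, t⁆ ∈ ⁅Vf p A, S⁆ := commutator_mem_commutator hx ht
  rw [h.c2.comm_eq] at h1
  exact h.c2.comm_le_Z h1

theorem VA'_F : Vf p A' ≤ Ff p A := fun _ hx => ⟨h.a1 hx, fun _ hq => h.c_m1 hx (h.QA_T hq)⟩

theorem VB_F : Vf p B ≤ Ff p A := fun _ hx => ⟨h.a2' hx, fun _ hq => h.c_1 hx (h.QA_S hq)⟩

theorem VA_F : Vf p A ≤ Ff p A := fun x hx => ⟨h.sAS.V_le hx, fun q hq => by
  have h1 : Commute x q := commute_of_le_centralizer h.sAS.Q_cent hq hx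
  rw [commutatorElement_eq_one_iff_commute.mpr h1]
  exact one_mem _⟩

/-- `Q = V(A') V(B) (Q ∩ Q(A') ∩ Q(B))` -/
theorem dec_Q {f : X} (hf : f ∈ Qf p A) : ∃ x ∈ Vf p A', ∃ v ∈ Vf p B,
    ∃ e ∈ Qf p A, e ∈ Qf p A' ∧ e ∈ Qf p B ∧ f = x * v * e := by
  have h1 := h.QA_S hf
  rw [← h.c1.sup_eq] at h1
  obtain ⟨x, hx, y, hy, rfl⟩ :=
    (mem_sup_iff_of_le_normalizer (h.c1.hα.trans h.c1.sβ.S_norm_Q)).mp h1
  have hyQ : y ∈ Qf p A := by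
    have := mul_mem (inv_mem (h.a1 hx)) hf
    simpa using this
  have h2 := h.QA_T hyQ
  rw [← h.c1.sup_eq'] at h2
  obtain ⟨v, hv, e, he, rfl⟩ :=
    (mem_sup_iff_of_le_normalizer (h.c1.hβ.trans h.c1.sα.S_norm_Q)).mp h2
  refine ⟨x, hx, v, hv, e, ?_, he, ?_, by group⟩
  · have := mul_mem (inv_mem (h.a2' hv)) hyQ
    simpa using this
  · have := mul_mem (inv_mem (h.sBS.V_le hv)) hy
    simpa using this

end Conf

namespace Conf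

variable (h : Conf p A' A B B' T S R)

include h

theorem dec_F {f : X} (hf : f ∈ Ff p A) : ∃ x ∈ Vf p A', ∃ v ∈ Vf p B,
    ∃ e ∈ Df p A' A B, f = x * v * e := by
  obtain ⟨x, hx, v, hv, e, he, he1, he2, rfl⟩ := h.dec_Q hf.1
  refine ⟨x, hx, v, hv, e, mem_Df.2 ⟨?_, he1, he2⟩, rfl⟩
  have h1 := mul_mem (h.VA'_F hx) (h.VB_F hv)
  have := mul_mem (inv_mem h1) hf
  simpa [mul_assoc] using this

theorem VA_D : Vf p A ≤ Df p A' A B := fun _ hx => mem_Df.2 ⟨h.VA_F hx, h.a1' hx, h.a2 hx⟩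

theorem Q1V2 {e z : X} (he : e ∈ Qf p B) (hz : z ∈ Vf p B') : ⁅e, z⁆ ∈ Zf S ∧ ⁅e, z⁆ ∈ Vf p A := by
  have h1 : ⁅z, e⁆ ∈ ⁅Vf p B', R⁆ := commutator_mem_commutator hz (h.sBR.Q_le he)
  rw [h.c2.comm_eq'] at h1
  exact ⟨c_symm_mem (h.c2.comm_le_Z h1), c_symm_mem (h.c2.comm_le_V h1)⟩

/-- an element `s ∈ S` is `z q` with `z ∈ V(B')`, `q ∈ Q(A)` -/
theorem dec_S {s : X} (hs : s ∈ S) : ∃ z ∈ Vf p B', ∃ q ∈ Qf p A, s = z * q := by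
  rw [← h.c2.sup_eq'] at hs
  exact (mem_sup_iff_of_le_normalizer (h.c2.hβ.trans h.c2.sα.S_norm_Q)).mp hs

/-- `[D, S] ≤ Z(S)` -/
theorem D_S {e s : X} (he : e ∈ Df p A' A B) (hs : s ∈ S) : ⁅e, s⁆ ∈ Zf S := by
  rw [mem_Df] at he
  obtain ⟨z, hz, q, hq, rfl⟩ := h.dec_S hs
  have hzS : z ∈ S := h.c2.hβ hz
  rw [cmr]
  have h1 : ⁅e, q⁆ ∈ Zf S := h.CQ (comm_Ff he.1 hq)
    (by
      have := mul_mem (mul_mem (mul_mem he.1.1 hq) (inv_mem he.1.1)) (inv_mem hq)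
      exact this)
  rw [conj_of_comm (show Commute z ⁅e, q⁆ from H51.PuElem.Zf_comm h1 hzS)]
  exact mul_mem (h.Q1V2 he.2.2 hz).1 h1

theorem D_S' {e s : X} (he : e ∈ Df p A' A B) (hs : s ∈ S) : ⁅e, s⁆ ∈ Vf p A :=
  h.sAS.Z_le_V (h.D_S he hs)

theorem D_T {e t : X} (he : e ∈ Df p A' A B) (ht : t ∈ T) : ⁅e, t⁆ ∈ Vf p A := by
  rw [mem_Df] at he
  obtain ⟨W, hW, hW2⟩ := h.wl
  have hWT : W ≤ T := by rw [← hW]; exact le_sup_left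
  rw [← hW] at ht
  obtain ⟨z, hz, q, hq, rfl⟩ :=
    (mem_sup_iff_of_le_normalizer (hWT.trans h.sAT.S_norm_Q)).mp ht
  rw [cmr]
  refine mul_mem (hW2 (commutator_mem_commutator he.2.1 hz)) ?_
  apply conj_mem_of_le_normalizer (hWT.trans h.sAT.S_norm_V) hz
  apply h.CQV (comm_Ff he.1 hq)
  exact mul_mem (mul_mem (mul_mem he.1.1 hq) (inv_mem he.1.1)) (inv_mem hq)

/-- `[D, A] ≤ V(A)` -/
theorem D_A {e a : X} (he : e ∈ Df p A' A B) (ha : a ∈ A) : ⁅e, a⁆ ∈ Vf p A :=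
  comm_mem_of_sup h.oppA h.sAT.S_norm_V h.sAS.S_norm_V (fun _ ht => h.D_T he ht)
    (fun _ hs => h.D_S' he hs) ha

theorem norm_D : A ≤ normalizer (Df p A' A B : Set X) := by
  apply le_normalizer_of_conj_mem
  intro g hg x hx
  have h1 : g * x * g⁻¹ = ⁅g, x⁆ * x := by rw [commutatorElement_def]; group
  rw [h1]
  exact mul_mem (h.VA_D (c_symm_mem (h.D_A hx hg))) hx

/-- `x ∈ V(A')` with `[x, S] ≤ D` is in `Z(T)` -/
theorem mem_ZT {x : X} (hx : x ∈ Vf p A') (hS : ∀ s ∈ S, ⁅x, s⁆ ∈ Df p A' A B) : x ∈ Zf T := by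
  have h1 : ∀ a ∈ A, ⁅x, a⁆ ∈ Df p A' A B := by
    intro a ha
    refine comm_mem_of_sup h.oppA (h.sAT.S_le.trans h.norm_D) (h.sAS.S_le.trans h.norm_D) ?_ hS ha
    intro t ht
    apply h.VA_D
    apply h.CQV (h.c_m1 hx ht)
    have h2 := conj_mem_of_le_normalizer (h.sAT.S_norm_Q) ht (inv_mem (h.a1 hx))
    have e : ⁅x, t⁆ = x * (t * x⁻¹ * t⁻¹) := by rw [commutatorElement_def]; group
    rw [e]
    exact mul_mem (h.a1 hx) h2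
  obtain ⟨g, hg, hg2⟩ := h.gl
  have h2 := h1 g hg
  have h3 : g * x * g⁻¹ ∈ Qf p B := hg2 (conj_mem_cj.2 hx)
  have h4 : x ∈ Qf p B := by
    have e : x = ⁅x, g⁆ * (g * x * g⁻¹) := by rw [commutatorElement_def]; group
    rw [e]
    exact mul_mem (mem_Df.1 h2).2.2 h3
  rw [← h.c1.V_inf_Q]
  exact ⟨hx, h4⟩

end Conf

namespace Conf

variable (h : Conf p A' A B B' T S R)

include h

theorem pow_A {v : X} (hv : v ∈ Vf p A) : v ^ p = 1 := h.sAS.V_pow v hv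

theorem pow_B {v : X} (hv : v ∈ Vf p B) : v ^ p = 1 := h.sBS.V_pow v hv

theorem pow_A' {v : X} (hv : v ∈ Vf p A') : v ^ p = 1 := h.sA'T.V_pow v hv

theorem pow_B' {v : X} (hv : v ∈ Vf p B') : v ^ p = 1 := h.sB'R.V_pow v hv

theorem pow_S {s : X} (hs : s ∈ S) : s ^ p ∈ Qf p A := h.sAS.S_pow s hs

/-- `[S, S] ≤ Q(A)` -/
theorem SS {s t : X} (hs : s ∈ S) (ht : t ∈ S) : ⁅s, t⁆ ∈ Qf p A := by
  have hQ : ∀ {a b : X}, a ∈ Qf p A → b ∈ S → ⁅a, b⁆ ∈ Qf p A := by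
    intro a b ha hb
    have h2 := conj_mem_of_le_normalizer h.sAS.S_norm_Q hb (inv_mem ha)
    have e : ⁅a, b⁆ = a * (b * a⁻¹ * b⁻¹) := by rw [commutatorElement_def]; group
    rw [e]
    exact mul_mem ha h2
  have hV : ∀ {a b : X}, a ∈ Vf p B' → b ∈ S → ⁅a, b⁆ ∈ Qf p A := by
    intro a b ha hb
    obtain ⟨z, hz, q, hq, rfl⟩ := h.dec_S hb
    rw [cmr, commutatorElement_eq_one_iff_commute.mpr (h.sB'R.V_comm ha hz), one_mul]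
    apply conj_mem_of_le_normalizer h.sAS.S_norm_Q (h.c2.hβ hz)
    exact c_symm_mem (hQ hq (h.c2.hβ ha))
  obtain ⟨z, hz, q, hq, rfl⟩ := h.dec_S hs
  rw [cml]
  exact mul_mem (conj_mem_of_le_normalizer h.sAS.S_norm_Q (h.c2.hβ hz) (hQ hq ht)) (hV hz ht)

theorem SS' {s t : X} (hs : s ∈ S) (ht : t ∈ S) : ⁅s, t⁆ ∈ Qf p B := h.rev.SS hs ht

theorem F_S : Ff p A ≤ S := (Ff_le A).trans h.QA_S

/-- `[F, S] ≤ F` -/
theorem FS {x s : X} (hx : x ∈ Ff p A) (hs : s ∈ S) : ⁅x, s⁆ ∈ Ff p A := by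
  have h2 := conj_mem_of_le_normalizer (norm_Ff (p := p) A) (h.sAS.S_le hs) (inv_mem hx)
  have e : ⁅x, s⁆ = x * (s * x⁻¹ * s⁻¹) := by rw [commutatorElement_def]; group
  rw [e]
  exact mul_mem hx h2

/-- `F ∩ Q(B) = V(B) D` -/
theorem dec_E {y : X} (hy : y ∈ Ff p A) (hy2 : y ∈ Qf p B) :
    ∃ v ∈ Vf p B, ∃ e ∈ Df p A' A B, y = v * e := by
  obtain ⟨x, hx, v, hv, e, he, rfl⟩ := h.dec_F hy
  have h1 : x ∈ Qf p B := by
    have := mul_mem (mul_mem hy2 (inv_mem (mem_Df.1 he).2.2)) (inv_mem (h.sBS.V_le hv))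
    simpa [mul_assoc] using this
  have h2 : x ∈ Vf p A := by
    apply h.sAT.Z_le_V
    rw [← h.c1.V_inf_Q]
    exact ⟨hx, h1⟩
  refine ⟨v, hv, x * e, mul_mem (h.VA_D h2) he, ?_⟩
  have h3 : Commute v x := commute_of_le_centralizer h.sBS.Q_cent h1 hv
  rw [← h3.eq, mul_assoc]

/-- `[F ∩ Q(B), S] ≤ Z(S)` -/
theorem E_S {y s : X} (hy : y ∈ Ff p A) (hy2 : y ∈ Qf p B) (hs : s ∈ S) : ⁅y, s⁆ ∈ Zf S := by
  obtain ⟨v, hv, e, he, rfl⟩ := h.dec_E hy hy2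
  rw [cml]
  have h1 : ⁅v, s⁆ ∈ Zf S := h.rev.c_0 hv hs
  have h2 := h.D_S he hs
  rw [conj_of_comm (show Commute v ⁅e, s⁆ from H51.PuElem.Zf_comm h2 (h.sBS.V_le_S hv))]
  exact mul_mem h2 h1

/-- the key contradiction -/
theorem exists_nc : ∃ x ∈ Vf p A', ∃ z ∈ Vf p B', ⁅⁅x, z⁆, z⁆ ∉ centralizer (A : Set X) := by
  by_contra hcon
  push Not at hcon
  obtain ⟨z, hz, hzQ⟩ := Set.not_subset.mp h.c2.nle'
  have hz : z ∈ Vf p B' := hz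
  have hzQ : z ∉ Qf p A := hzQ
  have hzS : z ∈ S := h.c2.hβ hz
  have h1 : ¬ ∀ s ∈ S, ⁅z, s⁆ ∈ Df p B' B A := by
    intro h2
    have h3 := h.rev.mem_ZT hz h2
    rw [← h.rev.c1.V_inf_Q] at h3
    exact hzQ h3.2
  push Not at h1
  obtain ⟨s, hs, hsD⟩ := h1
  obtain ⟨x, hx, q, hq, rfl⟩ := h.rev.dec_S hs
  have hxS : x ∈ S := h.c1.hα hx
  have hzF : z ∈ Ff p B := h.rev.VA'_F hz
  have hk : ⁅z, x⁆ ∉ Df p B' B A := by
    intro h2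
    apply hsD
    rw [cmr]
    refine mul_mem h2 (conj_mem_of_le_normalizer h.rev.norm_D (h.sBS.S_le hxS) ?_)
    apply h.rev.VA_D
    apply h.rev.CQV (comm_Ff hzF hq)
    exact mul_mem (mul_mem (mul_mem hzF.1 hq) (inv_mem hzF.1)) (inv_mem hq)
  have hkA : ⁅z, x⁆ ∈ Qf p A := h.SS hzS hxS
  obtain ⟨u, hu, e, he, hue⟩ := h.rev.dec_E (h.rev.FS hzF hxS) hkA
  apply hk
  rw [hue]
  refine mul_mem (h.rev.VA_D (h.sBS.Z_le_V (h.sAS.key z hzS hzQ u hu ?_))) he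
  -- `[u, z] ∈ C(A)`
  have h3 := hcon x hx z hz
  have h4 : ⁅⁅z, x⁆, z⁆ ∈ centralizer (A : Set X) := by
    have e1 : ⁅⁅z, x⁆, z⁆ = (⁅z, x⁆ * ⁅⁅x, z⁆, z⁆ * ⁅z, x⁆⁻¹)⁻¹ := by
      simp only [commutatorElement_def]; group
    rw [e1, conj_of_comm (cent_comm h3 (H52.PU.Qf_le A hkA))]
    exact inv_mem h3
  rw [hue, cml] at h4
  have h5 : ⁅e, z⁆ = 1 := by
    rw [commutatorElement_eq_one_iff_commute]
    exact (commute_of_le_centralizer h.sB'R.Q_cent (mem_Df.1 he).2.1 hz).symm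
  rw [h5, mul_one, mul_inv_cancel, one_mul] at h4
  exact h4

/-- `p = 2` is impossible -/
theorem ne_two : p ≠ 2 := by
  intro hp
  obtain ⟨x, hx, z, hz, hn⟩ := h.exists_nc
  apply hn
  have hxS : x ∈ S := h.c1.hα hx
  have hzS : z ∈ S := h.c2.hβ hz
  have hx2 := h.pow_A' hx
  have hz2 := h.pow_B' hz
  rw [hp, pow_two] at hx2 hz2
  set c := ⁅x, z⁆ with hc
  have e1 : x * c * x⁻¹ * c = 1 := by
    have := cml x x z
    rw [hx2, commutatorElement_one_left] at this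
    exact this.symm
  have e2 : c * (z * c * z⁻¹) = 1 := by
    have := cmr x z z
    rw [hz2, commutatorElement_one_right] at this
    exact this.symm
  have hcF : c ∈ Ff p A := h.FS (h.VA'_F hx) hzS
  have e3 : ⁅c, z⁆ = ⁅c, x⁆ := by
    have h1 : z * c * z⁻¹ = c⁻¹ := eq_inv_of_mul_eq_one_right e2
    have h2 : x * c * x⁻¹ = c⁻¹ := eq_inv_of_mul_eq_one_left e1
    have h3 : ⁅c, z⁆ = c * (z * c * z⁻¹)⁻¹ := by rw [commutatorElement_def]; group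
    have h4 : ⁅c, x⁆ = c * (x * c * x⁻¹)⁻¹ := by rw [commutatorElement_def]; group
    rw [h3, h4, h1, h2]
  rw [e3]
  exact comm_Ff hcF (h.a1 hx)

end Conf

namespace Conf

variable (h : Conf p A' A B B' T S R)

include h

theorem Z_comm {z s : X} (hz : z ∈ Zf S) (hs : s ∈ S) : Commute s z := H51.PuElem.Zf_comm hz hs

theorem Z_S {z : X} (hz : z ∈ Zf S) : z ∈ S := (H51.PuElem.mem_Zf.1 hz).1

theorem Z_EA {z : X} (hz : z ∈ Zf S) : z ∈ Ff p A := h.VA_F (h.sAS.Z_le_V hz)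

theorem Z_EB {z : X} (hz : z ∈ Zf S) : z ∈ Qf p B := h.sBS.V_le (h.sBS.Z_le_V hz)

/-! `ψ : (F ∩ Q(B)) × S → Z(S)` is bimultiplicative -/

theorem psi_mul_left {y y' s : X} (hy : y ∈ Ff p A) (hy' : y' ∈ Ff p A) (hy2' : y' ∈ Qf p B)
    (hs : s ∈ S) : ⁅y * y', s⁆ = ⁅y, s⁆ * ⁅y', s⁆ := by
  have h1 := h.E_S hy' hy2' hs
  rw [cml, conj_of_comm (h.Z_comm h1 (h.F_S hy))]
  exact (h.Z_comm h1 (by
    exact S.mul_mem (S.mul_mem (S.mul_mem (h.F_S hy) hs) (S.inv_mem (h.F_S hy)))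
      (S.inv_mem hs))).eq.symm

theorem psi_mul_right {y s t : X} (hy : y ∈ Ff p A) (hy2 : y ∈ Qf p B)
    (hs : s ∈ S) (ht : t ∈ S) : ⁅y, s * t⁆ = ⁅y, s⁆ * ⁅y, t⁆ := by
  rw [cmr, conj_of_comm (h.Z_comm (h.E_S hy hy2 ht) hs)]

theorem psi_Z {y s : X} (hy : y ∈ Zf S) (hs : s ∈ S) : ⁅y, s⁆ = 1 :=
  commutatorElement_eq_one_iff_commute.mpr (h.Z_comm hy hs).symm

theorem psi_pow_left {y s : X} (hy : y ∈ Ff p A) (hy2 : y ∈ Qf p B) (hs : s ∈ S) (n : ℕ) :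
    ⁅y ^ n, s⁆ = ⁅y, s⁆ ^ n := by
  induction n with
  | zero => simp
  | succ n ih => rw [pow_succ, h.psi_mul_left (pow_mem hy n) hy hy2 hs, ih, pow_succ]

theorem psi_pow_right {y s : X} (hy : y ∈ Ff p A) (hy2 : y ∈ Qf p B) (hs : s ∈ S) (n : ℕ) :
    ⁅y, s ^ n⁆ = ⁅y, s⁆ ^ n := by
  induction n with
  | zero => simp
  | succ n ih => rw [pow_succ, h.psi_mul_right hy hy2 (pow_mem hs n) hs, ih, pow_succ]

/-- `⁅F, Q(A)⁆ ≤ Z(S)` -/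
theorem FQ_Z {x q : X} (hx : x ∈ Ff p A) (hq : q ∈ Qf p A) : ⁅x, q⁆ ∈ Zf S :=
  h.CQ (comm_Ff hx hq)
    (mul_mem (mul_mem (mul_mem hx.1 hq) (inv_mem hx.1)) (inv_mem hq))

theorem psi_conj {g k r : X} (hg : g ∈ S) (hk : k ∈ Ff p A) (hk2 : k ∈ Qf p B) (hr : r ∈ S) :
    ⁅g * k * g⁻¹, r⁆ = ⁅k, r⁆ := by
  have h1 : ⁅g, k⁆ ∈ Zf S := c_symm_mem (h.E_S hk hk2 hg)
  have e : g * k * g⁻¹ = ⁅g, k⁆ * k := by rw [commutatorElement_def]; group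
  rw [e, h.psi_mul_left (h.Z_EA h1) hk hk2 hr, h.psi_Z h1 hr, one_mul]

theorem th_mul1 {x y s r : X} (hx : x ∈ Ff p A) (hy : y ∈ Ff p A) (hs : s ∈ S) (hr : r ∈ S) :
    ⁅⁅x * y, s⁆, r⁆ = ⁅⁅y, s⁆, r⁆ * ⁅⁅x, s⁆, r⁆ := by
  have h1 := h.FS hx hs
  have h2 := h.SS' (h.F_S hx) hs
  have h3 := h.FS hy hs
  have h4 := h.SS' (h.F_S hy) hs
  rw [cml, h.psi_mul_left (mul_mem (mul_mem hx h3) (inv_mem hx)) h1 h2 hr,
    h.psi_conj (h.F_S hx) h3 h4 hr]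

theorem th_mul2 {x s t r : X} (hx : x ∈ Ff p A) (hs : s ∈ S) (ht : t ∈ S) (hr : r ∈ S) :
    ⁅⁅x, s * t⁆, r⁆ = ⁅⁅x, s⁆, r⁆ * ⁅⁅x, t⁆, r⁆ := by
  have h1 := h.FS hx hs
  have h3 := h.FS hx ht
  have h4 := h.SS' (h.F_S hx) ht
  have h5 : s * ⁅x, t⁆ * s⁻¹ ∈ Ff p A :=
    conj_mem_of_le_normalizer (norm_Ff (p := p) A) (h.sAS.S_le hs) h3
  have h6 : s * ⁅x, t⁆ * s⁻¹ ∈ Qf p B := conj_mem_of_le_normalizer h.sBS.S_norm_Q hs h4
  rw [cmr, h.psi_mul_left h1 h5 h6 hr, h.psi_conj hs h3 h4 hr]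

theorem th_mul3 {x s r t : X} (hx : x ∈ Ff p A) (hs : s ∈ S) (hr : r ∈ S) (ht : t ∈ S) :
    ⁅⁅x, s⁆, r * t⁆ = ⁅⁅x, s⁆, r⁆ * ⁅⁅x, s⁆, t⁆ :=
  h.psi_mul_right (h.FS hx hs) (h.SS' (h.F_S hx) hs) hr ht

theorem th_pow1 {x s r : X} (hx : x ∈ Ff p A) (hs : s ∈ S) (hr : r ∈ S) (n : ℕ) :
    ⁅⁅x ^ n, s⁆, r⁆ = ⁅⁅x, s⁆, r⁆ ^ n := by
  induction n with
  | zero => simp
  | succ n ih => rw [pow_succ, h.th_mul1 (pow_mem hx n) hx hs hr, ih, pow_succ']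

theorem th_pow2 {x s r : X} (hx : x ∈ Ff p A) (hs : s ∈ S) (hr : r ∈ S) (n : ℕ) :
    ⁅⁅x, s ^ n⁆, r⁆ = ⁅⁅x, s⁆, r⁆ ^ n := by
  induction n with
  | zero => simp
  | succ n ih => rw [pow_succ, h.th_mul2 hx (pow_mem hs n) hs hr, ih, pow_succ]

theorem th_pow3 {x s r : X} (hx : x ∈ Ff p A) (hs : s ∈ S) (hr : r ∈ S) (n : ℕ) :
    ⁅⁅x, s⁆, r ^ n⁆ = ⁅⁅x, s⁆, r⁆ ^ n := by
  induction n with
  | zero => simp
  | succ n ih => rw [pow_succ, h.th_mul3 hx hs (pow_mem hr n) hr, ih, pow_succ]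

theorem th_Z {x s r : X} (hx : x ∈ Ff p A) (hs : s ∈ S) (hr : r ∈ S) : ⁅⁅x, s⁆, r⁆ ∈ Zf S :=
  h.E_S (h.FS hx hs) (h.SS' (h.F_S hx) hs) hr

end Conf

namespace Conf

variable (h : Conf p A' A B B' T S R)

include h

theorem E_le_Cf : Ff p A ⊓ Qf p B ≤ Cf p A S h.sAS.S_norm_V h.F_S := by
  rintro u ⟨hu, hu2⟩
  exact ⟨hu, fun s hs => h.sAS.Z_le_V (h.E_S hu hu2 hs)⟩

theorem Cf_le : Cf p A S h.sAS.S_norm_V h.F_S ≤ Qf p B := by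
  intro u hu
  obtain ⟨x, hx, v, hv, e, he, rfl⟩ := h.dec_F hu.1
  have hvE : v ∈ Cf p A S h.sAS.S_norm_V h.F_S :=
    h.E_le_Cf (Subgroup.mem_inf.2 ⟨h.VB_F hv, h.sBS.V_le hv⟩)
  have heE : e ∈ Cf p A S h.sAS.S_norm_V h.F_S :=
    h.E_le_Cf (Subgroup.mem_inf.2 ⟨(mem_Df.1 he).1, (mem_Df.1 he).2.2⟩)
  have hxE : x ∈ Cf p A S h.sAS.S_norm_V h.F_S := by
    have := mul_mem (mul_mem hu (inv_mem heE)) (inv_mem hvE)
    simpa [mul_assoc] using this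
  have h1 := h.mem_ZT hx (fun s hs => h.VA_D (hxE.2 s hs))
  rw [← h.c1.V_inf_Q] at h1
  exact mul_mem (mul_mem h1.2 (h.sBS.V_le hv)) (mem_Df.1 he).2.2

theorem Cf_index (hq : (Qf p B).relIndex S ≤ (Qf p A).relIndex S) :
    (Cf p A S h.sAS.S_norm_V h.F_S).relIndex (Ff p A) ≤ (Qf p A).relIndex S := by
  have h1 : (Cf p A S h.sAS.S_norm_V h.F_S).relIndex (Ff p A) ≤
      (Ff p A ⊓ Qf p B).relIndex (Ff p A) :=
    relIndex_le_of_le_left h.E_le_Cf (by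
      have : Finite (↥(Ff p A) ⧸ (Ff p A ⊓ Qf p B).subgroupOf (Ff p A)) := inferInstance
      exact index_ne_zero_of_finite)
  refine h1.trans ?_
  rw [inf_comm, inf_relIndex_right]
  refine le_trans ?_ hq
  refine relIndex_le_of_le_right h.F_S ?_
  have := h.sBS.relIndex_pos
  omega

/-- weights: `⁅⁅x, z⁆, z⁆` is central in `A` -/
theorem th_central (hq' : (Qf p B).relIndex S ≤ (Qf p A).relIndex S) {t : X} {l m : ℕ} (ht : Torus p A S t l m) {x z : X} (hx : x ∈ Ff p A)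
    (hz : z ∈ S) : ⁅⁅x, z⁆, z⁆ ∈ centralizer (A : Set X) := by
  set w := ⁅⁅x, z⁆, z⁆ with hw
  have hwZ : w ∈ Zf S := h.th_Z hx hz hz
  have h1 := ht.onZ w hwZ
  have h2 := ht.onU (Ff p A) (Cf p A S h.sAS.S_norm_V h.F_S) (Ff_le A) (norm_Ff A) h.VA_F
    (by
      rw [commutator_le]
      intro f hf q hq
      exact h.sAS.Z_le_V (h.FQ_Z hf hq)) (fun u => mem_Cf) (h.Cf_index hq') x hx
  have h3 := ht.onS z hz
  set e := t * x * t⁻¹ * (x ^ m)⁻¹ with he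
  set q := t * z * t⁻¹ * (z ^ (l * l))⁻¹ with hq
  have he1 : t * x * t⁻¹ = e * x ^ m := by rw [he]; group
  have hq1 : t * z * t⁻¹ = q * z ^ (l * l) := by rw [hq]; group
  have hqS : q ∈ S := h.QA_S h3
  have hzz : z ^ (l * l) ∈ S := pow_mem hz _
  have hxm : x ^ m ∈ Ff p A := pow_mem hx _
  have heF : e ∈ Ff p A := h2.1
  have heB : e ∈ Qf p B := h.Cf_le h2
  have h4 : t * w * t⁻¹ = ⁅⁅t * x * t⁻¹, t * z * t⁻¹⁆, t * z * t⁻¹⁆ := by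
    rw [hw]; simp only [commutatorElement_def]; group
  have hqz : q * z ^ (l * l) ∈ S := mul_mem hqS hzz
  have h5 : ⁅⁅e, q * z ^ (l * l)⁆, q * z ^ (l * l)⁆ = 1 := h.psi_Z (h.E_S heF heB hqz) hqz
  have h6 : ⁅⁅x, q⁆, q * z ^ (l * l)⁆ = 1 := h.psi_Z (h.FQ_Z hx h3) hqz
  have h7 : ⁅⁅x, z⁆, q⁆ ∈ centralizer (A : Set X) := comm_Ff (h.FS hx hz) h3
  have h8 : t * w * t⁻¹ = ((⁅⁅x, z⁆, q⁆ * w ^ (l * l)) ^ (l * l)) ^ m := by
    rw [h4, he1, hq1, h.th_mul1 heF hxm hqz hqz, h5, mul_one, h.th_pow1 hx hqz hqz,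
      h.th_mul2 hx hqS hzz hqz, h6, one_mul, h.th_pow2 hx hz hqz, h.th_mul3 hx hz hqS hzz,
      h.th_pow3 hx hz hz]
  have hcomm : Commute ⁅⁅x, z⁆, q⁆ (w ^ (l * l)) := h.Z_comm (pow_mem hwZ _)
    (h.Z_S (h.th_Z hx hz hqS))
  have h9 : t * w * t⁻¹ = (⁅⁅x, z⁆, q⁆ ^ (l * l)) ^ m * w ^ (l * l * (l * l) * m) := by
    rw [h8, hcomm.mul_pow, ((hcomm.pow_pow (l * l) (l * l))).mul_pow, ← pow_mul, ← pow_mul,
      ← pow_mul]
    ring_nf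
  have h10 : w ^ (((l * l * (l * l) * m : ℕ) : ℤ) - (l : ℤ)) ∈ centralizer (A : Set X) := by
    rw [zpow_sub, zpow_natCast, zpow_natCast]
    have h11 : w ^ (l * l * (l * l) * m) * (w ^ l)⁻¹ =
        ((⁅⁅x, z⁆, q⁆ ^ (l * l)) ^ m)⁻¹ * (t * w * t⁻¹ * (w ^ l)⁻¹) := by
      rw [h9]; group
    rw [h11]
    exact mul_mem (inv_mem (pow_mem (pow_mem h7 _) _)) h1
  have h12 : w ^ ((p : ℕ) : ℤ) ∈ centralizer (A : Set X) := by
    rw [zpow_natCast, h.pow_A (h.sAS.Z_le_V hwZ)]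
    exact one_mem _
  refine mem_of_zpow_mem h10 h12 ?_
  have hpp : Nat.Prime p := Fact.out
  have hcop : ¬ (p : ℤ) ∣ ((l * l * (l * l) * m : ℕ) : ℤ) - (l : ℤ) := by
    intro hd
    have e1 : ((((l * l * (l * l) * m : ℕ) : ℤ) - (l : ℤ) : ℤ) : ZMod p) = 0 := by
      rwa [ZMod.intCast_zmod_eq_zero_iff_dvd]
    have e2 : (l : ZMod p) * m = 1 := by
      have := (ZMod.natCast_eq_natCast_iff _ _ _).2 ht.lm
      simpa using this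
    have e3 : (l : ZMod p) * l ≠ 1 := by
      intro h0
      apply ht.ll
      rw [← ZMod.natCast_eq_natCast_iff]
      simpa using h0
    push_cast at e1
    have e4 : (l : ZMod p) * ((l : ZMod p) * l - 1) = 0 := by
      have : (l : ZMod p) * l * (l * l) * m - l = l * l * l * (l * m) - l := by ring
      rw [this, e2] at e1
      rw [← e1]; ring
    rcases mul_eq_zero.1 e4 with h0 | h0
    · rw [h0, zero_mul] at e2
      exact zero_ne_one e2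
    · exact e3 (sub_eq_zero.1 h0)
  exact ((Nat.prime_iff_prime_int.mp hpp).coprime_iff_not_dvd.2 hcop).symm

/-- `p ≥ 5` (existence of a torus element of order at least `3` mod `±1`) is impossible -/
theorem no_torus (hq' : (Qf p B).relIndex S ≤ (Qf p A).relIndex S) {t : X} {l m : ℕ}
    (ht : Torus p A S t l m) : False := by
  obtain ⟨x, hx, z, hz, hn⟩ := h.exists_nc
  exact hn (h.th_central hq' ht (h.VA'_F hx) (h.c2.hβ hz))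

end Conf


end H52.PM
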