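import Cfsg.Agent.Lib.H52.PmCore
import Cfsg.Agent.Lib.H52.PuMap
import Cfsg.Agent.Lib.H53.GN8
import Cfsg.Agent.Lib.H53.GN9

/-!
Pushing up data over an abstract `p`-group `S`.
-/

set_option autoImplicit false

open Cfsg Subgroup H28.Cj H28.RelSyl H52.PU H53.PU H53.GN H51.ThompsonA
open scoped commutatorElement

universe u

namespace H52.PM

/-- a pushing up group over `S` -/
structure Dt (p : ℕ) (S : Type u) [Group S] : Type (u + 1) where
  G : Type u
  grp : Group G
  fin : Finite G
  j : S →* G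
  inj : Function.Injective j
  pu : Cfsg.IsPushingUpSituation p j.range

namespace Dt

attribute [instance] Dt.grp Dt.fin

variable {p : ℕ} {S : Type u} [Group S] (D : Dt p S)

/-- `[V, S]` -/
def R : Subgroup S := (⁅PSit.VS D.j.range, D.j.range⁆).comap D.j

/-- `O_p(G)` -/
def Q : Subgroup S := (pCore p D.G).comap D.j

/-- `S ∩ Z(G)` -/
def C : Subgroup S := (center D.G).comap D.j

/-- twisting by an automorphism -/
def tw (φ : S ≃* S) : Dt p S where
  G := D.G
  grp := D.grp
  fin := D.fin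
  j := D.j.comp φ.symm.toMonoidHom
  inj := D.inj.comp φ.symm.injective
  pu := by
    have e : (D.j.comp φ.symm.toMonoidHom).range = D.j.range := by
      ext x
      constructor
      · rintro ⟨y, rfl⟩
        exact ⟨φ.symm y, rfl⟩
      · rintro ⟨y, rfl⟩
        refine ⟨φ y, ?_⟩
        show D.j (φ.symm (φ y)) = D.j y
        rw [MulEquiv.symm_apply_apply]
    rw [e]
    exact D.pu

theorem range_tw (φ : S ≃* S) : (D.tw φ).j.range = D.j.range := by
  ext x
  constructor
  · rintro ⟨y, rfl⟩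
    exact ⟨φ.symm y, rfl⟩
  · rintro ⟨y, rfl⟩
    refine ⟨φ y, ?_⟩
    show D.j (φ.symm (φ y)) = D.j y
    rw [MulEquiv.symm_apply_apply]

theorem comap_tw (φ : S ≃* S) (K : Subgroup D.G) :
    K.comap (D.tw φ).j = (K.comap D.j).map φ.toMonoidHom := by
  ext x
  constructor
  · intro hx
    exact ⟨φ.symm x, hx, by simp⟩
  · rintro ⟨y, hy, rfl⟩
    show D.j (φ.symm (φ y)) ∈ K
    simpa using hy

theorem R_tw (φ : S ≃* S) : (D.tw φ).R = D.R.map φ.toMonoidHom := by
  have h1 : (D.tw φ).R = (⁅PSit.VS D.j.range, D.j.range⁆).comap (D.tw φ).j := by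
    have h2 : (D.tw φ).j.range = D.j.range := D.range_tw φ
    have h3 : ∀ T : Subgroup D.G, T = D.j.range →
        (⁅PSit.VS T, T⁆).comap (D.tw φ).j = (⁅PSit.VS D.j.range, D.j.range⁆).comap (D.tw φ).j := by
      rintro T rfl
      rfl
    exact h3 _ h2
  rw [h1]
  exact D.comap_tw φ _

theorem Q_tw (φ : S ≃* S) : (D.tw φ).Q = D.Q.map φ.toMonoidHom := D.comap_tw φ _

theorem C_tw (φ : S ≃* S) : (D.tw φ).C = D.C.map φ.toMonoidHom := D.comap_tw φ _

theorem map_le_center_iff {K : Subgroup S} : K.map D.j ≤ center D.G ↔ K ≤ D.C := map_le_iff_le_comap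

end Dt

variable {p : ℕ} {S : Type u} [Group S] [Finite S] [hp : Fact p.Prime]

/-- the `FF` dichotomy -/
theorem Dt.psit (D : Dt p S) (hZJ : ZJ S ≤ center S) (hc : ¬ center S ≤ D.C) :
    ∃ (F : Type) (_ : Field F) (_ : Finite F) (M : Subgroup D.G)
      (π : D.G →* Matrix.ProjectiveSpecialLinearGroup (Fin 2) F),
      PSit p D.j.range M π ∧ ¬ (PSit.ZS D.j.range).Normal ∧
        ∃ A, MA D.j.range A ∧ ¬ A ≤ pCore p D.G := by
  obtain ⟨F, i1, i2, M, π, h, -⟩ := exists_psit_of_isPushingUpSituation D.pu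
  have hZm : (center S).map D.j = PSit.ZS D.j.range := map_center D.j D.inj
  refine ⟨F, i1, i2, M, π, h, ?_, ?_⟩
  · intro hn
    apply hc
    rw [← D.map_le_center_iff, hZm]
    exact h.center_central hn
  · by_contra hcon
    push Not at hcon
    have hJ : J D.j.range ≤ pCore p D.G := sSup_le fun A hA => hcon A (ma_iff.mpr hA)
    have hY : (YY D.j.range).Normal := h.YY_normal_of_le hJ
    have h1 : (centralizer (YY D.j.range : Set D.G)).Normal := inferInstance
    have h2 : (ZJ S).map D.j = YY D.j.range := by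
      rw [map_ZJ D.j D.inj, YY_eq]
    have h3 : D.j.range ≤ centralizer (YY D.j.range : Set D.G) := by
      rw [le_centralizer_iff, ← h2]
      refine (map_mono hZJ).trans ?_
      rw [hZm]
      exact inf_le_right
    have h4 := h.eq_top_of_le h1 h3
    apply hc
    rw [← D.map_le_center_iff, hZm]
    refine ZS_le_YY.trans ?_
    rw [← centralizer_univ, ← coe_top, le_centralizer_iff, h4]

end H52.PM
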