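import Cfsg.Agent.Lib.H52.PmPair
import Cfsg.Agent.Lib.H53.GN13

/-!
Pushing up with two characteristic subgroups: the choice of `S₁` and the output theorem.
-/

set_option autoImplicit false
set_option linter.unusedSectionVars false

open Cfsg Subgroup H28.Cj H28.RelSyl H52.PU H53.PU H53.GN H51.ThompsonA
open scoped commutatorElement

universe u

namespace H52.PM

variable {p : ℕ} {S : Type u} [Group S] [Finite S] [hp : Fact p.Prime]

/-- the characteristic closure of `[V, S]` -/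
def Dt.U (D : Dt p S) : Subgroup S := ⨆ φ : S ≃* S, D.R.map φ.toMonoidHom

theorem Dt.char_U (D : Dt p S) : D.U.Characteristic := by
  rw [characteristic_iff_map_le]
  intro φ
  unfold Dt.U
  rw [Subgroup.map_iSup]
  refine iSup_le fun ψ => ?_
  rw [Subgroup.map_map]
  exact le_iSup (fun φ : S ≃* S => D.R.map φ.toMonoidHom) (ψ.trans φ)

theorem Dt.R_le_U (D : Dt p S) : D.R ≤ D.U := by
  have h := le_iSup (fun φ : S ≃* S => D.R.map φ.toMonoidHom) (MulEquiv.refl S)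
  have e : D.R.map (MulEquiv.refl S).toMonoidHom = D.R := by
    ext x; simp
  rw [e] at h
  exact h

theorem char_map {H : Subgroup S} (hH : H.Characteristic) (φ : S ≃* S) :
    H.map φ.toMonoidHom = H := characteristic_iff_map_eq.mp hH φ

theorem exists_min_char {W : Subgroup S} (hW : W.Characteristic) (hW0 : W ≠ ⊥) :
    ∃ T : Subgroup S, T ≠ ⊥ ∧ T.Characteristic ∧ T ≤ W ∧
      ∀ K : Subgroup S, K ≠ ⊥ → K.Characteristic → K ≤ T → K = T := by
  obtain ⟨T, ⟨h1, h2, h3⟩, h4⟩ := wellFounded_lt.has_min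
    {T : Subgroup S | T ≠ ⊥ ∧ T.Characteristic ∧ T ≤ W} ⟨W, hW0, hW, le_rfl⟩
  refine ⟨T, h1, h2, h3, fun K hK hKc hKT => ?_⟩
  by_contra hne
  exact h4 K ⟨hK, hKc, hKT.trans h3⟩ (lt_of_le_of_ne hKT hne)

/-- a torus gives an element of `[V, S] ∩ T` -/
theorem Dt.exists_of_torus (D : Dt p S) (hZJ : ZJ S ≤ center S)
    (hq : D.Q.relIndex ⊤ ≠ 2) {T : Subgroup S} (hT : T.Characteristic) (hTZ : T ≤ center S)
    (hTC : ¬ T ≤ D.C) : ∃ x ∈ T, x ∈ D.R ∧ x ≠ 1 := by
  have hc : ¬ center S ≤ D.C := fun h0 => hTC (hTZ.trans h0)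
  obtain ⟨F, i1, i2, M, π, h, hZ, A, hA, hAQ⟩ := D.psit hZJ hc
  have hQ : (pCore p D.G).relIndex D.j.range = D.Q.relIndex ⊤ := by
    have e : D.Q.map D.j = pCore p D.G := by
      unfold Dt.Q
      rw [map_comap_eq, inf_eq_right.mpr h.pCore_le_S]
    rw [← e, MonoidHom.range_eq_map, relIndex_map_map_of_injective _ _ D.inj]
  rcases H39.PmOne.tor h hZ hA hAQ with h1 | ⟨t, ht, h1⟩
  · rw [hQ] at h1
    exact absurd h1 hq
  · obtain ⟨z, hzT, hzC⟩ := Set.not_subset.mp hTC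
    have hzT : z ∈ T := hzT
    have hzC : z ∉ D.C := hzC
    have hmem : ∀ s : S, ∃ s' : S, D.j s' = t * D.j s * t⁻¹ := fun s =>
      (mem_normalizer_iff.mp ht (D.j s)).mp ⟨s, rfl⟩
    choose ψ₀ hψ₀ using hmem
    -- the automorphism
    let ψ : S →* S :=
      { toFun := ψ₀
        map_one' := by
          apply D.inj
          rw [hψ₀]
          simp
        map_mul' := by
          intro a b
          apply D.inj
          rw [map_mul, hψ₀, hψ₀, hψ₀, map_mul]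
          group }
    have hψ : ∀ s, D.j (ψ s) = t * D.j s * t⁻¹ := hψ₀
    have hinj : Function.Injective ψ := by
      intro a b hab
      have h2 := congrArg D.j hab
      rw [hψ, hψ] at h2
      exact D.inj (mul_left_cancel (mul_right_cancel h2))
    have hbij : Function.Bijective ψ := Finite.injective_iff_bijective.mp hinj
    let φ : S ≃* S := MulEquiv.ofBijective ψ hbij
    have hφ : ∀ s, D.j (φ s) = t * D.j s * t⁻¹ := hψ
    have hφT : φ z ∈ T := by
      have := char_map hT φ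
      rw [← this]
      exact ⟨z, hzT, rfl⟩
    have hzZ : D.j z ∈ PSit.ZS D.j.range := by
      have hm : (center S).map D.j = PSit.ZS D.j.range := map_center D.j D.inj
      rw [← hm]
      exact ⟨z, hTZ hzT, rfl⟩
    obtain ⟨h2, h3⟩ := h1 _ hzZ
    refine ⟨φ z * z⁻¹, mul_mem hφT (inv_mem hzT), ?_, ?_⟩
    · show D.j (φ z * z⁻¹) ∈ ⁅PSit.VS D.j.range, D.j.range⁆
      rw [map_mul, map_inv, hφ]
      exact h2
    · intro h4
      apply hzC
      apply h3
      have h5 := congrArg D.j h4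
      rw [map_mul, map_inv, hφ, map_one] at h5
      rw [h5]
      exact one_mem _

/-- `|S : Q| = 2` forces `p = 2` -/
theorem Dt.two_of_q (D : Dt p S) (hS : IsPGroup p S) (hq : D.Q.relIndex ⊤ = 2) : p = 2 := by
  rw [relIndex_top_right] at hq
  obtain ⟨n, hn⟩ := hS.index D.Q
  rw [hq] at hn
  have h1 : p ∣ 2 := by
    rw [hn]
    apply dvd_pow_self
    rintro rfl
    simp at hn
  exact (Nat.prime_dvd_prime_iff_eq hp.out Nat.prime_two).mp h1

/-- **the choice of `S₁`** -/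
theorem exists_S1 (hS : IsPGroup p S) (hZJ : ZJ S ≤ center S) (hZp : ∀ z ∈ center S, z ^ p = 1)
    (h0 : S0 p (⊤ : Subgroup S) ≠ ⊥) :
    ∃ S₁ : Subgroup S, S₁ ≠ ⊥ ∧ S₁.Characteristic ∧ S₁ ≤ zst p S ∧
      ∀ D : Dt p S, ¬ S₁ ≤ D.C → S₁ ≤ D.U := by
  by_cases hcase : ∃ D₀ : Dt p S, ¬ zst p S ≤ D₀.C ∧ D₀.Q.relIndex ⊤ = 2
  · obtain ⟨D₀, hD₀, hq₀⟩ := hcase
    have hp2 : p = 2 := D₀.two_of_q hS hq₀
    subst hp2
    have hfacts := delta_dat hZJ hZp hD₀ hD₀ hq₀ hq₀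
    have hU0 : D₀.U ≠ ⊥ := by
      intro h1
      exact hfacts.2.2.2 (le_bot_iff.mp (h1 ▸ D₀.R_le_U))
    have hUz : D₀.U ≤ zst 2 S := by
      unfold Dt.U
      refine iSup_le fun φ => ?_
      rw [← char_map (char_zst (p := 2)) φ]
      exact map_mono hfacts.2.2.1
    obtain ⟨S₁, h1, h2, h3, h4⟩ := exists_min_char D₀.char_U hU0
    refine ⟨S₁, h1, h2, h3.trans hUz, fun D hD => ?_⟩
    by_cases hq : D.Q.relIndex ⊤ = 2
    · have hDz : ¬ zst 2 S ≤ D.C := fun h5 => hD ((h3.trans hUz).trans h5)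
      -- `Q_D` is a conjugate of `Q_{D₀}`
      have hex : ∃ φ : S ≃* S, D.Q = D₀.Q.map φ.toMonoidHom := by
        by_contra hcon
        push Not at hcon
        apply hD
        refine h3.trans ?_
        unfold Dt.U
        refine iSup_le fun φ => ?_
        have hD' : ¬ zst 2 S ≤ (D₀.tw φ).C := by
          rw [D₀.C_tw, ← char_map (char_zst (p := 2)) φ, map_le_map_iff_of_injective φ.injective]
          exact hD₀
        have hq' : (D₀.tw φ).Q.relIndex ⊤ = 2 := by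
          have e1 := relIndex_map_map_of_injective D₀.Q (⊤ : Subgroup S) (f := φ.toMonoidHom) φ.injective
          rw [Subgroup.map_top_of_surjective φ.toMonoidHom φ.surjective] at e1
          rw [D₀.Q_tw]
          exact e1.trans hq₀
        have h5 := (delta_dat hZJ hZp hDz hD' hq hq').1
        rw [D₀.Q_tw, D₀.R_tw] at h5
        exact h5 (hcon φ)
      obtain ⟨φ, hφ⟩ := hex
      have hD' : ¬ zst 2 S ≤ (D₀.tw φ).C := by
        rw [D₀.C_tw, ← char_map (char_zst (p := 2)) φ, map_le_map_iff_of_injective φ.injective]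
        exact hD₀
      have hq' : (D₀.tw φ).Q.relIndex ⊤ = 2 := by
        rw [D₀.Q_tw, ← hφ, hq]
      have h5 := (delta_dat hZJ hZp hDz hD' hq hq').2.1 (by rw [hφ, D₀.Q_tw])
      rw [D₀.R_tw] at h5
      -- `R_{D₀} ≤ D.U`
      have h6 : D₀.R ≤ D.U := by
        have h7 : D₀.R = D.R.map φ.symm.toMonoidHom := by
          rw [h5, Subgroup.map_map]
          ext x; simp
        rw [h7]
        exact le_iSup (fun φ : S ≃* S => D.R.map φ.toMonoidHom) φ.symm
      refine h3.trans ?_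
      conv_lhs => unfold Dt.U
      refine iSup_le fun ψ => ?_
      rw [← char_map D.char_U ψ]
      exact map_mono h6
    · obtain ⟨x, hx1, hx2, hx3⟩ := D.exists_of_torus hZJ hq h2 ((h3.trans hUz).trans zst_le_center) hD
      have h5 := h4 (S₁ ⊓ D.U) (fun h6 => hx3 (by
        have h7 : x ∈ S₁ ⊓ D.U := ⟨hx1, D.R_le_U hx2⟩
        rw [h6, mem_bot] at h7
        exact h7)) (char_inf h2 D.char_U) inf_le_left
      rw [← h5]
      exact inf_le_right
  · push Not at hcase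
    obtain ⟨S₁, h1, h2, h3, h4⟩ := exists_min_char (char_zst (p := p) (S := S)) (zst_ne_bot hS h0)
    refine ⟨S₁, h1, h2, h3, fun D hD => ?_⟩
    have hq := hcase D (fun h5 => hD (h3.trans h5))
    obtain ⟨x, hx1, hx2, hx3⟩ := D.exists_of_torus hZJ hq h2 (h3.trans zst_le_center) hD
    have h5 := h4 (S₁ ⊓ D.U) (fun h6 => hx3 (by
      have h7 : x ∈ S₁ ⊓ D.U := ⟨hx1, D.R_le_U hx2⟩
      rw [h6, mem_bot] at h7
      exact h7)) (char_inf h2 D.char_U) inf_le_left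
    rw [← h5]
    exact inf_le_right

/-- `N` works for `D` -/
def Dt.Works (D : Dt p S) (N : Subgroup S) : Prop :=
  (N.map D.j).Normal ∧ PSit.VS D.j.range ≤ N.map D.j ∧ N.map D.j ≤ Cfsg.pCore p D.G

theorem exists_N (hS : IsPGroup p S) (hZJ : ZJ S ≤ center S) (hZp : ∀ z ∈ center S, z ^ p = 1)
    {S₁ : Subgroup S} (hz : S₁ ≤ zst p S) (hU : ∀ D : Dt p S, ¬ S₁ ≤ D.C → S₁ ≤ D.U) :
    ∃ N : Subgroup S, N.Characteristic ∧ ∀ D : Dt p S, ¬ S₁ ≤ D.C → D.Works N := by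
  by_contra hcon
  push Not at hcon
  have hcon' : ∀ N : {N : Subgroup S // N.Characteristic}, ∃ D : Dt p S, ¬ S₁ ≤ D.C ∧
      ¬ D.Works N.1 := fun N => hcon N.1 N.2
  choose Ds hD1 hD2 using hcon'
  obtain ⟨X, i1, i2, σ, f, hσ, hf, hfj, hφ⟩ := exists_ambient Ds
  have hDz : ∀ i, ¬ zst p S ≤ (Ds i).C := fun i h0 => hD1 i (hz.trans h0)
  have hDc : ∀ i, ¬ center S ≤ (Ds i).C := fun i h0 => hDz i (zst_le_center.trans h0)
  have hamb : ∀ i, Amb (Ds i) σ (f i) := fun i =>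
    (Ds i).amb hZJ hZp (hDc i) σ hσ (f i) (hf i) (hfj i)
  -- automorphisms
  have hnorm : ∀ (φ : S ≃* S) (x : X), (∀ s, x * σ s * x⁻¹ = σ (φ s)) →
      x ∈ normalizer (σ.range : Set X) := by
    intro φ x hx
    apply mem_normalizer_of_cj_le
    rw [cj_le_iff]
    rintro _ ⟨s, rfl⟩
    rw [mem_cj, inv_inv]
    exact ⟨φ s, (hx s).symm⟩
  have hM : Mul p (Set.range fun i => (f i).range) σ.range := by
    refine ⟨⟨_, ⟨⟨⊤, inferInstance⟩, rfl⟩⟩, ?_, ?_, ?_, ?_⟩
    · rintro _ ⟨i, rfl⟩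
      exact (hamb i).loc
    · rintro _ ⟨i, rfl⟩ _ ⟨k, rfl⟩ hcon
      apply hD1 k
      refine (hU (Ds i) (hD1 i)).trans ?_
      unfold Dt.U
      refine iSup_le fun φ => ?_
      obtain ⟨x, hx⟩ := hφ φ
      have h1 := hcon x (hnorm φ x hx)
      rintro _ ⟨s, hs, rfl⟩
      rw [← (hamb k).C]
      apply h1
      show σ (φ s) ∈ cj x ⁅Vf p (f i).range, σ.range⁆
      rw [← hx s, (hamb i).R]
      exact conj_mem_cj.mpr ⟨s, hs, rfl⟩
    · rintro _ ⟨i, rfl⟩
      exact (Ds i).n0 hσ (hamb i) (hDz i)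
    · rintro h5 _ ⟨i, rfl⟩
      exact (hamb i).tor h5
  obtain ⟨N', hN⟩ := core hM
  obtain ⟨N₀, hN₀⟩ : ∃ N₀, N₀ = N'.comap σ := ⟨_, rfl⟩
  have hmap : N₀.map σ = N' := by
    rw [hN₀, map_comap_eq, inf_eq_right.mpr hN.le_S]
  have hchar : N₀.Characteristic := by
    rw [characteristic_iff_map_le]
    intro φ
    obtain ⟨x, hx⟩ := hφ φ
    have h1 := hN.norm (hnorm φ x hx)
    rintro _ ⟨s, hs, rfl⟩
    rw [hN₀] at hs ⊢
    show σ (φ s) ∈ N'
    rw [← hx s]
    exact (mem_normalizer_iff.mp h1 (σ s)).mp hs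
  obtain ⟨i, hi⟩ : ∃ i : {N : Subgroup S // N.Characteristic}, i = ⟨N₀, hchar⟩ := ⟨_, rfl⟩
  have hi' : i.1 = N₀ := by rw [hi]
  apply hD2 i
  rw [hi']
  have hGi : (f i).range ∈ (Set.range fun i => (f i).range) := ⟨i, rfl⟩
  have hmf : (N₀.map (Ds i).j).map (f i) = N' := by
    rw [← hmap, Subgroup.map_map]
    congr 1
    ext s
    exact hfj i s
  refine ⟨⟨?_⟩, ?_, ?_⟩
  · intro n hn g
    have h1 : f i n ∈ N' := by rw [← hmf]; exact ⟨n, hn, rfl⟩
    have h2 := (mem_normalizer_iff.mp (hN.normal _ hGi ⟨g, rfl⟩) (f i n)).mp h1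
    rw [← map_inv, ← map_mul, ← map_mul, ← hmf] at h2
    obtain ⟨y, hy, e⟩ := h2
    rw [← hf i e]
    exact hy
  · rw [← map_le_map_iff_of_injective (hf i), ← (hamb i).V, hmf]
    exact hN.V_le _ hGi
  · have h1 := hN.le_Q _ hGi
    rw [(hamb i).Q, ← hmap, map_le_map_iff_of_injective hσ] at h1
    rw [map_le_iff_le_comap]
    exact h1

/-- **The output theorem.** -/
theorem coreOut (hS : IsPGroup p S) (hZJ : ZJ S ≤ center S) (hZp : ∀ z ∈ center S, z ^ p = 1)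
    (h0 : S0 p (⊤ : Subgroup S) ≠ ⊥) : CoreOut p S := by
  obtain ⟨S₁, h1, h2, h3, h4⟩ := exists_S1 hS hZJ hZp h0
  obtain ⟨N, hN, hN2⟩ := exists_N hS hZJ hZp h3 h4
  refine ⟨S₁, N, h1, h2, h3.trans zst_le_center, hN, ?_⟩
  intro G _ _ j hj hpu
  let D : Dt p S := ⟨G, inferInstance, inferInstance, j, hj, hpu⟩
  by_cases hD : S₁ ≤ D.C
  · left
    have h5 : S₁.map j ≤ center G := map_le_iff_le_comap.mpr hD
    refine ⟨fun n hn g => ?_⟩
    rw [(mem_center_iff.mp (h5 hn)) g, mul_inv_cancel_right]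
    exact hn
  · right
    exact hN2 D hD

theorem coreHyp (hS : IsPGroup p S) : CoreHyp p S := fun h1 h2 h3 => coreOut hS h1 h2 h3

end H52.PM
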