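import Cfsg.Agent.Lib.H52.PmDat
import Cfsg.Agent.Lib.H39.PmOne
import Cfsg.Agent.Lib.H53.GN7
import Cfsg.Agent.Lib.H65.PBasic

/-!
Pushing up data over an abstract `p`-group `S`: pairs of data in a common ambient group.
-/

set_option autoImplicit false
set_option linter.unusedSectionVars false

open Cfsg Subgroup H28.Cj H28.RelSyl H52.PU H53.PU H53.GN H51.ThompsonA
open scoped commutatorElement

universe u

namespace H52.PM

theorem S0_map {p : ℕ} [Fact p.Prime] {X Y : Type*} [Group X] [Group Y] (f : X →* Y) (H : Subgroup X) :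
    (S0 p H).map f = S0 p (H.map f) := by
  have h3 : (closure {x | ∃ s ∈ H, x = s ^ p}).map f = closure {x | ∃ s ∈ H.map f, x = s ^ p} := by
    rw [MonoidHom.map_closure]
    congr 1
    ext x
    constructor
    · rintro ⟨_, ⟨y, hy, rfl⟩, rfl⟩
      exact ⟨f y, ⟨y, hy, rfl⟩, by simp⟩
    · rintro ⟨_, ⟨y, hy, rfl⟩, rfl⟩
      exact ⟨y ^ p, ⟨y, hy, rfl⟩, by simp⟩
  unfold S0
  split_ifs
  · rw [Subgroup.map_sup, map_commutator, Fr_map, Fr_map, Fr_map]
  · rw [Subgroup.map_sup, map_commutator, map_commutator, Fr_map, Fr_map, Fr_map]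
  · rw [Subgroup.map_sup, map_commutator, Fr_map, h3]

/-- `S₀(S) ∩ Z(S)` -/
def zst (p : ℕ) (S : Type*) [Group S] : Subgroup S := S0 p (⊤ : Subgroup S) ⊓ center S

theorem char_S0 {p : ℕ} [Fact p.Prime] {S : Type*} [Group S] : (S0 p (⊤ : Subgroup S)).Characteristic := by
  rw [characteristic_iff_map_eq]
  intro φ
  rw [S0_map, Subgroup.map_top_of_surjective _ φ.surjective]

theorem char_zst {p : ℕ} [Fact p.Prime] {S : Type*} [Group S] : (zst p S).Characteristic :=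
  char_inf char_S0 inferInstance

theorem zst_ne_bot {p : ℕ} {S : Type*} [Group S] [Finite S] [Fact p.Prime] (hS : IsPGroup p S)
    (h0 : S0 p (⊤ : Subgroup S) ≠ ⊥) : zst p S ≠ ⊥ := by
  have hn : (S0 p (⊤ : Subgroup S)).Normal := by
    have := char_S0 (p := p) (S := S)
    infer_instance
  exact H65.PBasic.inf_center_ne_bot hS _ h0

variable {p : ℕ} {S : Type u} [Group S] [Finite S] [hp : Fact p.Prime]

/-- the facts in an ambient group -/
structure Amb (D : Dt p S) {X : Type u} [Group X] (σ : S →* X) (f : D.G →* X) : Prop where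
  range : f.range ≤ f.range
  Q : Qf p f.range = D.Q.map σ
  R : ⁅Vf p f.range, σ.range⁆ = D.R.map σ
  C : ∀ s, σ s ∈ centralizer (f.range : Set X) ↔ s ∈ D.C
  loc : Loc p f.range σ.range
  tor : 5 ≤ p → ∃ (t : X) (l m : ℕ), H51.PuB2.Torus p f.range σ.range t l m
  ex : ∃ A, MaxAb A σ.range ∧ ¬ A ≤ Qf p f.range
  V : Vf p f.range = (PSit.VS D.j.range).map f

theorem Zf_range {X : Type*} [Group X] (σ : S →* X) (hσ : Function.Injective σ) :
    Zf σ.range = (center S).map σ := by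
  rw [map_center σ hσ]
  rfl

theorem Dt.amb (D : Dt p S) (hZJ : ZJ S ≤ center S) (hZp : ∀ z ∈ center S, z ^ p = 1)
    (hc : ¬ center S ≤ D.C) {X : Type u} [Group X] [Finite X] (σ : S →* X)
    (hσ : Function.Injective σ) (f : D.G →* X) (hf : Function.Injective f)
    (hfj : ∀ s, f (D.j s) = σ s) : Amb D σ f := by
  obtain ⟨F, i1, i2, M, π, h, hZ, A, hA, hAQ⟩ := D.psit hZJ hc
  have hr : σ.range = D.j.range.map f := by
    ext x
    constructor
    · rintro ⟨s, rfl⟩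
      exact ⟨D.j s, ⟨s, rfl⟩, hfj s⟩
    · rintro ⟨_, ⟨s, rfl⟩, rfl⟩
      exact ⟨s, (hfj s).symm⟩
  have hcm : ∀ K : Subgroup D.G, K ≤ D.j.range → (K.comap D.j).map σ = K.map f := by
    intro K hK
    ext x
    constructor
    · rintro ⟨s, hs, rfl⟩
      exact ⟨D.j s, hs, hfj s⟩
    · rintro ⟨y, hy, rfl⟩
      obtain ⟨s, rfl⟩ := hK hy
      exact ⟨s, hy, (hfj s).symm⟩
  have hZp' : ∀ z ∈ PSit.ZS D.j.range, z ^ p = 1 := by
    intro z hz
    have hm : (center S).map D.j = PSit.ZS D.j.range := map_center D.j D.inj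
    rw [← hm] at hz
    obtain ⟨y, hy, rfl⟩ := hz
    rw [← map_pow, hZp y hy, map_one]
  obtain ⟨hloc, htor⟩ := H39.PmOne.loc h hZ hA hAQ hZp' f hf
  have hS := isSyl_of_psit h
  have hQ : Qf p f.range = (pCore p D.G).map f := Qf_range f hf
  have hV : Vf p f.range = (PSit.VS D.j.range).map f := Vf_range f hf hS
  refine ⟨le_rfl, ?_, ?_, ?_, ?_, ?_, ?_, hV⟩
  · rw [hQ]
    exact (hcm _ h.pCore_le_S).symm
  · rw [hV, hr, ← map_commutator]
    refine (hcm _ ?_).symm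
    rw [commutator_le]
    intro a ha b hb
    have ha' : a ∈ D.j.range := h.pCore_le_S ((h.VS_le.trans inf_le_left) ha)
    exact mul_mem (mul_mem (mul_mem ha' hb) (inv_mem ha')) (inv_mem hb)
  · intro s
    rw [← hfj, mem_centralizer_range f hf]
    rfl
  · rw [hr]; exact hloc
  · rw [hr]; exact htor
  · refine ⟨A.map f, ?_, ?_⟩
    · rw [hr]
      exact (map_maxAb f hf).mpr (ma_iff.mp hA)
    · rw [hQ, map_le_map_iff_of_injective hf]
      exact hAQ

/-- a common ambient group -/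
theorem exists_ambient {ι : Type*} [Finite ι] (Ds : ι → Dt p S) :
    ∃ (X : Type u) (_ : Group X) (_ : Finite X) (σ : S →* X) (f : ∀ i, (Ds i).G →* X),
      Function.Injective σ ∧ (∀ i, Function.Injective (f i)) ∧ (∀ i s, f i ((Ds i).j s) = σ s) ∧
      ∀ φ : S ≃* S, ∃ x : X, ∀ s, x * σ s * x⁻¹ = σ (φ s) :=
  H53.GN.ambient S (fun i => (Ds i).G) (fun i => (Ds i).j) (fun i => (Ds i).inj)

theorem Dt.n0 (D : Dt p S) {X : Type u} [Group X] {σ : S →* X} (hσ : Function.Injective σ)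
    {f : D.G →* X} (h : Amb D σ f) (hD : ¬ zst p S ≤ D.C) :
    ¬ S0 p σ.range ⊓ Zf σ.range ≤ centralizer (f.range : Set X) := by
  intro hcon
  apply hD
  intro s hs
  rw [← h.C]
  apply hcon
  rw [Zf_range σ hσ, MonoidHom.range_eq_map, ← S0_map]
  exact ⟨⟨s, hs.1, rfl⟩, ⟨s, hs.2, rfl⟩⟩

theorem zst_le_center : zst p S ≤ center S := inf_le_right

/-- `V_H ≤ Q_G` -/
theorem V_le_Q {D D' : Dt p S} {X : Type u} [Group X] [Finite X] {σ : S →* X}
    (hσ : Function.Injective σ) {f : D.G →* X} {f' : D'.G →* X} (h : Amb D σ f) (h' : Amb D' σ f')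
    (hD' : ¬ zst p S ≤ D'.C) : Vf p f'.range ≤ Qf p f.range := by
  by_contra hcon
  exact one_false (⟨h'.loc, h.loc, h'.loc.V_le_S, h.loc.V_le_S, hcon⟩ :
    Cr p f'.range σ.range f.range σ.range) (D'.n0 hσ h' hD')

theorem relQ {D : Dt p S} {X : Type u} [Group X] {σ : S →* X}
    (hσ : Function.Injective σ) {f : D.G →* X} (h : Amb D σ f) :
    (Qf p f.range).relIndex σ.range = D.Q.relIndex ⊤ := by
  rw [h.Q, MonoidHom.range_eq_map, relIndex_map_map_of_injective _ _ hσ]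

theorem delta_dat {D D' : Dt 2 S} (hZJ : ZJ S ≤ center S)
    (hZp : ∀ z ∈ center S, z ^ 2 = 1) (hD : ¬ zst 2 S ≤ D.C) (hD' : ¬ zst 2 S ≤ D'.C)
    (hq : D.Q.relIndex ⊤ = 2) (hq' : D'.Q.relIndex ⊤ = 2) :
    (D.Q ≠ D'.Q → D'.R ≤ D.C) ∧ (D.Q = D'.Q → D.R = D'.R) ∧ D.R ≤ zst 2 S ∧ D.R ≠ ⊥ := by
  have : Fact (Nat.Prime 2) := ⟨Nat.prime_two⟩
  obtain ⟨X, i1, i2, σ, f, hσ, hf, hfj, -⟩ :=
    exists_ambient (p := 2) (ι := Bool) (fun b => cond b D D')
  have hc : ¬ center S ≤ D.C := fun h0 => hD (zst_le_center.trans h0)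
  have hc' : ¬ center S ≤ D'.C := fun h0 => hD' (zst_le_center.trans h0)
  have h := D.amb hZJ hZp hc σ hσ (f true) (hf true) (hfj true)
  have h' := D'.amb hZJ hZp hc' σ hσ (f false) (hf false) (hfj false)
  have k := relQ hσ h
  have k' := relQ hσ h'
  rw [hq] at k
  rw [hq'] at k'
  obtain ⟨A, hA, hAQ⟩ := h.ex
  obtain ⟨A', hA', hAQ'⟩ := h'.ex
  refine ⟨?_, ?_, ?_, ?_⟩
  · intro hne
    have h1 : Qf 2 (f true).range ≠ Qf 2 (f false).range := by
      rw [h.Q, h'.Q]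
      intro h0
      exact hne (Subgroup.map_injective hσ h0)
    have h2 := delta h.loc h'.loc k k' (V_le_Q hσ h h' hD') h1 hA hAQ
    rw [h'.R] at h2
    intro s hs
    rw [← h.C]
    exact h2 ⟨s, hs, rfl⟩
  · intro he
    apply Subgroup.map_injective hσ
    rw [← h.R, ← h'.R, ← ZQ_eq h.loc k hA hAQ, ← ZQ_eq h'.loc k' hA' hAQ', h.Q, h'.Q, he]
  · have h1 := R_le_S0 h.loc k (D.n0 hσ h hD)
    have h2 := h.loc.quad
    rw [h.R] at h1 h2
    rw [Zf_range σ hσ] at h2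
    rw [MonoidHom.range_eq_map, ← S0_map] at h1
    rw [map_le_map_iff_of_injective hσ] at h1 h2
    exact le_inf h1 h2
  · intro h0
    obtain ⟨r, hr1, -, -, -, -, hRe⟩ := exists_r h.loc k
    rw [h.R, h0, Subgroup.map_bot] at hRe
    apply hr1
    have : r ∈ (⊥ : Subgroup X) := by rw [hRe]; exact mem_zpowers r
    exact mem_bot.mp this

end H52.PM
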