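import Cfsg.Agent.Lib.H52.PuHyper
import Cfsg.Agent.Lib.H51.PuB2f

/-!
Rank one pushing up, `b = 2`: the second noncentral chief factor.
-/

set_option autoImplicit false

open Cfsg Subgroup H28.Cj H28.RelSyl
open scoped commutatorElement MatrixGroups

namespace H52.PU

open H53.PU

variable {G : Type*} [Group G] {p : ℕ} [hp : Fact p.Prime] [Finite G] {F : Type*} [Field F] [Finite F]
  {S M : Subgroup G} {π : G →* Matrix.ProjectiveSpecialLinearGroup (Fin 2) F}

theorem one_lt_q : 1 < Nat.card F := by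
  have : Nontrivial F := inferInstance
  exact Finite.one_lt_card

theorem relIndex_of_natural {U W : Subgroup G} [W.Normal]
    (h : Cfsg.IsNaturalSL2Module F (U.map (QuotientGroup.mk' W)) (⊤ : Subgroup (G ⧸ W))) :
    W.relIndex U = Nat.card F * Nat.card F := by
  obtain ⟨-, ρ, ψ, -, -, -⟩ := h
  have h1 := Subgroup.relIndex_ker U (QuotientGroup.mk' W)
  rw [QuotientGroup.ker_mk'] at h1
  rw [h1]
  have h2 : Nat.card (U.map (QuotientGroup.mk' W)) = Nat.card (Fin 2 → F) :=
    Nat.card_congr (ψ.toEquiv)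
  rw [h2, Nat.card_fun]
  simp [sq]

/-- `F/D` is a noncentral chief factor -/
theorem chief_F (h : PSit p S M π) {V D E P₁ P₂ C T : Subgroup G} [V.Normal] [D.Normal] [E.Normal]
    (hVD : V ≤ D) (hDE : D ≤ E) (hEQ : E ≤ Cfsg.pCore p G) (hCS : ⁅C, S⁆ ≤ V)
    (hle : C.relIndex E ≤ (Cfsg.pCore p G).relIndex S)
    (hle2 : D.relIndex E ≤ (Cfsg.pCore p G).relIndex S * (Cfsg.pCore p G).relIndex S)
    (hE : E ≤ (P₂ ⊔ P₁) ⊔ D) (hP1E : P₁ ≤ E) (hP2E : P₂ ≤ E) (hP1 : ⁅P₁, S⁆ ≤ D) (hP2 : ⁅P₂, T⁆ ≤ D) (hT : IsSyl p T ⊤)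
    (hnc : ¬ ⁅E, S⁆ ≤ D) : IsChiefFactor E D ∧ ¬ ⁅E, (⊤ : Subgroup G)⁆ ≤ D := by
  have hS := isSyl_of_psit h
  have hncE : ¬ ⁅E, (⊤ : Subgroup G)⁆ ≤ D := fun h0 => hnc ((commutator_mono le_rfl le_top).trans h0)
  have hEp : IsPGroup p E := (H13.Cores.isPGroup_pCore (p := p) (G := G)).to_le hEQ
  -- there is a noncentral chief factor between `D` and `E`
  have h1 : ∃ U W : Subgroup G, IsChiefFactor U W ∧ D ≤ W ∧ U ≤ E ∧ ¬ ⁅U, (⊤ : Subgroup G)⁆ ≤ W := by
    by_contra hcon
    push Not at hcon
    have h2 : ⁅E, pResidual p G⁆ ≤ D := by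
      -- the centraliser of `E` modulo `D`
      let C : Subgroup G := (centralizer ((E.map (QuotientGroup.mk' D) : Subgroup (G ⧸ D)) :
        Set (G ⧸ D))).comap (QuotientGroup.mk' D)
      have hmem : ∀ x, x ∈ C ↔ ∀ q ∈ E, ⁅q, x⁆ ∈ D := by
        intro x
        rw [mem_comap, mem_centralizer_iff]
        constructor
        · intro h1 q hq
          have := h1 _ ⟨q, hq, rfl⟩
          rw [← QuotientGroup.eq_one_iff]
          show (QuotientGroup.mk' D) ⁅q, x⁆ = 1
          rw [map_commutatorElement, commutatorElement_eq_one_iff_mul_comm]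
          exact this
        · rintro h1 _ ⟨q, hq, rfl⟩
          have := h1 q hq
          rw [← QuotientGroup.eq_one_iff] at this
          have h2 : (QuotientGroup.mk' D) ⁅q, x⁆ = 1 := this
          rwa [map_commutatorElement, commutatorElement_eq_one_iff_mul_comm] at h2
      have h3 : pResidual p G ≤ C := by
        rw [pResidual, closure_le]
        intro x hx
        rw [SetLike.mem_coe, hmem]
        refine H39.Chief.commutator_mem_of_chief (p := p) inferInstance inferInstance hDE hEp hx ?_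
        intro U W hUW hDW hUE u hu
        exact hcon U W hUW hDW hUE (commutator_mem_commutator hu (mem_top x))
      rw [commutator_le]
      intro q hq x hx
      exact (hmem x).mp (h3 hx) q hq
    have hST : S ⊔ pResidual p G = ⊤ := H39.SylowAux.sup_pResidual_eq_top S (by
      have := hS.not_dvd
      rwa [relIndex_top_right] at this)
    have hTT : T ⊔ pResidual p G = ⊤ := H39.SylowAux.sup_pResidual_eq_top T (by
      have := hT.not_dvd
      rwa [relIndex_top_right] at this)
    have key : ∀ P T' : Subgroup G, P ≤ E → T' ⊔ pResidual p G = ⊤ → ⁅P, T'⁆ ≤ D →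
        ⁅P, (⊤ : Subgroup G)⁆ ≤ D := by
      intro P T' h5 h3 h4
      rw [← h3]
      refine commutator_sup_le' h4 ?_
      exact (commutator_mono h5 le_rfl).trans h2
    apply hncE
    refine (commutator_mono hE le_rfl).trans ?_
    refine sup_commutator_le' (sup_commutator_le' ?_ ?_) (commutator_le_left D _)
    · exact key P₂ T hP2E hTT hP2
    · exact key P₁ S hP1E hST hP1
  obtain ⟨U, W, hUW, hDW, hUE, hncU⟩ := h1
  have hWn : W.Normal := hUW.2.2.1
  obtain ⟨ρ, -, -, -, hnat⟩ := h.chief_natural (C := C ⊓ U) (hUE.trans hEQ) hUW hncU inf_le_right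
    (((commutator_mono inf_le_left le_rfl).trans hCS).trans (hVD.trans hDW)) (by
      rw [inf_relIndex_right]
      exact (relIndex_le_of_le_right hUE index_ne_zero_of_finite).trans hle)
  have h3 := relIndex_of_natural hnat
  have h4 := h.relIndex_S
  rw [h4] at hle2
  have h5 : D.relIndex W * W.relIndex U = D.relIndex U := relIndex_mul_relIndex D W U hDW hUW.1.le
  have h6 : D.relIndex U * U.relIndex E = D.relIndex E := relIndex_mul_relIndex D U E (hDW.trans hUW.1.le) hUE
  rw [← h6, ← h5, h3] at hle2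
  have hq := one_lt_q (F := F)
  have hqq : 0 < Nat.card F * Nat.card F := by positivity
  have a0 : D.relIndex W ≠ 0 := index_ne_zero_of_finite
  have b0 : U.relIndex E ≠ 0 := index_ne_zero_of_finite
  have e1 : D.relIndex W = 1 ∧ U.relIndex E = 1 := by
    have h7 : D.relIndex W * U.relIndex E ≤ 1 := by
      by_contra hcon
      push Not at hcon
      have : Nat.card F * Nat.card F * 2 ≤ Nat.card F * Nat.card F * (D.relIndex W * U.relIndex E) :=
        Nat.mul_le_mul_left _ hcon
      have e : D.relIndex W * (Nat.card F * Nat.card F) * U.relIndex E =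
        Nat.card F * Nat.card F * (D.relIndex W * U.relIndex E) := by ring
      rw [e] at hle2
      omega
    have h8 : D.relIndex W * U.relIndex E = 1 := by
      have := Nat.mul_pos (Nat.pos_of_ne_zero a0) (Nat.pos_of_ne_zero b0)
      omega
    exact ⟨Nat.eq_one_of_mul_eq_one_right h8, Nat.eq_one_of_mul_eq_one_left h8⟩
  have e2 : W = D := le_antisymm (relIndex_eq_one.mp e1.1) hDW
  have e3 : U = E := le_antisymm hUE (relIndex_eq_one.mp e1.2)
  subst e2 e3
  exact ⟨hUW, hncE⟩

end H52.PU

namespace H52.PU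

open H53.PU

variable {G X : Type*} [Group G] [Group X] {p : ℕ} [hp : Fact p.Prime] [Finite G] [Finite X]
  {F : Type*} [Field F] [Finite F] {S M : Subgroup G}
  {π : G →* Matrix.ProjectiveSpecialLinearGroup (Fin 2) F}

omit [Finite G] [Finite X] in
theorem normal_comap_of {i : G →* X} {A : Subgroup X} (h : i.range ≤ normalizer (A : Set X)) :
    (A.comap i).Normal := by
  refine ⟨fun x hx y => ?_⟩
  rw [mem_comap] at hx ⊢
  rw [map_mul, map_mul, map_inv]
  exact conj_mem_of_le_normalizer h ⟨y, rfl⟩ hx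

theorem comm_comap_le {i : G →* X} (hi : Function.Injective i) {A B C : Subgroup X} (hA : A ≤ i.range)
    (hB : B ≤ i.range) (h : ⁅A, B⁆ ≤ C) : ⁅A.comap i, B.comap i⁆ ≤ C.comap i := by
  rw [← map_le_iff_le_comap, map_commutator, comap_map_of_le hA, comap_map_of_le hB]
  exact h

/-- the case `b = 2`, inside `G` -/
theorem exists_F (h : PSit p S M π) (i : G →* X) (hi : Function.Injective i)
    {A' B B' T R : Subgroup X} (hc : H51.PuB2.Conf p A' i.range B B' T (S.map i) R) :
    ∃ E D : Subgroup G, E.Normal ∧ D.Normal ∧ PSit.VS S ≤ D ∧ D ≤ E ∧ E ≤ Cfsg.pCore p G ∧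
      IsChiefFactor E D ∧ ¬ ⁅E, (⊤ : Subgroup G)⁆ ≤ D ∧ ⁅D, (⊤ : Subgroup G)⁆ ≤ PSit.VS S ∧
      ∃ n, Cfsg.iterCommutator (Cfsg.pCore p G) ⊤ n ≤ E := by
  have hS := isSyl_of_psit h
  have hVm : Vf p i.range = (PSit.VS S).map i := Vf_range i hi hS
  have hQm : Qf p i.range = (Cfsg.pCore p G).map i := Qf_range i hi
  have hQr : Qf p i.range ≤ i.range := Qf_le _
  have hFQ : H51.PuB2.Ff p i.range ≤ Qf p i.range := H51.PuB2.Ff_le _
  have hFr := hFQ.trans hQr
  have hDF : H51.PuB2.Df p A' i.range B ≤ H51.PuB2.Ff p i.range := fun x hx => (H51.PuB2.mem_Df.mp hx).1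
  have hDr := hDF.trans hFr
  have hSr : S.map i ≤ i.range := map_le_range i S
  have hVSc : (Vf p i.range).comap i = PSit.VS S := by
    rw [hVm, comap_map_eq_self_of_injective hi]
  have hQc : (Qf p i.range).comap i = Cfsg.pCore p G := by
    rw [hQm, comap_map_eq_self_of_injective hi]
  have hSc : (S.map i).comap i = S := comap_map_eq_self_of_injective hi S
  have htop : i.range.comap i = ⊤ := by
    rw [eq_top_iff]; intro x _; exact ⟨x, rfl⟩
  set E := (H51.PuB2.Ff p i.range).comap i with hE
  set D := (H51.PuB2.Df p A' i.range B).comap i with hD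
  have hEn : E.Normal := normal_comap_of (H51.PuB2.norm_Ff _)
  have hDn : D.Normal := normal_comap_of hc.norm_D
  have hVD : PSit.VS S ≤ D := by
    rw [← hVSc]; exact comap_mono hc.VA_D
  have hDE : D ≤ E := comap_mono hDF
  have hEQ : E ≤ Cfsg.pCore p G := by rw [← hQc]; exact comap_mono hFQ
  have hDA : ⁅D, (⊤ : Subgroup G)⁆ ≤ PSit.VS S := by
    rw [← hVSc, ← htop]
    apply comm_comap_le hi hDr le_rfl
    rw [commutator_le]
    intro e he a ha
    exact hc.D_A he ha
  have hCr : H51.PuB2.Cf p i.range (S.map i) hc.sAS.S_norm_V hc.F_S ≤ H51.PuB2.Ff p i.range :=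
    fun x hx => hx.1
  have hBr : Vf p B ≤ i.range := (hc.VB_F : Vf p B ≤ _) |>.trans hFr
  have hA'r : Vf p A' ≤ i.range := (hc.VA'_F : Vf p A' ≤ _) |>.trans hFr
  have hTr : T ≤ i.range := hc.sAT.S_le
  have hchief := chief_F h (V := PSit.VS S) (D := D) (E := E) (P₁ := (Vf p B).comap i)
    (P₂ := (Vf p A').comap i)
    (C := (H51.PuB2.Cf p i.range (S.map i) hc.sAS.S_norm_V hc.F_S).comap i) (T := T.comap i)
    hVD hDE hEQ
    (by
      rw [← hVSc]
      have := comm_comap_le (B := S.map i) (C := Vf p i.range) hi (hCr.trans hFr) hSr (by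
        rw [commutator_le]
        intro f hf q hq
        exact hf.2 q hq)
      rwa [hSc] at this)
    (by
      have := hc.Cf_index
      rw [← comap_map_of_le (hCr.trans hFr), ← comap_map_of_le hFr, hQm,
        relIndex_map_map_of_injective _ _ hi, relIndex_map_map_of_injective _ _ hi] at this
      exact this)
    (by
      have := hc.Df_index
      rw [← comap_map_of_le hDr, ← comap_map_of_le hFr, hQm,
        relIndex_map_map_of_injective _ _ hi, relIndex_map_map_of_injective _ _ hi] at this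
      exact this)
    (by
      intro x hx
      obtain ⟨a, ha, v, hv, e, he, hx2⟩ := hc.dec_F hx
      obtain ⟨a, rfl⟩ := hA'r ha
      obtain ⟨v, rfl⟩ := hBr hv
      obtain ⟨e, rfl⟩ := hDr he
      rw [← map_mul, ← map_mul] at hx2
      rw [hi hx2]
      exact mul_mem (mem_sup_left (mul_mem (mem_sup_left ha) (mem_sup_right hv))) (mem_sup_right he))
    (comap_mono hc.VB_F) (comap_mono hc.VA'_F)
    (by
      have := comm_comap_le (B := S.map i) (C := H51.PuB2.Df p A' i.range B) hi hBr hSr (by
        rw [commutator_le]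
        intro x hx s hs
        apply hc.VA_D
        apply hc.CQV (hc.c_1 hx hs)
        have h2 := conj_mem_of_le_normalizer hc.sAS.S_norm_Q hs (inv_mem (hc.a2' hx))
        have e : ⁅x, s⁆ = x * (s * x⁻¹ * s⁻¹) := by rw [commutatorElement_def]; group
        rw [e]
        exact mul_mem (hc.a2' hx) h2)
      rwa [hSc] at this)
    (by
      refine comm_comap_le (C := H51.PuB2.Df p A' i.range B) hi hA'r hTr ?_
      rw [commutator_le]
      intro x hx s hs
      apply hc.VA_D
      apply hc.CQV (hc.c_m1 hx hs)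
      have h2 := conj_mem_of_le_normalizer hc.sAT.S_norm_Q hs (inv_mem (hc.a1 hx))
      have e : ⁅x, s⁆ = x * (s * x⁻¹ * s⁻¹) := by rw [commutatorElement_def]; group
      rw [e]
      exact mul_mem (hc.a1 hx) h2)
    (by
      have h1 := hc.sAT.syl
      refine ⟨le_top, ?_, ?_⟩
      · have h2 : IsPGroup p ((T.comap i).map i) := by rw [comap_map_of_le hTr]; exact h1.isPGroup
        exact h2.of_equiv ((T.comap i).equivMapOfInjective i hi).symm
      · have h2 := h1.not_dvd
        rw [← comap_map_of_le hTr, MonoidHom.range_eq_map, relIndex_map_map_of_injective _ _ hi] at h2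
        exact h2)
    (by
      intro h0
      apply hc.F_not_le
      have h1 := map_mono (f := i) h0
      rw [map_commutator, comap_map_of_le hFr, comap_map_of_le hDr] at h1
      exact h1)
  refine ⟨E, D, hEn, hDn, hVD, hDE, hEQ, hchief.1, hchief.2, hDA, ?_⟩
  have hB'r : Vf p B' ≤ i.range := hc.c2.hβ.trans hSr
  refine exists_iter_of h (A := (Vf p B').comap i) ?_ ?_
  · apply Subgroup.map_injective hi
    rw [Subgroup.map_sup, comap_map_of_le hB'r, ← hQm]
    exact hc.c2.sup_eq'
  · rw [← hQc]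
    refine comm_comap_le hi hQr hB'r ?_
    rw [commutator_le]
    intro f hf q hq
    exact hc.QV_F hf hq

end H52.PU
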