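import Cfsg.Agent.Lib.H52.PuMain
import Cfsg.Agent.Lib.H39.SylowAux

/-!
Rank one pushing up: hypercentral sections and the chief factor in `V`.
-/

set_option autoImplicit false

open Cfsg Subgroup H28.Cj H28.RelSyl
open scoped commutatorElement MatrixGroups

namespace H52.PU

open H53.PU

variable {G : Type*} [Group G] {p : ℕ}

instance iter_self_normal {Q : Subgroup G} [Q.Normal] (n : ℕ) : (Cfsg.iterCommutator Q Q n).Normal := by
  induction n with
  | zero => exact (inferInstance : Q.Normal)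
  | succ n ih => exact Subgroup.commutator_normal _ _

theorem iter_le_sup {Q V N : Subgroup G} [Q.Normal] [V.Normal] (hN : N ⊔ Q = ⊤) (h : ⁅Q, N⁆ ≤ V) (n : ℕ) :
    Cfsg.iterCommutator Q ⊤ n ≤ V ⊔ Cfsg.iterCommutator Q Q n := by
  induction n with
  | zero => exact le_sup_right
  | succ n ih =>
    show ⁅Cfsg.iterCommutator Q ⊤ n, (⊤ : Subgroup G)⁆ ≤ V ⊔ ⁅Cfsg.iterCommutator Q Q n, Q⁆
    have hl : Cfsg.iterCommutator Q Q n ≤ Q := by
      clear ih
      induction n with
      | zero => exact le_rfl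
      | succ n ih => exact (commutator_mono ih le_rfl).trans (commutator_le_self Q)
    refine (commutator_mono ih le_rfl).trans ?_
    refine sup_commutator_le' ?_ ?_
    · exact (commutator_le_left V ⊤).trans le_sup_left
    · rw [← hN]
      refine commutator_sup_le' ?_ ?_
      · exact ((commutator_mono hl le_rfl).trans h).trans le_sup_left
      · exact le_sup_right

theorem exists_iter_le {Q V N : Subgroup G} [Q.Normal] [V.Normal] (hN : N ⊔ Q = ⊤) (h : ⁅Q, N⁆ ≤ V)
    (hnil : Group.IsNilpotent Q) : ∃ n, Cfsg.iterCommutator Q ⊤ n ≤ V := by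
  obtain ⟨n, hn⟩ := Subgroup.nilpotent_iff_lowerCentralSeries.1 hnil
  refine ⟨n, (iter_le_sup hN h n).trans (sup_le le_rfl ?_)⟩
  have h1 : Cfsg.iterCommutator Q Q n = (Subgroup.lowerCentralSeries (⊤ : Subgroup Q) n).map Q.subtype := by
    clear hn
    induction n with
    | zero =>
      show Q = (⊤ : Subgroup Q).map Q.subtype
      rw [← MonoidHom.range_eq_map, range_subtype]
    | succ n ih =>
      show ⁅Cfsg.iterCommutator Q Q n, Q⁆ = (⁅Subgroup.lowerCentralSeries (⊤ : Subgroup Q) n, (⊤ : Subgroup Q)⁆).map Q.subtype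
      rw [Subgroup.map_commutator, ← ih, ← MonoidHom.range_eq_map, range_subtype]
  rw [h1, hn, Subgroup.map_bot]
  exact bot_le

/-- if some `A ≤ S` covers `S/Q` and `[Q, A] ≤ V`, then `Q/V` is hypercentral -/
theorem exists_iter_of [hp : Fact p.Prime] [Finite G] {F : Type*} [Field F] [Finite F] {S M : Subgroup G}
    {π : G →* Matrix.ProjectiveSpecialLinearGroup (Fin 2) F} (h : PSit p S M π)
    {V A : Subgroup G} [V.Normal] (hA : A ⊔ Cfsg.pCore p G = S)
    (hQA : ⁅Cfsg.pCore p G, A⁆ ≤ V) : ∃ n, Cfsg.iterCommutator (Cfsg.pCore p G) ⊤ n ≤ V := by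
  set Q := Cfsg.pCore p G with hQ
  refine exists_iter_le (N := normalClosure (A : Set G)) (Q := Q) ?_ ?_
    (H13.Cores.isPGroup_pCore (p := p) (G := G)).isNilpotent
  · apply h.eq_top_of_le inferInstance
    rw [← hA]
    have h1 : A ≤ normalClosure (A : Set G) := subset_normalClosure
    exact sup_le_sup_right h1 Q
  · -- the centraliser of `Q` modulo `V` is normal
    let C : Subgroup G := (centralizer ((Q.map (QuotientGroup.mk' V) : Subgroup (G ⧸ V)) : Set (G ⧸ V))).comap (QuotientGroup.mk' V)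
    have hmem : ∀ x, x ∈ C ↔ ∀ q ∈ Q, ⁅q, x⁆ ∈ V := by
      intro x
      rw [mem_comap, mem_centralizer_iff]
      constructor
      · intro h1 q hq
        have := h1 _ ⟨q, hq, rfl⟩
        rw [← QuotientGroup.eq_one_iff]
        show (QuotientGroup.mk' V) ⁅q, x⁆ = 1
        rw [map_commutatorElement, commutatorElement_eq_one_iff_mul_comm]
        exact this
      · rintro h1 _ ⟨q, hq, rfl⟩
        have := h1 q hq
        rw [← QuotientGroup.eq_one_iff] at this
        have h2 : (QuotientGroup.mk' V) ⁅q, x⁆ = 1 := this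
        rwa [map_commutatorElement, commutatorElement_eq_one_iff_mul_comm] at h2
    have hQn : (Q.map (QuotientGroup.mk' V)).Normal :=
      (inferInstance : Q.Normal).map _ (QuotientGroup.mk'_surjective V)
    have hCn : C.Normal := Subgroup.Normal.comap inferInstance _
    have h1 : normalClosure (A : Set G) ≤ C := by
      apply normalClosure_le_normal
      intro a ha
      rw [SetLike.mem_coe, hmem]
      exact fun q hq => hQA (commutator_mem_commutator hq ha)
    rw [commutator_le]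
    intro q hq x hx
    exact (hmem x).mp (h1 hx) q hq

section transitive

variable {F : Type*} [Field F]

theorem exists_mulVec_e0 {v : Fin 2 → F} (hv : v ≠ 0) : ∃ g : SL(2, F), g.1.mulVec v = ![1, 0] := by
  by_cases h0 : v 0 = 0
  · have h1 : v 1 ≠ 0 := by
      intro h1
      apply hv
      ext i; fin_cases i
      · exact h0
      · exact h1
    refine ⟨⟨!![0, (v 1)⁻¹; -(v 1), 0], ?_⟩, ?_⟩
    · rw [Matrix.det_fin_two_of]; field_simp; ring
    · ext i; fin_cases i
      · simp [Matrix.mulVec, dotProduct, Fin.sum_univ_two, h1]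
      · simp [Matrix.mulVec, dotProduct, Fin.sum_univ_two, h0]
  · refine ⟨⟨!![(v 0)⁻¹, 0; -(v 1), v 0], ?_⟩, ?_⟩
    · rw [Matrix.det_fin_two_of]; field_simp; ring
    · ext i; fin_cases i
      · simp [Matrix.mulVec, dotProduct, Fin.sum_univ_two, h0]
      · simp [Matrix.mulVec, dotProduct, Fin.sum_univ_two]; ring

theorem exists_mulVec {v w : Fin 2 → F} (hv : v ≠ 0) (hw : w ≠ 0) : ∃ g : SL(2, F), g.1.mulVec v = w := by
  obtain ⟨a, ha⟩ := exists_mulVec_e0 hv
  obtain ⟨b, hb⟩ := exists_mulVec_e0 hw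
  refine ⟨b⁻¹ * a, ?_⟩
  have h1 : (b⁻¹ * a).1.mulVec v = (b⁻¹).1.mulVec (a.1.mulVec v) := by
    rw [Matrix.mulVec_mulVec]; rfl
  rw [h1, ha, ← hb, Matrix.mulVec_mulVec]
  have h2 : (b⁻¹).1 * b.1 = 1 := by
    exact congrArg Subtype.val (inv_mul_cancel b)
  rw [h2, Matrix.one_mulVec]

end transitive

variable [hp : Fact p.Prime] [Finite G] {F : Type*} [Field F] [Finite F] {S M : Subgroup G}
  {π : G →* Matrix.ProjectiveSpecialLinearGroup (Fin 2) F} {ρ : G →* SL(2, F)}
  {ψ : PSit.VS S → (Fin 2 → F)}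

/-- `V / (V ∩ Z(G))` is a noncentral chief factor -/
theorem chief_V (hff : FFG p F S (Cfsg.pCore p G) ρ ψ) :
    IsChiefFactor (PSit.VS S) (PSit.VS S ⊓ center G) ∧ ¬ ⁅PSit.VS S, (⊤ : Subgroup G)⁆ ≤ PSit.VS S ⊓ center G ∧
      ⁅PSit.VS S ⊓ center G, (⊤ : Subgroup G)⁆ = ⊥ := by
  have hinv : ∀ v : PSit.VS S, ψ v⁻¹ = -ψ v := by
    intro v
    have h3 := hff.pmul v v⁻¹
    rw [mul_inv_cancel, hff.pone] at h3
    exact (neg_eq_of_add_eq_zero_right h3.symm).symm
  have hVn : (PSit.VS S).Normal := inferInstance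
  have hnc : ¬ ⁅PSit.VS S, (⊤ : Subgroup G)⁆ ≤ PSit.VS S ⊓ center G := by
    intro h0
    obtain ⟨v, hv⟩ := hff.psurj ![0, 1]
    obtain ⟨g, hg⟩ := hff.surj (H85.SL2.up 1)
    have h1 : ⁅g, (v : G)⁆ ∈ PSit.VS S ⊓ center G := by
      apply h0
      rw [commutator_comm]
      exact commutator_mem_commutator (mem_top g) v.2
    have h2 := hff.pact g v ⟨g * v * g⁻¹, hVn.conj_mem v v.2 g⟩ rfl
    have h3 := (hff.pker (⟨g * v * g⁻¹, hVn.conj_mem v v.2 g⟩ * v⁻¹)).2 (by
      have := h1.2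
      rw [commutatorElement_def] at this
      exact this)
    rw [hff.pmul, hinv, h2, hg, hv] at h3
    have h4 := congrFun h3 0
    simp [H85.SL2.up, Matrix.mulVec, dotProduct, Fin.sum_univ_two] at h4
  refine ⟨⟨?_, inferInstance, inferInstance, ?_⟩, hnc, ?_⟩
  · refine lt_of_le_of_ne inf_le_left ?_
    intro h0
    apply hnc
    conv_rhs => rw [h0]
    exact commutator_le_left _ _
  · intro N hN hWN hNV
    by_cases hNW : N ≤ PSit.VS S ⊓ center G
    · exact Or.inl (le_antisymm hNW hWN)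
    · right
      refine le_antisymm hNV ?_
      obtain ⟨x, hx, hxW⟩ := Set.not_subset.mp hNW
      have hxV : x ∈ PSit.VS S := hNV hx
      have hx0 : ψ ⟨x, hxV⟩ ≠ 0 := by
        intro h0
        exact hxW ⟨hxV, (hff.pker _).1 h0⟩
      intro y hy
      by_cases hy0 : ψ ⟨y, hy⟩ = 0
      · exact hWN ⟨hy, (hff.pker _).1 hy0⟩
      · obtain ⟨a, ha⟩ := exists_mulVec hx0 hy0
        obtain ⟨g, rfl⟩ := hff.surj a
        have h2 := hff.pact g ⟨x, hxV⟩ ⟨g * x * g⁻¹, hVn.conj_mem x hxV g⟩ rfl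
        have h3 := (hff.pker (⟨y, hy⟩ * (⟨g * x * g⁻¹, hVn.conj_mem x hxV g⟩)⁻¹)).1 (by
          rw [hff.pmul, hinv, h2, ha, add_neg_cancel])
        have h4 : y * (g * x * g⁻¹)⁻¹ ∈ N :=
          hWN (Subgroup.mem_inf.mpr ⟨mul_mem hy (inv_mem (hVn.conj_mem x hxV g)), h3⟩)
        have h5 : y = (y * (g * x * g⁻¹)⁻¹) * (g * x * g⁻¹) := by group
        rw [h5]
        exact mul_mem h4 (hN.conj_mem x hx g)
  · rw [eq_bot_iff, commutator_le]
    intro x hx g _
    rw [mem_bot, commutatorElement_eq_one_iff_mul_comm]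
    exact ((mem_center_iff.mp hx.2) g).symm

end H52.PU
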