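import Cfsg.Agent.Lib.H52.PuF
import Cfsg.Agent.Lib.H39.PuOne
import Cfsg.Agent.Lib.H39.PuTor

/-!
Rank one pushing up: the structure of the Sylow subgroup.
-/

set_option autoImplicit false

open Cfsg Subgroup H28.Cj H28.RelSyl
open scoped commutatorElement MatrixGroups

namespace H52.PU

open H53.PU

variable {G X : Type*} [Group G] [Group X] {p : ℕ} [hp : Fact p.Prime] [Finite G] [Finite X]
  {F : Type*} [Field F] [Finite F] {S M : Subgroup G}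
  {π : G →* Matrix.ProjectiveSpecialLinearGroup (Fin 2) F}

/-- the case `b = 1` or the case `b = 2` -/
theorem str (h : PSit p S M π) (i : G →* X) (hi : Function.Injective i)
    (push : ∀ T : Subgroup X, T ≤ S.map i → i.range ≤ normalizer (T : Set X) →
      normalizer (S.map i : Set X) ≤ normalizer (T : Set X) → T = ⊥) :
    (∃ (ρ : G →* SL(2, F)) (ψ : PSit.VS S → (Fin 2 → F)), FFG p F S (Cfsg.pCore p G) ρ ψ ∧
      (∀ g, pj F (ρ g) = π g) ∧ (∀ v : PSit.VS S, (v : G) ∈ PSit.ZS S ↔ ψ v 1 = 0)) ∧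
    ((⁅⁅S, S⁆, S⁆ = ⊥ ∧ ⁅S, S⁆ ≠ ⊥ ∧ (p ≠ 2 → ∀ s ∈ S, s ^ p = 1) ∧ (p = 2 → ∀ s ∈ S, s ^ 4 = 1) ∧
      (∃ A : Subgroup G, A ⊔ Cfsg.pCore p G = S ∧ ⁅S, A⁆ ≤ PSit.VS S)) ∨
     (p = 3 ∧ ⁅⁅⁅S, S⁆, S⁆, S⁆ = ⊥ ∧ ⁅⁅S, S⁆, S⁆ ≠ ⊥ ∧ (∀ s ∈ S, s ^ 9 = 1) ∧ (∃ s ∈ S, s ^ 3 ≠ 1) ∧
      ∃ E D : Subgroup G, E.Normal ∧ D.Normal ∧ PSit.VS S ≤ D ∧ D ≤ E ∧ E ≤ Cfsg.pCore p G ∧
      IsChiefFactor E D ∧ ¬ ⁅E, (⊤ : Subgroup G)⁆ ≤ D ∧ ⁅D, (⊤ : Subgroup G)⁆ ≤ PSit.VS S ∧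
      ∃ n, Cfsg.iterCommutator (Cfsg.pCore p G) ⊤ n ≤ E)) := by
  obtain ⟨hs, hpow, ρ, ψ, hff, hρ, hψ⟩ := setup_of_psit h i hi push
  refine ⟨⟨ρ, ψ, hff, hρ, hψ⟩, ?_⟩
  have hS := isSyl_of_psit h
  have hVm : Vf p i.range = (PSit.VS S).map i := Vf_range i hi hS
  have hQm : Qf p i.range = (Cfsg.pCore p G).map i := Qf_range i hi
  have hSr : S.map i ≤ i.range := map_le_range i S
  have hSc : (S.map i).comap i = S := comap_map_eq_self_of_injective hi S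
  have hVSc : (Vf p i.range).comap i = PSit.VS S := by
    rw [hVm, comap_map_eq_self_of_injective hi]
  have g2 : ⁅S.map i, S.map i⁆ = (⁅S, S⁆).map i := (map_commutator S S i).symm
  have g3 : ⁅⁅S.map i, S.map i⁆, S.map i⁆ = (⁅⁅S, S⁆, S⁆).map i := by
    rw [map_commutator, map_commutator]
  have g4 : ⁅⁅⁅S.map i, S.map i⁆, S.map i⁆, S.map i⁆ = (⁅⁅⁅S, S⁆, S⁆, S⁆).map i := by
    rw [map_commutator, map_commutator, map_commutator]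
  have pw : ∀ n : ℕ, (∀ s ∈ S.map i, s ^ n = 1) → ∀ s ∈ S, s ^ n = 1 := by
    intro n hn s hs
    apply hi
    rw [map_pow, map_one]
    exact hn _ ⟨s, hs, rfl⟩
  rcases alt hs with ⟨n, hn, hV⟩ | ⟨hM, hP⟩
  · left
    obtain ⟨h1, h2, h3, h4⟩ := H39.PuOne.b_one hs hn hV
    have c := cr_of_one hs hn hV
    refine ⟨?_, ?_, fun hp2 => pw p (h3 hp2), fun hp2 => pw 4 (h4 hp2),
      (Vf p (cj n i.range)).comap i, ?_, ?_⟩
    · rwa [g3, map_eq_bot_iff_of_injective _ hi] at h1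
    · rwa [g2, map_eq_bot_iff_of_injective _ hi] at h2
    · apply Subgroup.map_injective hi
      rw [Subgroup.map_sup, comap_map_of_le (c.hβ.trans hSr), ← hQm]
      exact c.sup_eq'
    · have := comm_comap_le (A := S.map i) (B := Vf p (cj n i.range)) (C := Vf p i.range) hi hSr
        (c.hβ.trans hSr) (by
          rw [commutator_comm, c.comm_eq']
          exact c.comm_le_V)
      rwa [hSc, hVSc] at this
  · right
    obtain ⟨h1, h2, h3, h4, ⟨s, hs1, hs2⟩, -⟩ := H51.PuB2.main hs hM hP (fun hp5 =>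
      H39.PuTor.torus_of h hp5 hff hρ hψ hS i hi)
    obtain ⟨A', B, B', T, R, hc⟩ := H51.PuB2.exists_conf hs hM hP
    refine ⟨h1, ?_, ?_, pw 9 h4, ?_, exists_F h i hi hc⟩
    · rwa [g4, map_eq_bot_iff_of_injective _ hi] at h2
    · rwa [g3, Ne, map_eq_bot_iff_of_injective _ hi] at h3
    · obtain ⟨s, hs3, rfl⟩ := hs1
      refine ⟨s, hs3, fun h0 => hs2 ?_⟩
      rw [← map_pow, h0, map_one]

end H52.PU
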