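import Cfsg.Agent.Lib.H51.BauExB

/-!
Semilinear maps of the natural module and offenders.
-/

set_option autoImplicit false
set_option linter.unusedSectionVars false
set_option linter.unusedVariables false

namespace H52.QD

open Subgroup Cfsg H51.Bau
open scoped MatrixGroups

section alg

variable {F : Type} [Field F] [Fintype F]

/-- compatibility of an additive map with the special linear group -/
structure Cmp (β : (Fin 2 → F) → (Fin 2 → F)) : Prop where
  add : ∀ v w, β (v + w) = β v + β w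
  sur : Function.Surjective β
  fwd : ∀ g ∈ commutator SL(2, F), ∃ g' ∈ commutator SL(2, F), ∀ v, β ((g : Matrix (Fin 2) (Fin 2) F).mulVec v) =
    (g' : Matrix (Fin 2) (Fin 2) F).mulVec (β v)
  bwd : ∀ g' ∈ commutator SL(2, F), ∃ g ∈ commutator SL(2, F), ∀ v, β ((g : Matrix (Fin 2) (Fin 2) F).mulVec v) =
    (g' : Matrix (Fin 2) (Fin 2) F).mulVec (β v)

theorem Cmp.zero {β : (Fin 2 → F) → (Fin 2 → F)} (h : Cmp β) : β 0 = 0 := by
  have := h.add 0 0
  rw [add_zero] at this
  exact left_eq_add.1 this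

theorem Cmp.neg {β : (Fin 2 → F) → (Fin 2 → F)} (h : Cmp β) (v : Fin 2 → F) : β (-v) = - β v := by
  have := h.add v (-v)
  rw [add_neg_cancel, h.zero] at this
  exact (neg_eq_of_add_eq_zero_right this.symm).symm

theorem Cmp.sub {β : (Fin 2 → F) → (Fin 2 → F)} (h : Cmp β) (v w : Fin 2 → F) : β (v - w) = β v - β w := by
  rw [sub_eq_add_neg, h.add, h.neg, ← sub_eq_add_neg]

theorem mat_scalar (M : Matrix (Fin 2) (Fin 2) F) (h : ∀ g : SL(2, F), M * (g : Matrix (Fin 2) (Fin 2) F) = g * M) :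
    ∃ m : F, ∀ v, M.mulVec v = m • v := by
  have h1 := h (H85.SL2.up 1)
  have h2 := h (H85.SL2.lo 1)
  rw [H85.SL2.up_coe] at h1
  rw [H85.SL2.lo_coe] at h2
  have e1 := fun i j => congrFun (congrFun h1 i) j
  have e2 := fun i j => congrFun (congrFun h2 i) j
  simp only [Matrix.mul_apply, Fin.sum_univ_two] at e1 e2
  have a1 := e1 0 0
  have a2 := e1 0 1
  have a3 := e2 0 0
  have a4 := e2 1 0
  simp at a1 a2 a3 a4
  have b1 : M 1 0 = 0 := a1
  have b2 : M 0 1 = 0 := a3
  have b3 : M 1 1 = M 0 0 := by linear_combination -a2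
  refine ⟨M 0 0, fun v => ?_⟩
  ext i
  fin_cases i
  · simp [Matrix.mulVec, dotProduct, Fin.sum_univ_two, b2]
  · simp [Matrix.mulVec, dotProduct, Fin.sum_univ_two, b1, b3]

theorem up_mv (t : F) (v : Fin 2 → F) :
    ((H85.SL2.up t : SL(2, F)) : Matrix (Fin 2) (Fin 2) F).mulVec v = ![v 0 + t * v 1, v 1] := by
  rw [H85.SL2.up_coe]
  ext i
  fin_cases i <;> simp [Matrix.mulVec, dotProduct, Fin.sum_univ_two]

theorem lo_mv (t : F) (v : Fin 2 → F) :
    ((H85.SL2.lo t : SL(2, F)) : Matrix (Fin 2) (Fin 2) F).mulVec v = ![v 0, t * v 0 + v 1] := by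
  rw [H85.SL2.lo_coe]
  ext i
  fin_cases i <;> simp [Matrix.mulVec, dotProduct, Fin.sum_univ_two]

theorem smul_eq (t : F) (v : Fin 2 → F) : t • v =
    (((H85.SL2.up t : SL(2, F)) : Matrix (Fin 2) (Fin 2) F).mulVec (((H85.SL2.lo 1 : SL(2, F)) : Matrix (Fin 2) (Fin 2) F).mulVec v)
      - ((H85.SL2.up t : SL(2, F)) : Matrix (Fin 2) (Fin 2) F).mulVec v
      - ((H85.SL2.lo 1 : SL(2, F)) : Matrix (Fin 2) (Fin 2) F).mulVec v + v) +
    (((H85.SL2.lo 1 : SL(2, F)) : Matrix (Fin 2) (Fin 2) F).mulVec (((H85.SL2.up t : SL(2, F)) : Matrix (Fin 2) (Fin 2) F).mulVec v)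
      - ((H85.SL2.up t : SL(2, F)) : Matrix (Fin 2) (Fin 2) F).mulVec v
      - ((H85.SL2.lo 1 : SL(2, F)) : Matrix (Fin 2) (Fin 2) F).mulVec v + v) := by
  rw [up_mv, lo_mv, up_mv, lo_mv]
  ext i
  fin_cases i
  · simp [Matrix.vecHead, Matrix.vecTail]
    ring
  · simp [Matrix.vecHead, Matrix.vecTail]

theorem semi (hF : ∃ n, Fintype.card F = 3 ^ n) {β : (Fin 2 → F) → (Fin 2 → F)} (h : Cmp β) (t : F) :
    ∃ s : F, ∀ v, β (t • v) = s • β v := by
  rcases card_or hF with h3 | h5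
  · rcases f3_cases h3 t with rfl | rfl | rfl
    · exact ⟨0, fun v => by rw [zero_smul, zero_smul, h.zero]⟩
    · exact ⟨1, fun v => by rw [one_smul, one_smul]⟩
    · exact ⟨-1, fun v => by rw [neg_one_smul, neg_one_smul, h.neg]⟩
  · have htop := comm_top h5
    have hm : ∀ g : SL(2, F), g ∈ commutator SL(2, F) := fun g => by rw [htop]; exact Subgroup.mem_top g
    obtain ⟨X, -, hX⟩ := h.fwd (H85.SL2.up t) (hm _)
    obtain ⟨Y, -, hY⟩ := h.fwd (H85.SL2.lo 1) (hm _)
    set M : Matrix (Fin 2) (Fin 2) F := ((X : Matrix (Fin 2) (Fin 2) F) * Y - X - Y + 1) + ((Y : Matrix (Fin 2) (Fin 2) F) * X - X - Y + 1) with hM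
    have hMv : ∀ v, β (t • v) = M.mulVec (β v) := by
      intro v
      rw [smul_eq t v, h.add, h.add, h.add, h.sub, h.sub, h.sub, h.sub, hX, hX, hY, hY, hX, hM]
      simp only [Matrix.add_mulVec, Matrix.sub_mulVec, Matrix.one_mulVec, ← Matrix.mulVec_mulVec]
    have hcomm : ∀ g : SL(2, F), M * (g : Matrix (Fin 2) (Fin 2) F) = g * M := by
      intro g'
      obtain ⟨g, -, hg⟩ := h.bwd g' (hm _)
      apply Matrix.toLin'.injective
      apply LinearMap.ext
      intro w
      obtain ⟨v, rfl⟩ := h.sur w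
      rw [Matrix.toLin'_apply, Matrix.toLin'_apply, ← Matrix.mulVec_mulVec, ← Matrix.mulVec_mulVec, ← hg, ← hMv, ← hMv, ← hg,
        Matrix.mulVec_smul]
    obtain ⟨m, hm'⟩ := mat_scalar M hcomm
    exact ⟨m, fun v => by rw [hMv, hm']⟩

/-- ring homomorphism of a semilinear map -/
theorem semi_hom (hF : ∃ n, Fintype.card F = 3 ^ n) {β : (Fin 2 → F) → (Fin 2 → F)} (h : Cmp β)
    (hinj : Function.Injective β) :
    ∃ σ : F →+* F, ∀ t v, β (t • v) = σ t • β v := by
  choose s hs using semi hF h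
  have hv0 : (![1, 0] : Fin 2 → F) ≠ 0 := by
    intro h0
    have := congrFun h0 0
    simp at this
  have hb0 : β ![1, 0] ≠ 0 := by
    intro h0
    apply hv0
    apply hinj
    rw [h0, h.zero]
  have canc : ∀ x y : F, x • β ![1, 0] = y • β ![1, 0] → x = y := by
    intro x y hxy
    have h1 : (x - y) • β ![1, 0] = 0 := by rw [sub_smul, hxy, sub_self]
    rcases smul_eq_zero.1 h1 with h2 | h2
    · exact sub_eq_zero.1 h2
    · exact absurd h2 hb0
  refine ⟨{ toFun := s, map_one' := ?_, map_mul' := ?_, map_zero' := ?_, map_add' := ?_ }, fun t v => hs t v⟩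
  · apply canc
    rw [← hs, one_smul, one_smul]
  · intro x y
    apply canc
    rw [← hs, mul_smul, mul_smul, ← hs, ← hs]
  · apply canc
    rw [← hs, zero_smul, zero_smul, h.zero]
  · intro x y
    apply canc
    rw [← hs, add_smul, add_smul, ← hs, ← hs, h.add]

/-- a linear map of 3-power order is quadratic -/
theorem lin_quad (hF : ∃ n, Fintype.card F = 3 ^ n) {β : (Fin 2 → F) → (Fin 2 → F)} (hadd : ∀ v w, β (v + w) = β v + β w)
    (hlin : ∀ (t : F) v, β (t • v) = t • β v) {k : ℕ} (hk : ∀ v, β^[3 ^ k] v = v) :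
    ∃ M : Matrix (Fin 2) (Fin 2) F, (∀ v, β v = M.mulVec v) ∧ (M - 1) * (M - 1) = 0 ∧ M.det = 1 := by
  classical
  have h3 := three_zero hF
  haveI : Fact (Nat.Prime 3) := ⟨by norm_num⟩
  haveI : CharP F 3 := by
    haveI : NeZero (1 : F) := inferInstance
    obtain ⟨p, hp⟩ := CharP.exists F
    have hp3 : p ∣ 3 := (CharP.cast_eq_zero_iff F p 3).1 (by exact_mod_cast h3)
    rcases (Nat.dvd_prime (by norm_num : Nat.Prime 3)).1 hp3 with h1 | h1
    · exfalso
      rw [h1] at hp
      have h2 := (CharP.cast_eq_zero_iff F 1 1).2 (dvd_refl 1)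
      rw [Nat.cast_one] at h2
      exact one_ne_zero h2
    · rwa [h1] at hp
  let L : (Fin 2 → F) →ₗ[F] (Fin 2 → F) := { toFun := β, map_add' := hadd, map_smul' := hlin }
  set M := LinearMap.toMatrix' L with hM
  have hMv : ∀ v, β v = M.mulVec v := by
    intro v
    rw [hM, LinearMap.toMatrix'_mulVec]
    rfl
  have hpow : ∀ n v, β^[n] v = (M ^ n).mulVec v := by
    intro n
    induction n with
    | zero => intro v; rw [pow_zero, Matrix.one_mulVec]; rfl
    | succ n ih => intro v; rw [Function.iterate_succ_apply, ih, hMv, pow_succ, Matrix.mulVec_mulVec]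
  have hM1 : M ^ 3 ^ k = 1 := by
    apply Matrix.toLin'.injective
    apply LinearMap.ext
    intro w
    rw [Matrix.toLin'_apply, ← hpow, hk, Matrix.toLin'_one]
    rfl
  have hN : (M - 1) ^ 3 ^ k = 0 := by
    rw [sub_pow_char_pow_of_commute (p := 3) _ (Commute.one_right M), hM1, one_pow, sub_self]
  have hk0 : 3 ^ k ≠ 0 := by positivity
  refine ⟨M, hMv, ?_, ?_⟩
  · set N := M - 1 with hNdef
    have hdet : N.det = 0 := by
      have h1 : (N ^ 3 ^ k).det = 0 := by rw [hN]; exact Matrix.det_zero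
      rw [Matrix.det_pow] at h1
      exact (pow_eq_zero_iff hk0).1 h1
    have hsq : N * N = (N 0 0 + N 1 1) • N := by
      rw [Matrix.det_fin_two] at hdet
      ext i j
      rw [Matrix.mul_apply, Fin.sum_univ_two, Matrix.smul_apply, smul_eq_mul]
      fin_cases i <;> fin_cases j <;> simp
      · linear_combination -hdet
      · ring
      · ring
      · linear_combination -hdet
    have hp : ∀ m : ℕ, N ^ (m + 1) = (N 0 0 + N 1 1) ^ m • N := by
      intro m
      induction m with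
      | zero => simp
      | succ m ih =>
        rw [pow_succ, ih, smul_mul_assoc, hsq, smul_smul, ← pow_succ]
    obtain ⟨j, hj⟩ := Nat.exists_eq_succ_of_ne_zero hk0
    rw [hj, Nat.succ_eq_add_one, hp] at hN
    rcases smul_eq_zero.1 hN with h1 | h1
    · rw [hsq]
      by_cases hj0 : j = 0
      · rw [hj0, pow_zero] at h1
        exact absurd h1 one_ne_zero
      · rw [(pow_eq_zero_iff hj0).1 h1, zero_smul]
    · rw [h1, mul_zero]
  · have h1 : M.det ^ 3 ^ k = 1 := by rw [← Matrix.det_pow, hM1, Matrix.det_one]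
    have h2 : (M.det - 1) ^ 3 ^ k = 0 := by
      rw [sub_pow_char_pow (p := 3), h1, one_pow, sub_self]
    exact sub_eq_zero.1 ((pow_eq_zero_iff hk0).1 h2)

end alg

end H52.QD
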