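import Cfsg.Agent.Lib.H52.QD1
import Cfsg.Agent.Lib.H51.OffBig

/-!
Offenders on the natural module are linear.
-/

set_option autoImplicit false
set_option linter.unusedSectionVars false
set_option linter.unusedVariables false

namespace H52.QD

open Subgroup Cfsg H51.Bau
open scoped MatrixGroups

section off

variable {F : Type} [Field F] [Fintype F]

/-- fixed points of a semilinear map of order three -/
theorem vdm {β : (Fin 2 → F) → (Fin 2 → F)} (hadd : ∀ v w, β (v + w) = β v + β w) (σ : F →+* F)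
    (hσ : ∀ t v, β (t • v) = σ t • β v) {x : F} (hx : σ x ≠ x) (h3 : σ (σ (σ x)) = x) {d0 d1 d2 : Fin 2 → F}
    (e0 : β d0 = d0) (e1 : β d1 = d1) (e2 : β d2 = d2)
    (h : d0 + x • d1 + (x ^ 2) • d2 = 0) : d0 = 0 ∧ d1 = 0 ∧ d2 = 0 := by
  have hz : β 0 = 0 := by
    have := hadd 0 0
    rw [add_zero] at this
    exact left_eq_add.1 this
  have hy : σ (σ x) ≠ σ x := fun h => hx (σ.injective h)
  have hzx : σ (σ x) ≠ x := by
    intro h
    rw [h] at h3
    exact hx h3
  have k1 : d0 + σ x • d1 + (σ x) ^ 2 • d2 = 0 := by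
    have := congrArg β h
    rw [hadd, hadd, hσ, hσ, e0, e1, e2, hz, map_pow] at this
    exact this
  have k2 : d0 + σ (σ x) • d1 + (σ (σ x)) ^ 2 • d2 = 0 := by
    have := congrArg β k1
    rw [hadd, hadd, hσ, hσ, e0, e1, e2, hz, map_pow] at this
    exact this
  have key : ∀ i, d0 i = 0 ∧ d1 i = 0 ∧ d2 i = 0 := by
    intro i
    have a0 := congrFun h i
    have a1 := congrFun k1 i
    have a2 := congrFun k2 i
    simp only [Pi.add_apply, Pi.smul_apply, smul_eq_mul, Pi.zero_apply] at a0 a1 a2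
    have b1 : d1 i + (x + σ x) * d2 i = 0 := by
      have : (σ x - x) * (d1 i + (x + σ x) * d2 i) = 0 := by linear_combination a1 - a0
      exact (mul_eq_zero.1 this).resolve_left (sub_ne_zero.2 hx)
    have b2 : d1 i + (x + σ (σ x)) * d2 i = 0 := by
      have : (σ (σ x) - x) * (d1 i + (x + σ (σ x)) * d2 i) = 0 := by linear_combination a2 - a0
      exact (mul_eq_zero.1 this).resolve_left (sub_ne_zero.2 hzx)
    have b3 : d2 i = 0 := by
      have : (σ (σ x) - σ x) * d2 i = 0 := by linear_combination b2 - b1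
      exact (mul_eq_zero.1 this).resolve_left (sub_ne_zero.2 hy)
    have b4 : d1 i = 0 := by
      rw [b3, mul_zero, add_zero] at b1
      exact b1
    refine ⟨?_, b4, b3⟩
    rw [b3, b4, mul_zero, mul_zero, add_zero, add_zero] at a0
    exact a0
  exact ⟨funext fun i => (key i).1, funext fun i => (key i).2.1, funext fun i => (key i).2.2⟩

theorem card_fix {β : (Fin 2 → F) → (Fin 2 → F)} (hadd : ∀ v w, β (v + w) = β v + β w) (σ : F →+* F)
    (hσ : ∀ t v, β (t • v) = σ t • β v) {x : F} (hx : σ x ≠ x) (h3 : σ (σ (σ x)) = x)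
    (C M : AddSubgroup (Fin 2 → F)) (hC : ∀ c ∈ C, β c = c) (hCM : C ≤ M) (hM : ∀ (t : F), ∀ v ∈ M, t • v ∈ M) :
    Nat.card C ^ 3 ≤ Nat.card M := by
  let f : (C × C × C) → M := fun c => ⟨(c.1 : Fin 2 → F) + x • (c.2.1 : Fin 2 → F) + (x ^ 2) • (c.2.2 : Fin 2 → F),
    M.add_mem (M.add_mem (hCM c.1.2) (hM _ _ (hCM c.2.1.2))) (hM _ _ (hCM c.2.2.2))⟩
  have hf : Function.Injective f := by
    rintro ⟨a0, a1, a2⟩ ⟨b0, b1, b2⟩ h
    have h1 : (a0 : Fin 2 → F) + x • (a1 : Fin 2 → F) + (x ^ 2) • (a2 : Fin 2 → F) =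
      (b0 : Fin 2 → F) + x • (b1 : Fin 2 → F) + (x ^ 2) • (b2 : Fin 2 → F) := congrArg Subtype.val h
    have h2 : ((a0 - b0 : C) : Fin 2 → F) + x • ((a1 - b1 : C) : Fin 2 → F) + (x ^ 2) • ((a2 - b2 : C) : Fin 2 → F) = 0 := by
      rw [AddSubgroup.coe_sub, AddSubgroup.coe_sub, AddSubgroup.coe_sub, smul_sub, smul_sub]
      rw [← sub_eq_zero] at h1
      rw [← h1]
      abel
    obtain ⟨k0, k1, k2⟩ := vdm hadd σ hσ hx h3 (hC _ (a0 - b0).2) (hC _ (a1 - b1).2) (hC _ (a2 - b2).2) h2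
    rw [AddSubgroup.coe_sub, sub_eq_zero] at k0 k1 k2
    rw [Subtype.ext k0, Subtype.ext k1, Subtype.ext k2]
  have := Nat.card_le_card_of_injective f hf
  rw [Nat.card_prod, Nat.card_prod] at this
  calc Nat.card C ^ 3 = Nat.card C * (Nat.card C * Nat.card C) := by ring
    _ ≤ _ := this

/-- a group of additive maps normalizing the special linear group -/
structure Rep (A : Type*) [Group A] (Φ : A → (Fin 2 → F) → (Fin 2 → F)) : Prop where
  one : ∀ v, Φ 1 v = v
  mul : ∀ a b v, Φ (a * b) v = Φ a (Φ b v)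
  cmp : ∀ a, Cmp (Φ a)

variable {A : Type*} [Group A] {Φ : A → (Fin 2 → F) → (Fin 2 → F)}

theorem Rep.inv (r : Rep A Φ) (a : A) (v : Fin 2 → F) : Φ a⁻¹ (Φ a v) = v := by
  rw [← r.mul, inv_mul_cancel, r.one]

theorem Rep.inv' (r : Rep A Φ) (a : A) (v : Fin 2 → F) : Φ a (Φ a⁻¹ v) = v := by
  rw [← r.mul, mul_inv_cancel, r.one]

theorem Rep.inj (r : Rep A Φ) (a : A) : Function.Injective (Φ a) := by
  intro v w h
  rw [← r.inv a v, h, r.inv]

/-- the kernel -/
def Rep.ker (r : Rep A Φ) : Subgroup A where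
  carrier := {a | ∀ v, Φ a v = v}
  one_mem' := r.one
  mul_mem' := by
    intro a b ha hb v
    rw [r.mul, hb, ha]
  inv_mem' := by
    intro a ha v
    have := r.inv a v
    rwa [ha v] at this

/-- the linear elements -/
def Rep.lin (r : Rep A Φ) : Subgroup A where
  carrier := {a | ∀ (t : F) v, Φ a (t • v) = t • Φ a v}
  one_mem' := by
    intro t v
    rw [r.one, r.one]
  mul_mem' := by
    intro a b ha hb t v
    rw [r.mul, r.mul, hb, ha]
  inv_mem' := by
    intro a ha t v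
    apply r.inj a
    rw [r.inv', ha, r.inv']

/-- the fixed points -/
def Rep.fix (r : Rep A Φ) : AddSubgroup (Fin 2 → F) where
  carrier := {v | ∀ a, Φ a v = v}
  zero_mem' := fun a => (r.cmp a).zero
  add_mem' := by
    intro v w hv hw a
    rw [(r.cmp a).add, hv, hw]
  neg_mem' := by
    intro v hv a
    rw [(r.cmp a).neg, hv]

theorem canc {u : Fin 2 → F} (hu : u ≠ 0) {x y : F} (h : x • u = y • u) : x = y := by
  have h1 : (x - y) • u = 0 := by rw [sub_smul, h, sub_self]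
  rcases smul_eq_zero.1 h1 with h2 | h2
  · exact sub_eq_zero.1 h2
  · exact absurd h2 hu

theorem e1_ne : (![1, 0] : Fin 2 → F) ≠ 0 := by
  intro h0
  have := congrFun h0 0
  simp at this

theorem charP_three (hF : ∃ n, Fintype.card F = 3 ^ n) : CharP F 3 := by
  have h3 := three_zero hF
  obtain ⟨p, hp⟩ := CharP.exists F
  have hp3 : p ∣ 3 := (CharP.cast_eq_zero_iff F p 3).1 (by exact_mod_cast h3)
  rcases (Nat.dvd_prime (by norm_num : Nat.Prime 3)).1 hp3 with h1 | h1
  · exfalso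
    rw [h1] at hp
    have h2 := (CharP.cast_eq_zero_iff F 1 1).2 (dvd_refl 1)
    rw [Nat.cast_one] at h2
    exact one_ne_zero h2
  · rwa [h1] at hp

theorem index_three [Finite A] (hF : ∃ n, Fintype.card F = 3 ^ n) (h3 : ∀ a : A, a ^ 3 = 1) (r : Rep A Φ) :
    Nat.card A ≤ 3 * Nat.card r.lin := by
  classical
  haveI : Fact (Nat.Prime 3) := ⟨by norm_num⟩
  haveI := charP_three hF
  letI : Algebra (ZMod 3) F := ZMod.algebra F 3
  have hs := fun a => semi_hom hF (r.cmp a) (r.inj a)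
  choose σ hσ using hs
  have hne : ∀ a, Φ a ![1, 0] ≠ 0 := by
    intro a h0
    apply e1_ne (F := F)
    apply r.inj a
    rw [h0, (r.cmp a).zero]
  have h1 : ∀ t, σ 1 t = t := by
    intro t
    apply canc (hne 1)
    rw [← hσ, r.one, r.one]
  have hmul : ∀ a b t, σ (a * b) t = σ a (σ b t) := by
    intro a b t
    apply canc (hne (a * b))
    rw [← hσ, r.mul, hσ, hσ, ← r.mul]
  let eqv : A → (F ≃ₐ[ZMod 3] F) := fun a => AlgEquiv.ofRingEquiv (f := RingEquiv.ofRingHom (σ a) (σ a⁻¹)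
    (by ext t; simp [← hmul, h1]) (by ext t; simp [← hmul, h1])) (by
      intro x
      exact RingHom.congr_fun (Subsingleton.elim (((σ a)).comp (algebraMap (ZMod 3) F)) (algebraMap (ZMod 3) F)) x)
  have heqv : ∀ a t, eqv a t = σ a t := fun a t => rfl
  let θ : A →* (F ≃ₐ[ZMod 3] F) := MonoidHom.mk' eqv (by
    intro a b
    ext t
    rw [AlgEquiv.mul_apply, heqv, heqv, heqv, hmul])
  have hker : θ.ker = r.lin := by
    ext a
    rw [MonoidHom.mem_ker]
    constructor
    · intro h t v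
      rw [hσ]
      have : eqv a t = t := by
        have h2 : θ a t = t := by rw [h]; rfl
        exact h2
      rw [heqv] at this
      rw [this]
    · intro h
      ext t
      show eqv a t = t
      rw [heqv]
      apply canc (hne a)
      rw [← hσ, h t]
  haveI : Finite (F ≃ₐ[ZMod 3] F) := Finite.of_injective (fun f : F ≃ₐ[ZMod 3] F => (f : F → F)) DFunLike.coe_injective
  haveI : Fintype (F ≃ₐ[ZMod 3] F) := Fintype.ofFinite _
  have hr : Nat.card θ.range ≤ 3 := by
    have h4 := IsCyclic.card_pow_eq_one_le (α := (F ≃ₐ[ZMod 3] F)) (n := 3) (by norm_num)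
    refine le_trans ?_ h4
    rw [← Fintype.card_coe, ← Nat.card_eq_fintype_card]
    refine Nat.card_le_card_of_injective (fun x : θ.range => (⟨x.1, ?_⟩ : {y // y ∈ Finset.univ.filter
      (fun a : (F ≃ₐ[ZMod 3] F) => a ^ 3 = 1)})) ?_
    · obtain ⟨a, ha⟩ := x.2
      rw [Finset.mem_filter]
      refine ⟨Finset.mem_univ _, ?_⟩
      rw [← ha, ← map_pow, h3, map_one]
    · intro x y h
      exact Subtype.ext (congrArg (fun z : {y // y ∈ Finset.univ.filter
        (fun a : (F ≃ₐ[ZMod 3] F) => a ^ 3 = 1)} => z.1) h)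
  have hc := Subgroup.card_eq_card_quotient_mul_card_subgroup θ.ker
  have hq : Nat.card (A ⧸ θ.ker) = Nat.card θ.range := Nat.card_congr (QuotientGroup.quotientKerEquivRange θ).toEquiv
  rw [hq, hker] at hc
  rw [hc]
  exact Nat.mul_le_mul_right _ hr

/-- the linear part of an abelian group of exponent three -/
theorem lin_le [Finite A] (hF : ∃ n, Fintype.card F = 3 ^ n) (hA : ∀ a b : A, a * b = b * a) (h3 : ∀ a : A, a ^ 3 = 1)
    (r : Rep A Φ) (hne : ¬ r.lin ≤ r.ker) :
    Nat.card r.lin ≤ Nat.card F * Nat.card r.ker ∧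
    ∃ L : AddSubgroup (Fin 2 → F), r.fix ≤ L ∧ (∀ (t : F), ∀ v ∈ L, t • v ∈ L) ∧ Nat.card L ≤ Nat.card F := by
  classical
  haveI : Fact (Nat.Prime 3) := ⟨by norm_num⟩
  haveI := charP_three hF
  obtain ⟨a₀, ha₀, hk₀⟩ := SetLike.not_le_iff_exists.1 hne
  have h33 : ∀ a v, Φ a (Φ a (Φ a v)) = v := by
    intro a v
    rw [← r.mul, ← r.mul]
    have : a * a * a = 1 := by rw [← h3 a, pow_succ, pow_two]
    rw [this, r.one]
  have hlin : ∀ {a}, a ∈ r.lin → ∀ (t : F) v, Φ a (t • v) = t • Φ a v := fun {a} h => h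
  obtain ⟨M, hM1, hM2, -⟩ := lin_quad hF (r.cmp a₀).add (hlin ha₀) (k := 1) (by
    intro v
    rw [pow_one]
    exact h33 a₀ v)
  obtain ⟨v₀, hv₀⟩ : ∃ v, Φ a₀ v ≠ v := by
    by_contra hcon
    push Not at hcon
    exact hk₀ hcon
  set e := Φ a₀ v₀ - v₀ with he
  have he0 : e ≠ 0 := sub_ne_zero.2 hv₀
  have hev : Φ a₀ v₀ = v₀ + e := by rw [he]; abel
  have hee : Φ a₀ e = e := by
    have h1 : (M - 1).mulVec ((M - 1).mulVec v₀) = 0 := by
      rw [Matrix.mulVec_mulVec, hM2, Matrix.zero_mulVec]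
    have h2 : (M - 1).mulVec v₀ = e := by rw [Matrix.sub_mulVec, Matrix.one_mulVec, ← hM1, he]
    rw [h2, Matrix.sub_mulVec, Matrix.one_mulVec, ← hM1, sub_eq_zero] at h1
    exact h1
  have hδ : e 0 * v₀ 1 - e 1 * v₀ 0 ≠ 0 := by
    intro h
    obtain ⟨c, hc⟩ := H51.OG.exists_smul he0 h
    apply hv₀
    rw [hc, hlin ha₀, hee]
  set δ := e 0 * v₀ 1 - e 1 * v₀ 0 with hδdef
  have hdec : ∀ v : Fin 2 → F, v = ((v 0 * v₀ 1 - v 1 * v₀ 0) / δ) • e + ((e 0 * v 1 - e 1 * v 0) / δ) • v₀ := by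
    intro v
    ext i
    fin_cases i
    · show v 0 = ((v 0 * v₀ 1 - v 1 * v₀ 0) / δ) * e 0 + ((e 0 * v 1 - e 1 * v 0) / δ) * v₀ 0
      field_simp
      rw [hδdef]; ring
    · show v 1 = ((v 0 * v₀ 1 - v 1 * v₀ 0) / δ) * e 1 + ((e 0 * v 1 - e 1 * v 0) / δ) * v₀ 1
      field_simp
      rw [hδdef]; ring
  have hL : ∀ v, Φ a₀ v = v → ∃ c : F, v = c • e := by
    intro v hv
    have h1 := hdec v
    set α := (v 0 * v₀ 1 - v 1 * v₀ 0) / δ
    set γ := (e 0 * v 1 - e 1 * v 0) / δ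
    have h2 : Φ a₀ v = v + γ • e := by
      conv_lhs => rw [h1]
      rw [(r.cmp a₀).add, hlin ha₀, hlin ha₀, hee, hev, smul_add, ← add_assoc, ← h1]
    rw [hv] at h2
    have h3 : γ • e = 0 := left_eq_add.1 h2
    rcases smul_eq_zero.1 h3 with h4 | h4
    · exact ⟨α, by rw [h1, h4, zero_smul, add_zero]⟩
    · exact absurd h4 he0
  have hcm : ∀ a b v, Φ a (Φ b v) = Φ b (Φ a v) := by
    intro a b v
    rw [← r.mul, ← r.mul, hA]
  -- every linear element fixes `e`
  have hfe : ∀ a ∈ r.lin, Φ a e = e := by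
    intro a ha
    obtain ⟨c, hc⟩ := hL (Φ a e) (by rw [hcm, hee])
    have h1 : Φ a (Φ a (Φ a e)) = (c ^ 3) • e := by
      rw [hc, hlin ha, hc, hlin ha, hlin ha, hc, smul_smul, smul_smul]
      congr 1
      ring
    rw [h33] at h1
    have h2 : c ^ 3 = 1 := canc he0 (by rw [← h1, one_smul])
    have h3 : (c - 1) ^ 3 = 0 := by
      rw [sub_pow_char (p := 3), h2, one_pow, sub_self]
    have h4 : c = 1 := sub_eq_zero.1 ((pow_eq_zero_iff (by norm_num)).1 h3)
    rw [hc, h4, one_smul]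
  have hfv : ∀ a ∈ r.lin, ∃ c : F, Φ a v₀ = v₀ + c • e := by
    intro a ha
    obtain ⟨c, hc⟩ := hL (Φ a v₀ - v₀) (by
      rw [(r.cmp a₀).sub, hcm, hev, (r.cmp a).add, hfe a ha]
      abel)
    exact ⟨c, by rw [← hc]; abel⟩
  refine ⟨?_, ?_⟩
  · choose g hg using fun a : r.lin => hfv a.1 a.2
    have hgk : ∀ a b : r.lin, g a = g b → (a : A)⁻¹ * b ∈ r.ker := by
      intro a b hab
      have h1 : ∀ v, Φ b v = Φ a v := by
        intro v
        rw [hdec v, (r.cmp b).add, (r.cmp a).add, hlin b.2, hlin b.2, hlin a.2, hlin a.2, hfe a a.2, hfe b b.2, hg, hg, hab]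
      intro v
      rw [r.mul, h1, r.inv]
    let f : r.lin → F × r.ker := fun a => (g a, ⟨((Function.invFun g (g a) : r.lin) : A)⁻¹ * a,
      hgk _ _ (Function.invFun_eq ⟨a, rfl⟩)⟩)
    have hf : Function.Injective f := by
      intro a b h
      have h1 : g a = g b := congrArg Prod.fst h
      have h2 : ((Function.invFun g (g a) : r.lin) : A)⁻¹ * a = ((Function.invFun g (g b) : r.lin) : A)⁻¹ * b :=
        congrArg (fun x => (x.2 : A)) h
      rw [h1] at h2
      exact Subtype.ext (mul_left_cancel h2)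
    have := Nat.card_le_card_of_injective f hf
    rwa [Nat.card_prod] at this
  · refine ⟨{ carrier := {v | Φ a₀ v = v}, zero_mem' := (r.cmp a₀).zero, add_mem' := ?_, neg_mem' := ?_ }, ?_, ?_, ?_⟩
    · intro v w hv hw
      show Φ a₀ (v + w) = v + w
      rw [(r.cmp a₀).add, hv, hw]
    · intro v hv
      show Φ a₀ (-v) = -v
      rw [(r.cmp a₀).neg, hv]
    · intro v hv
      exact hv a₀
    · intro t v hv
      show Φ a₀ (t • v) = t • v
      rw [hlin ha₀, hv]
    · refine Nat.card_le_card_of_surjective (fun c : F => ⟨c • e, ?_⟩) ?_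
      · show Φ a₀ (c • e) = c • e
        rw [hlin ha₀, hee]
      · rintro ⟨v, hv⟩
        obtain ⟨c, hc⟩ := hL v hv
        exact ⟨c, Subtype.ext hc.symm⟩

theorem card_S : Nat.card (Fin 2 → F) = Nat.card F * Nat.card F := by
  rw [Nat.card_fun, Nat.card_eq_fintype_card (α := Fin 2), Fintype.card_fin, sq]

/-- offenders are linear -/
theorem all_lin [Finite A] (hF : ∃ n, Fintype.card F = 3 ^ n) (hA : ∀ a b : A, a * b = b * a) (h3 : ∀ a : A, a ^ 3 = 1)
    (r : Rep A Φ) (off : Nat.card (Fin 2 → F) * Nat.card r.ker ≤ Nat.card A * Nat.card r.fix) (a : A) :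
    ∀ (t : F) v, Φ a (t • v) = t • Φ a v := by
  by_contra hcon
  push Not at hcon
  obtain ⟨x, v, hxv⟩ := hcon
  obtain ⟨σ, hσ⟩ := semi_hom hF (r.cmp a) (r.inj a)
  have hx : σ x ≠ x := by
    intro h
    apply hxv
    rw [hσ, h]
  have h33 : ∀ v, Φ a (Φ a (Φ a v)) = v := by
    intro v
    rw [← r.mul, ← r.mul]
    have : a * a * a = 1 := by rw [← h3 a, pow_succ, pow_two]
    rw [this, r.one]
  have hσ3 : σ (σ (σ x)) = x := by
    apply canc (e1_ne (F := F))
    have h1 := h33 (x • ![1, 0])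
    rw [hσ, hσ, hσ, h33] at h1
    exact h1
  have h5 : 5 < Nat.card F := by
    rw [Nat.card_eq_fintype_card]
    rcases card_or hF with h | h
    · exfalso
      rcases f3_cases h x with rfl | rfl | rfl
      · exact hx (map_zero σ)
      · exact hx (map_one σ)
      · exact hx (by rw [map_neg, map_one])
    · exact h
  have hi := index_three hF h3 r
  have hS := card_S (F := F)
  have hk : 0 < Nat.card r.ker := Nat.card_pos
  set q := Nat.card F
  set k := Nat.card r.ker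
  set f := Nat.card r.fix
  by_cases hne : r.lin ≤ r.ker
  · have h6 : f ^ 3 ≤ q * q := by
      have := card_fix (r.cmp a).add σ hσ hx hσ3 r.fix ⊤ (fun c hc => hc a) le_top (fun _ _ _ => AddSubgroup.mem_top _)
      rw [Nat.card_congr (AddSubgroup.topEquiv (G := (Fin 2 → F))).toEquiv, hS] at this
      exact this
    have h7 : Nat.card r.lin ≤ k := Subgroup.card_le_of_le hne
    have h8 : q * q * k ≤ (3 * f) * k := by
      calc q * q * k ≤ Nat.card A * f := by rw [← hS]; exact off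
        _ ≤ (3 * k) * f := Nat.mul_le_mul_right _ (hi.trans (Nat.mul_le_mul_left _ h7))
        _ = (3 * f) * k := by ring
    have h9 : q * q ≤ 3 * f := Nat.le_of_mul_le_mul_right h8 hk
    have h10 : (q * q) ^ 3 ≤ 27 * (q * q) := by
      calc (q * q) ^ 3 ≤ (3 * f) ^ 3 := Nat.pow_le_pow_left h9 3
        _ = 27 * f ^ 3 := by ring
        _ ≤ 27 * (q * q) := Nat.mul_le_mul_left _ h6
    have h11 : 27 < q * q := by nlinarith
    generalize q * q = m at h10 h11
    have h12 : 27 * m < m * m := Nat.mul_lt_mul_of_pos_right h11 (by omega)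
    have h13 : m * m ≤ m ^ 3 := by
      calc m * m = m * m * 1 := by ring
        _ ≤ m * m * m := Nat.mul_le_mul_left _ (by omega)
        _ = m ^ 3 := by ring
    omega
  · obtain ⟨h6, L, hL1, hL2, hL3⟩ := lin_le hF hA h3 r hne
    have h7 : f ^ 3 ≤ q := (card_fix (r.cmp a).add σ hσ hx hσ3 r.fix L (fun c hc => hc a) hL1 hL2).trans hL3
    have h8 : q * (q * k) ≤ (3 * f) * (q * k) := by
      calc q * (q * k) = q * q * k := by ring
        _ ≤ Nat.card A * f := by rw [← hS]; exact off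
        _ ≤ (3 * (q * k)) * f := Nat.mul_le_mul_right _ (hi.trans (Nat.mul_le_mul_left _ h6))
        _ = (3 * f) * (q * k) := by ring
    have h9 : q ≤ 3 * f := Nat.le_of_mul_le_mul_right h8 (by positivity)
    have h10 : q ^ 3 ≤ 27 * q := by
      calc q ^ 3 ≤ (3 * f) ^ 3 := Nat.pow_le_pow_left h9 3
        _ = 27 * f ^ 3 := by ring
        _ ≤ 27 * q := Nat.mul_le_mul_left _ h7
    have h11 : 35 < q * q := by nlinarith
    nlinarith

end off

end H52.QD
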