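import Cfsg.Agent.Lib.H52.QD2

/-!
Conjugation on a natural section in coordinates.
-/

set_option autoImplicit false
set_option linter.unusedSectionVars false
set_option linter.unusedVariables false

namespace H52.QD

open Subgroup Cfsg H51.Bau
open scoped MatrixGroups

section act

variable {G : Type*} [Group G] {F : Type} [Field F] {E U U₀ : Subgroup G} {ρ : ↥E →* SL(2, F)}
  {ψ : ↥U →* Multiplicative (Fin 2 → F)}

open Classical in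
/-- conjugation on the section, in coordinates -/
noncomputable def bt (ψ : ↥U →* Multiplicative (Fin 2 → F)) (b : G) (v : Fin 2 → F) : Fin 2 → F :=
  if h : ∃ u w : ↥U, (w : G) = b * u * b⁻¹ ∧ Multiplicative.toAdd (ψ u) = v then
    Multiplicative.toAdd (ψ h.choose_spec.choose) else 0

/-- the elements acting on the section -/
def Nm (U U₀ : Subgroup G) : Subgroup G := normalizer (U : Set G) ⊓ normalizer (U₀ : Set G)

variable [Finite G]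

theorem bt_eq (c : Crd F E U U₀ ρ ψ) {b : G} (hb : b ∈ Nm U U₀) (u w : ↥U) (h : (w : G) = b * u * b⁻¹) :
    bt ψ b (Multiplicative.toAdd (ψ u)) = Multiplicative.toAdd (ψ w) := by
  have hex : ∃ u' w' : ↥U, (w' : G) = b * u' * b⁻¹ ∧ Multiplicative.toAdd (ψ u') = Multiplicative.toAdd (ψ u) := ⟨u, w, h, rfl⟩
  rw [bt, dif_pos hex]
  obtain ⟨h1, h2⟩ := hex.choose_spec.choose_spec
  generalize hex.choose_spec.choose = w' at h1 ⊢
  generalize hex.choose = u' at h1 h2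
  have h3 : ψ u' = ψ u := Multiplicative.toAdd.injective h2
  obtain ⟨x, hx, hux⟩ := (c.eq_iff u' u).1 h3
  have h4 : ψ w' = ψ w := by
    rw [c.eq_iff]
    refine ⟨b * x * b⁻¹, (mem_normalizer_iff.1 (Subgroup.mem_inf.1 hb).2 x).1 hx, ?_⟩
    rw [h1, h, hux]; group
  rw [h4]

theorem cj_mem {b : G} (hb : b ∈ Nm U U₀) (u : ↥U) : b * (u : G) * b⁻¹ ∈ U :=
  (mem_normalizer_iff.1 (Subgroup.mem_inf.1 hb).1 _).1 u.2

theorem ex_u (c : Crd F E U U₀ ρ ψ) (v : Fin 2 → F) : ∃ u : ↥U, Multiplicative.toAdd (ψ u) = v := by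
  obtain ⟨u, hu⟩ := c.sur (Multiplicative.ofAdd v)
  exact ⟨u, by rw [hu]; rfl⟩

theorem bt_one (c : Crd F E U U₀ ρ ψ) (v : Fin 2 → F) : bt ψ 1 v = v := by
  obtain ⟨u, rfl⟩ := ex_u c v
  exact bt_eq c (one_mem _) u u (by group)

theorem bt_mul (c : Crd F E U U₀ ρ ψ) {a b : G} (ha : a ∈ Nm U U₀) (hb : b ∈ Nm U U₀) (v : Fin 2 → F) :
    bt ψ (a * b) v = bt ψ a (bt ψ b v) := by
  obtain ⟨u, rfl⟩ := ex_u c v
  rw [bt_eq c hb u ⟨_, cj_mem hb u⟩ rfl, bt_eq c ha ⟨_, cj_mem hb u⟩ ⟨_, cj_mem ha ⟨_, cj_mem hb u⟩⟩ rfl]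
  apply bt_eq c (mul_mem ha hb)
  show a * (b * (u : G) * b⁻¹) * a⁻¹ = _
  group

theorem bt_add (c : Crd F E U U₀ ρ ψ) {b : G} (hb : b ∈ Nm U U₀) (v w : Fin 2 → F) :
    bt ψ b (v + w) = bt ψ b v + bt ψ b w := by
  obtain ⟨x, rfl⟩ := ex_u c v
  obtain ⟨y, rfl⟩ := ex_u c w
  rw [bt_eq c hb x ⟨_, cj_mem hb x⟩ rfl, bt_eq c hb y ⟨_, cj_mem hb y⟩ rfl, ← toAdd_mul, ← toAdd_mul, ← map_mul, ← map_mul]
  apply bt_eq c hb
  show (b * (x : G) * b⁻¹) * (b * (y : G) * b⁻¹) = b * ((x : G) * y) * b⁻¹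
  group

theorem E_le (c : Crd F E U U₀ ρ ψ) : E ≤ Nm U U₀ := by
  intro e he
  refine Subgroup.mem_inf.2 ⟨c.nz he, ?_⟩
  have key : ∀ e ∈ E, ∀ x ∈ U₀, e * x * e⁻¹ ∈ U₀ := by
    intro e he x hx
    obtain ⟨w, hw1, hw2⟩ := c.act ⟨e, he⟩ ⟨x, c.le hx⟩
    have h1 : ψ ⟨x, c.le hx⟩ = 1 := (c.ker _).2 hx
    rw [h1] at hw2
    have h2 : Multiplicative.toAdd (ψ w) = 0 := by
      rw [hw2]
      exact Matrix.mulVec_zero _
    have h3 : ψ w = 1 := Multiplicative.toAdd.injective h2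
    have h4 := (c.ker _).1 h3
    rw [hw1] at h4
    exact h4
  rw [mem_normalizer_iff]
  intro x
  refine ⟨key e he x, fun h => ?_⟩
  have := key e⁻¹ (inv_mem he) _ h
  have e2 : e⁻¹ * (e * x * e⁻¹) * e⁻¹⁻¹ = x := by group
  rwa [e2] at this

theorem bt_rho (c : Crd F E U U₀ ρ ψ) (e : ↥E) (v : Fin 2 → F) :
    bt ψ (e : G) v = ((ρ e : SL(2, F)) : Matrix (Fin 2) (Fin 2) F).mulVec v := by
  obtain ⟨u, rfl⟩ := ex_u c v
  obtain ⟨w, hw1, hw2⟩ := c.act e u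
  rw [← hw2]
  exact bt_eq c (E_le c e.2) u w hw1

theorem bt_inv (c : Crd F E U U₀ ρ ψ) {b : G} (hb : b ∈ Nm U U₀) (v : Fin 2 → F) : bt ψ b⁻¹ (bt ψ b v) = v := by
  rw [← bt_mul c (inv_mem hb) hb, inv_mul_cancel, bt_one c]

theorem bt_inv' (c : Crd F E U U₀ ρ ψ) {b : G} (hb : b ∈ Nm U U₀) (v : Fin 2 → F) : bt ψ b (bt ψ b⁻¹ v) = v := by
  rw [← bt_mul c hb (inv_mem hb), mul_inv_cancel, bt_one c]

theorem cmp (c : Crd F E U U₀ ρ ψ) {b : G} (hb : b ∈ Nm U U₀) (hE : b ∈ normalizer (E : Set G)) : Cmp (bt ψ b) := by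
  refine ⟨fun v w => bt_add c hb v w, fun v => ⟨bt ψ b⁻¹ v, bt_inv' c hb v⟩, ?_, ?_⟩
  · intro g hg
    rw [← c.rng] at hg
    obtain ⟨e, rfl⟩ := hg
    have he : b * (e : G) * b⁻¹ ∈ E := (mem_normalizer_iff.1 hE _).1 e.2
    refine ⟨ρ ⟨_, he⟩, by rw [← c.rng]; exact ⟨_, rfl⟩, fun v => ?_⟩
    rw [← bt_rho c, ← bt_rho c, ← bt_mul c hb (E_le c e.2), ← bt_mul c (E_le c he) hb]
    congr 1
    show b * (e : G) = b * (e : G) * b⁻¹ * b
    group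
  · intro g hg
    rw [← c.rng] at hg
    obtain ⟨e, rfl⟩ := hg
    have he : b⁻¹ * (e : G) * b ∈ E := by
      have := (mem_normalizer_iff.1 (inv_mem hE) _).1 e.2
      rwa [inv_inv] at this
    refine ⟨ρ ⟨_, he⟩, by rw [← c.rng]; exact ⟨_, rfl⟩, fun v => ?_⟩
    rw [← bt_rho c, ← bt_rho c, ← bt_mul c hb (E_le c he), ← bt_mul c (E_le c e.2) hb]
    congr 1
    show b * (b⁻¹ * (e : G) * b) = (e : G) * b
    group

/-- quadratic action in coordinates -/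
theorem quad_sec (c : Crd F E U U₀ ρ ψ) {b : G} (hb : b ∈ Nm U U₀) {M : Matrix (Fin 2) (Fin 2) F}
    (hM : ∀ v, bt ψ b v = M.mulVec v) (hq : (M - 1) * (M - 1) = 0) {u : G} (hu : u ∈ U) :
    b * (b * u * b⁻¹ * u⁻¹) * b⁻¹ * (b * u * b⁻¹ * u⁻¹)⁻¹ ∈ U₀ := by
  have h1 : ∀ x : ↥U, ∃ y : ↥U, (y : G) = b * x * b⁻¹ * (x : G)⁻¹ ∧
      Multiplicative.toAdd (ψ y) = (M - 1).mulVec (Multiplicative.toAdd (ψ x)) := by
    intro x
    refine ⟨⟨_, cj_mem hb x⟩ * x⁻¹, rfl, ?_⟩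
    rw [map_mul, toAdd_mul, map_inv, toAdd_inv, Matrix.sub_mulVec, Matrix.one_mulVec, ← hM,
      bt_eq c hb x ⟨_, cj_mem hb x⟩ rfl, sub_eq_add_neg]
  obtain ⟨y, hy1, hy2⟩ := h1 ⟨u, hu⟩
  obtain ⟨z, hz1, hz2⟩ := h1 y
  have h2 : ψ z = 1 := by
    apply Multiplicative.toAdd.injective
    rw [hz2, hy2, Matrix.mulVec_mulVec, hq, Matrix.zero_mulVec]
    rfl
  have h3 := (c.ker z).1 h2
  rw [hz1, hy1] at h3
  exact h3

theorem iter (c : Crd F E U U₀ ρ ψ) {b : G} (hb : b ∈ Nm U U₀) (n : ℕ) (v : Fin 2 → F) : (bt ψ b)^[n] v = bt ψ (b ^ n) v := by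
  induction n generalizing v with
  | zero => rw [pow_zero, bt_one c]; rfl
  | succ n ih => rw [Function.iterate_succ_apply, ih, ← bt_mul c (pow_mem hb n) hb, pow_succ]

end act

end H52.QD
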