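import Cfsg.Agent.Lib.H12.GFBA
import Cfsg.Agent.Lib.H14.GF9
import Cfsg.Agent.Lib.H1.Hall

/-!
# The section bound for Glauberman's 2-factorization

The first lemma is helper12's `lemL` with one more conclusion.
-/

set_option autoImplicit false
set_option linter.style.haveILetI false

namespace H52.SB

open H12.GFB

section lin

variable {U : Type*} [AddCommGroup U]

theorem lemL' [Finite U] (h2 : ∀ u : U, u + u = 0) (X A : U →+ U) {l : ℕ} (hl : l.Prime) (hl2 : l ≠ 2)
    (hX : ∀ u, X^[l] u = u) (hA : ∀ u, A (A u) = u) (hXA : ∀ u, X (A (X u)) = A u) (hne : ∃ u, X u ≠ u) :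
    ∃ d, 0 < d ∧ l ∣ 2 ^ (2 * d) - 1 ∧ 2 ^ d * Nat.card {u : U // A u = u} ≤ Nat.card U ∧
      (d = 1 → ∃ c, c ≠ 0 ∧ A c = c ∧ X (X c) = c + X c ∧ X c ≠ c) := by
  classical
  haveI : Fintype U := Fintype.ofFinite U
  have hodd : Odd l := hl.odd_of_ne_two hl2
  let W : AddSubgroup U := (X - AddMonoidHom.id U).range
  have hWmem : ∀ w, w ∈ W ↔ ∃ v, X v - v = w := by
    intro w
    exact Iff.rfl
  have hWfix : ∀ w ∈ W, X w = w → w = 0 := by
    intro w hw h
    obtain ⟨v, rfl⟩ := (hWmem w).1 hw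
    exact range_inj h2 X hodd hX h
  have hWX : ∀ w ∈ W, X w ∈ W := by
    intro w hw
    obtain ⟨v, rfl⟩ := (hWmem w).1 hw
    exact (hWmem _).2 ⟨X v, by rw [map_sub]⟩
  have hWA : ∀ w ∈ W, A w ∈ W := by
    intro w hw
    obtain ⟨v, rfl⟩ := (hWmem w).1 hw
    refine (hWmem _).2 ⟨-(A (X v)), ?_⟩
    rw [map_neg, hXA, map_sub]; abel
  -- X² w = w implies X w = w
  have hsq : ∀ w, X (X w) = w → X w = w := by
    intro w hw
    obtain ⟨m, hm⟩ := hodd
    have h3 : ∀ k : ℕ, X^[2 * k] w = w := by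
      intro k
      induction k with
      | zero => rfl
      | succ k ih =>
        rw [mul_add, mul_one, Function.iterate_add_apply]
        have : X^[2] w = w := hw
        rw [this, ih]
    have h4 := hX w
    rw [hm, add_comm, Function.iterate_add_apply, h3] at h4
    exact h4
  let C : AddSubgroup U := W ⊓ (A - AddMonoidHom.id U).ker
  have hC : ∀ c, c ∈ C ↔ c ∈ W ∧ A c = c := by
    intro c
    constructor
    · rintro ⟨h, h'⟩
      exact ⟨h, sub_eq_zero.1 h'⟩
    · rintro ⟨h, h'⟩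
      exact ⟨h, sub_eq_zero.2 h'⟩
  have hc1 : Nat.card C * Nat.card C ≤ Nat.card W := by
    rw [← Nat.card_prod]
    refine Nat.card_le_card_of_injective
      (fun p : C × C => (⟨(p.1 : U) + X (p.2 : U), add_mem ((hC _).1 p.1.2).1 (hWX _ ((hC _).1 p.2.2).1)⟩ : W)) ?_
    rintro ⟨⟨c1, hc1⟩, ⟨c2, hc2⟩⟩ ⟨⟨e1, he1⟩, ⟨e2, he2⟩⟩ h
    have h1 : c1 + X c2 = e1 + X e2 := congrArg Subtype.val h
    have hd1 : c1 - e1 ∈ C := sub_mem hc1 he1
    have hd2 : e2 - c2 ∈ C := sub_mem he2 hc2
    have h3 : c1 - e1 = X (e2 - c2) := by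
      rw [map_sub, sub_eq_sub_iff_add_eq_add, h1, add_comm]
    have h4 : A (X (e2 - c2)) = X (e2 - c2) := by rw [← h3]; exact ((hC _).1 hd1).2
    have h5 : X (X (e2 - c2)) = e2 - c2 := by
      rw [← h4, hXA]; exact ((hC _).1 hd2).2
    have h6 : e2 - c2 = 0 := hWfix _ ((hC _).1 hd2).1 (hsq _ h5)
    have h7 : c1 - e1 = 0 := by rw [h3, h6, map_zero]
    have h8 : c1 = e1 := sub_eq_zero.1 h7
    have h9 : e2 = c2 := sub_eq_zero.1 h6
    subst h8; subst h9; rfl
  -- the map A - 1 on W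
  let R : AddSubgroup U := W.map (A - AddMonoidHom.id U)
  have hRC : R ≤ C := by
    rintro r ⟨w, hw, rfl⟩
    refine (hC _).2 ⟨sub_mem (hWA _ hw) hw, ?_⟩
    change A (A w - w) = A w - w
    rw [map_sub, hA, ← neg_sub, neg_eq h2]
  have hWcard : Nat.card W = Nat.card C * Nat.card R := by
    have h1 := ((A - AddMonoidHom.id U).comp W.subtype).ker.card_mul_index
    rw [AddSubgroup.index_ker] at h1
    have h3 : Nat.card ((A - AddMonoidHom.id U).comp W.subtype).range = Nat.card R := by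
      congr 1
      have : ((A - AddMonoidHom.id U).comp W.subtype).range = R := by
        rw [AddMonoidHom.range_comp, AddSubgroup.range_subtype]
      rw [this]
    have h4 : Nat.card ((A - AddMonoidHom.id U).comp W.subtype).ker = Nat.card C := by
      refine Nat.card_congr ⟨fun z => ⟨z.1.1, (hC _).2 ⟨z.1.2, sub_eq_zero.1 z.2⟩⟩,
        fun z => ⟨⟨z.1, ((hC _).1 z.2).1⟩, sub_eq_zero.2 ((hC _).1 z.2).2⟩, fun z => rfl, fun z => rfl⟩
    rw [h3, h4] at h1
    exact h1.symm
  have hRle : Nat.card R ≤ Nat.card C := Nat.card_le_card_of_injective _ (AddSubgroup.inclusion_injective hRC)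
  have hCpos : 0 < Nat.card C := Nat.card_pos
  have hRC2 : Nat.card R = Nat.card C := by
    apply le_antisymm hRle
    rw [hWcard] at hc1
    exact Nat.le_of_mul_le_mul_left hc1 hCpos
  obtain ⟨d, hd⟩ := card_two_pow (U := C) (fun u => Subtype.ext (h2 u.1))
  have hW2 : Nat.card W = 2 ^ (2 * d) := by
    rw [hWcard, hRC2, hd, two_mul, pow_add]
  -- W is nontrivial
  obtain ⟨u, hu⟩ := hne
  have hWnt : 1 < Nat.card W := by
    haveI : Nontrivial W := ⟨⟨X u - u, (hWmem _).2 ⟨u, rfl⟩⟩, 0, by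
      intro h
      exact hu (sub_eq_zero.1 (congrArg Subtype.val h))⟩
    exact Finite.one_lt_card
  have hdpos : 0 < d := by
    rcases Nat.eq_zero_or_pos d with h | h
    · rw [hW2, h] at hWnt; simp at hWnt
    · exact h
  have hdiv : l ∣ 2 ^ (2 * d) - 1 := by
    haveI : Fact l.Prime := ⟨hl⟩
    let f : Function.End W := fun w => ⟨X w.1, hWX _ w.2⟩
    have hf : ∀ n : ℕ, ∀ w : W, ((f ^ n) w : U) = X^[n] w.1 := by
      intro n
      induction n with
      | zero => intro w; rfl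
      | succ n ih =>
        intro w
        rw [pow_succ]
        change (((f ^ n) (f w) : W) : U) = _
        rw [ih, Function.iterate_succ_apply]
    have hf1 : f ^ l ^ 1 = 1 := by
      rw [pow_one]
      funext w
      apply Subtype.ext
      rw [hf, hX]; rfl
    have h3 := Equiv.Perm.card_fixedPoints_modEq (α := W) (f := f) (p := l) (n := 1) hf1
    have h4 : Fintype.card (Function.fixedPoints f) = 1 := by
      rw [Fintype.card_eq_one_iff]
      refine ⟨⟨0, ?_⟩, ?_⟩
      · apply Subtype.ext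
        exact map_zero X
      · rintro ⟨w, hw⟩
        apply Subtype.ext
        apply Subtype.ext
        exact hWfix w.1 w.2 (congrArg Subtype.val hw)
    rw [h4, ← Nat.card_eq_fintype_card, hW2] at h3
    exact (Nat.modEq_iff_dvd' (Nat.one_le_two_pow)).1 h3.symm
  refine ⟨d, hdpos, hdiv, ?_, ?_⟩
  · have h1 := (A - AddMonoidHom.id U).ker.card_mul_index
    rw [AddSubgroup.index_ker] at h1
    have h4 : Nat.card (A - AddMonoidHom.id U).ker = Nat.card {u : U // A u = u} := by
      refine Nat.card_congr ⟨fun z => ⟨z.1, sub_eq_zero.1 z.2⟩, fun z => ⟨z.1, sub_eq_zero.2 z.2⟩,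
        fun z => rfl, fun z => rfl⟩
    have h5 : Nat.card R ≤ Nat.card (A - AddMonoidHom.id U).range := by
      refine Nat.card_le_card_of_injective _ (AddSubgroup.inclusion_injective ?_)
      rintro r ⟨w, hw, rfl⟩
      exact ⟨w, rfl⟩
    rw [← h1, h4, mul_comm]
    apply Nat.mul_le_mul_left
    rw [← hd, ← hRC2]
    exact h5
  · intro hd1
    rw [hd1] at hd hdiv
    have hl3 : l = 3 := by
      have h3 : l ∣ 3 := hdiv
      exact (Nat.prime_dvd_prime_iff_eq hl Nat.prime_three).1 h3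
    have hCnt : Nontrivial C := Finite.one_lt_card_iff_nontrivial.1 (by rw [hd]; norm_num)
    obtain ⟨⟨c, hc⟩, hc1⟩ := exists_ne (0 : C)
    have hc0 : c ≠ 0 := fun h => hc1 (Subtype.ext h)
    have hcW := ((hC _).1 hc).1
    have hXc : X c ≠ c := fun h => hc0 (hWfix c hcW h)
    have h3 : X (X (X c)) = c := by
      have := hX c
      rw [hl3] at this
      exact this
    have h4 : X (c + X c + X (X c)) = c + X c + X (X c) := by
      rw [map_add, map_add, h3]; abel
    have h5 := hWfix _ (add_mem (add_mem hcW (hWX _ hcW)) (hWX _ (hWX _ hcW))) h4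
    refine ⟨c, hc0, ((hC _).1 hc).2, ?_, hXc⟩
    have h6 : X (X c) = -(c + X c) := by
      rw [eq_neg_iff_add_eq_zero, add_comm]; exact h5
    rw [h6, neg_eq h2]

end lin

end H52.SB
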