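import Cfsg.Agent.Lib.H52.Socle
import Cfsg.Agent.Lib.H52.Cop
import Cfsg.Agent.Lib.H52.YL2
import Cfsg.Agent.Lib.H11.SubnormalJoin

set_option autoImplicit false
set_option linter.unusedSectionVars false
set_option linter.unusedVariables false

/-! Sylow subgroups of the join of two subnormal subgroups. -/

universe u

namespace H52.SylJoin

open Subgroup Cfsg H52.PCore H52.PRes H52.Syl H52.Socle H52.YL2
open scoped commutatorElement

variable {p : ℕ}

theorem sylIn_map_surj {G G' : Type*} [Group G] [Finite G] [Group G'] [Fact p.Prime] {T : Subgroup G}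
    (hT : SylIn p T ⊤) {f : G →* G'} (hf : Function.Surjective f) : SylIn p (T.map f) ⊤ := by
  have : Finite G' := Finite.of_surjective f hf
  obtain ⟨P, rfl⟩ := hT.exists_sylow
  have h := sylIn_top (P.mapSurjective hf)
  rwa [Sylow.coe_mapSurjective] at h

theorem sylIn_map_hom {G G' : Type*} [Group G] [Finite G] [Group G'] [Finite G'] [Fact p.Prime] {T L : Subgroup G}
    (hT : SylIn p T L) (f : G →* G') : SylIn p (T.map f) (L.map f) := by
  obtain ⟨P, hP⟩ := hT.subgroupOf
  let g : L →* (L.map f) := (f.comp L.subtype).codRestrict _ (fun x => mem_map_of_mem f x.2)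
  have hg : Function.Surjective g := by
    rintro ⟨y, x, hx, rfl⟩
    exact ⟨⟨x, hx⟩, rfl⟩
  have h1 := sylIn_map_surj (sylIn_top P) hg
  obtain ⟨R, hR⟩ := h1.exists_sylow
  refine ⟨R, ?_⟩
  rw [hR, hP]
  ext y
  constructor
  · rintro ⟨z, ⟨w, hw, rfl⟩, rfl⟩
    exact ⟨w, hw, rfl⟩
  · rintro ⟨w, hw, rfl⟩
    exact ⟨g ⟨w, hT.le hw⟩, ⟨⟨w, hT.le hw⟩, hw, rfl⟩, rfl⟩

/-- the statement -/
def P (p : ℕ) (G : Type u) [Group G] : Prop := ∀ T A B : Subgroup G, SylIn p T ⊤ → A.IsSubnormal → B.IsSubnormal →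
  T ⊓ (A ⊔ B) = (T ⊓ A) ⊔ (T ⊓ B)

section
variable {G : Type u} [Group G] [Finite G] [Fact p.Prime]

theorem map_subgroupOf_inf {J T A : Subgroup G} (hA : A ≤ J) :
    (T.subgroupOf J ⊓ A.subgroupOf J).map J.subtype = T ⊓ A := by
  have : T.subgroupOf J ⊓ A.subgroupOf J = (T ⊓ A).subgroupOf J := by
    ext x; simp [mem_subgroupOf]
  rw [this, map_subgroupOf_eq_of_le (inf_le_right.trans hA)]

/-- the statement in a subnormal subgroup -/
theorem of_P {J T A B : Subgroup G} (hJ : P p J) (hT : SylIn p T ⊤) (hJs : J.IsSubnormal) (hA : A.IsSubnormal)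
    (hB : B.IsSubnormal) (hAJ : A ≤ J) (hBJ : B ≤ J) : T ⊓ (A ⊔ B) = (T ⊓ A) ⊔ (T ⊓ B) := by
  have h1 := hT.inf_subnormal hJs
  obtain ⟨R, hR⟩ := h1.subgroupOf
  have h2 : (T ⊓ J).subgroupOf J = T.subgroupOf J := by
    ext x; simp [mem_subgroupOf]
  rw [h2] at hR
  have h3 := hJ (T.subgroupOf J) (A.subgroupOf J) (B.subgroupOf J) (hR ▸ sylIn_top R) hA.subgroupOf hB.subgroupOf
  have h4 := congrArg (Subgroup.map J.subtype) h3
  rw [← Subgroup.subgroupOf_sup hAJ hBJ, Subgroup.map_sup, map_subgroupOf_inf hAJ, map_subgroupOf_inf hBJ,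
    map_subgroupOf_inf (sup_le hAJ hBJ)] at h4
  exact h4

theorem quotient_step {K T A B : Subgroup G} [K.Normal] (hK : P p (G ⧸ K)) (hT : SylIn p T ⊤)
    (hA : A.IsSubnormal) (hB : B.IsSubnormal) (hAB : A ⊔ B = ⊤) : T ≤ (T ⊓ A) ⊔ (T ⊓ B) ⊔ K := by
  obtain ⟨f, hf⟩ : ∃ f : G →* G ⧸ K, f = QuotientGroup.mk' K := ⟨_, rfl⟩
  have hsurj : Function.Surjective f := hf ▸ QuotientGroup.mk'_surjective K
  have hker : f.ker = K := hf ▸ QuotientGroup.ker_mk' K
  have hT' := sylIn_map_surj hT hsurj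
  have key : ∀ X : Subgroup G, X.IsSubnormal → T.map f ⊓ X.map f = (T ⊓ X).map f := by
    intro X hX
    have h1 := sylIn_map_hom (hT.inf_subnormal hX) f
    refine h1.max inf_le_right (hT'.isPGroup.to_le inf_le_left) ?_
    exact le_inf (map_mono inf_le_left) (map_mono inf_le_right)
  have h1 := hK (T.map f) (A.map f) (B.map f) hT' (hA.map hsurj) (hB.map hsurj)
  rw [← Subgroup.map_sup, hAB, ← MonoidHom.range_eq_map, MonoidHom.range_eq_top.2 hsurj, inf_top_eq,
    key A hA, key B hB, ← Subgroup.map_sup] at h1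
  have h2 : T ≤ (T.map f).comap f := le_comap_map f T
  rw [h1, comap_map_eq, hker] at h2
  exact h2

/-- if `T ≤ S₀ K` with `T ∩ K ≤ S₀ ≤ T` then `T ≤ S₀` -/
theorem le_of_le_sup {T S₀ K : Subgroup G} [hK : K.Normal] (h : T ≤ S₀ ⊔ K) (hS : S₀ ≤ T) (hTK : T ⊓ K ≤ S₀) : T ≤ S₀ := by
  intro t ht
  have h1 := h ht
  rw [mem_sup_iff_of_le_normalizer (le_top.trans (normal_iff_top_le_normalizer.1 hK))] at h1
  obtain ⟨s, hs, k, hk, rfl⟩ := h1
  refine mul_mem hs (hTK (mem_inf.2 ⟨?_, hk⟩))
  have : k = s⁻¹ * (s * k) := by group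
  rw [this]
  exact mul_mem (inv_mem (hS hs)) ht

/-- normal case -/
theorem normal_case {T A B : Subgroup G} (hT : SylIn p T ⊤) (hA : A.Normal) (hB : B.IsSubnormal) (hAB : A ⊔ B = ⊤) :
    T ≤ (T ⊓ A) ⊔ (T ⊓ B) := by
  obtain ⟨f, hf⟩ : ∃ f : G →* G ⧸ A, f = QuotientGroup.mk' A := ⟨_, rfl⟩
  have hsurj : Function.Surjective f := hf ▸ QuotientGroup.mk'_surjective A
  have hker : f.ker = A := hf ▸ QuotientGroup.ker_mk' A
  have hT' := sylIn_map_surj hT hsurj
  have h1 := sylIn_map_hom (hT.inf_subnormal hB) f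
  have h2 : B.map f = ⊤ := by
    have h3 := congrArg (Subgroup.map f) hAB
    rw [Subgroup.map_sup, ← MonoidHom.range_eq_map, MonoidHom.range_eq_top.2 hsurj] at h3
    rw [← h3]
    apply le_antisymm le_sup_right
    refine sup_le ?_ le_rfl
    rintro _ ⟨x, hx, rfl⟩
    have : f x = 1 := by rw [← MonoidHom.mem_ker, hker]; exact hx
    rw [this]; exact one_mem _
  rw [h2] at h1
  have h3 : T.map f = (T ⊓ B).map f := h1.max le_top hT'.isPGroup (map_mono inf_le_left)
  have h4 : T ≤ (T.map f).comap f := le_comap_map f T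
  rw [h3, comap_map_eq, hker] at h4
  apply le_of_le_sup (K := A)
  · exact h4.trans (sup_le_sup_right le_sup_right _)
  · exact sup_le inf_le_left inf_le_left
  · exact le_sup_left

/-- transfer: a central subgroup of `T` having a complement in `T` meets `G'` trivially. -/
theorem transfer_step {T S₀ K : Subgroup G} (hT : SylIn p T ⊤) (hST : S₀ ≤ T) (hKT : K ≤ T)
    (hKc : K ≤ center G) (hK' : K ≤ commutator G) (hsup : T ≤ S₀ ⊔ K) (hinf : S₀ ⊓ K = ⊥) : K = ⊥ := by
  obtain ⟨P, hP⟩ := hT.exists_sylow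
  subst hP
  have hKn : K.Normal := by
    refine ⟨fun n hn x => ?_⟩
    rw [mem_center_iff.1 (hKc hn) x, mul_inv_cancel_right]; exact hn
  have hdec : ∀ t ∈ (P : Subgroup G), ∃ s ∈ S₀, ∃ k ∈ K, s * k = t := by
    intro t ht
    exact (mem_sup_iff_of_le_normalizer (le_top.trans (normal_iff_top_le_normalizer.1 hKn))).1 (hsup ht)
  -- `S₀` is normal in `P` with abelian quotient
  have hn : (S₀.subgroupOf (P : Subgroup G)).Normal := by
    rw [normal_subOf_iff hST]
    intro t ht
    obtain ⟨s, hs, k, hk, rfl⟩ := hdec t ht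
    refine mul_mem (le_normalizer hs) ?_
    have h1 : k ∈ centralizer (S₀ : Set G) := by
      rw [mem_centralizer_iff]
      intro y _
      exact mem_center_iff.1 (hKc hk) y
    exact Syl.centralizer_le_normalizer S₀ h1
  have hcomm : ∀ a b : ((P : Subgroup G) ⧸ S₀.subgroupOf (P : Subgroup G)), a * b = b * a := by
    intro a b
    obtain ⟨a, rfl⟩ := QuotientGroup.mk_surjective a
    obtain ⟨b, rfl⟩ := QuotientGroup.mk_surjective b
    obtain ⟨s, hs, k, hk, ha⟩ := hdec a a.2
    obtain ⟨s', hs', k', hk', hb⟩ := hdec b b.2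
    rw [← QuotientGroup.mk_mul, ← QuotientGroup.mk_mul, QuotientGroup.eq, mem_subgroupOf]
    have h1 : (((a * b)⁻¹ * (b * a) : (P : Subgroup G)) : G) = s'⁻¹ * s⁻¹ * s' * s := by
      push_cast
      rw [← ha, ← hb]
      have hk1 : ∀ x, x * k = k * x := fun x => mem_center_iff.1 (hKc hk) x
      have hk2 : ∀ x, x * k' = k' * x := fun x => mem_center_iff.1 (hKc hk') x
      have e1 : s * k * (s' * k') = s * s' * (k * k') := by
        rw [mul_assoc, ← mul_assoc k s' k', ← hk1 s']; group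
      have e2 : s' * k' * (s * k) = s' * s * (k * k') := by
        rw [mul_assoc, ← mul_assoc k' s k, ← hk2 s, mul_assoc s k' k, ← hk2 k]; group
      rw [e1, e2]
      have e3 : (s * s' * (k * k'))⁻¹ * (s' * s * (k * k')) = (k * k')⁻¹ * (s'⁻¹ * s⁻¹ * s' * s) * (k * k') := by group
      rw [e3]
      have e4 : (s'⁻¹ * s⁻¹ * s' * s) * (k * k') = (k * k') * (s'⁻¹ * s⁻¹ * s' * s) := by
        rw [← mul_assoc, hk1, mul_assoc, hk2, ← mul_assoc]
      rw [mul_assoc, e4]; group
    rw [h1]
    exact mul_mem (mul_mem (mul_mem (inv_mem hs') (inv_mem hs)) hs') hs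
  letI : CommGroup ((P : Subgroup G) ⧸ S₀.subgroupOf (P : Subgroup G)) :=
    { (inferInstance : Group ((P : Subgroup G) ⧸ S₀.subgroupOf (P : Subgroup G))) with mul_comm := hcomm }
  let φ : (P : Subgroup G) →* ((P : Subgroup G) ⧸ S₀.subgroupOf (P : Subgroup G)) :=
    QuotientGroup.mk' (S₀.subgroupOf (P : Subgroup G))
  rw [eq_bot_iff]
  intro c hc
  have hcc : ∀ x, x * c = c * x := fun x => mem_center_iff.1 (hKc hc) x
  have key : ∀ (k : ℕ) (g₀ : G), g₀⁻¹ * c ^ k * g₀ ∈ (P : Subgroup G) → g₀⁻¹ * c ^ k * g₀ = c ^ k := by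
    intro k g₀ _
    have h1 : Commute g₀ (c ^ k) := (show Commute g₀ c from hcc g₀).pow_right k
    rw [mul_assoc, ← h1.eq, inv_mul_cancel_left]
  have h1 := MonoidHom.transfer_eq_pow φ c key
  have h2 : MonoidHom.transfer φ c = 1 := by
    have h3 : commutator G ≤ (MonoidHom.transfer φ).ker := Abelianization.commutator_subset_ker _
    exact h3 (hK' hc)
  rw [h2] at h1
  have h3 : c ^ (P : Subgroup G).index ∈ S₀ := by
    have h4 := (QuotientGroup.eq_one_iff _).1 h1.symm
    rwa [mem_subgroupOf] at h4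
  have h4 : c ^ (P : Subgroup G).index = 1 := by
    rw [← mem_bot, ← hinf]
    exact mem_inf.2 ⟨h3, K.pow_mem hc _⟩
  obtain ⟨k, hk⟩ := IsPGroup.iff_orderOf.1 P.isPGroup' ⟨c, hKT hc⟩
  rw [orderOf_mk] at hk
  have h5 : orderOf c ∣ (P : Subgroup G).index := orderOf_dvd_of_pow_eq_one h4
  rw [hk] at h5
  rw [mem_bot, ← orderOf_eq_one_iff, hk]
  have hnd := P.not_dvd_index
  rcases k with _ | k
  · rfl
  · exact absurd ((dvd_pow_self p (Nat.succ_ne_zero k)).trans h5) hnd

theorem card_lt_of_ne_top {J : Subgroup G} (h : J ≠ ⊤) : Nat.card J < Nat.card G := by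
  refine lt_of_le_of_ne (Nat.le_of_dvd Nat.card_pos (Subgroup.card_subgroup_dvd_card J)) ?_
  intro he
  exact h (Subgroup.eq_top_of_card_eq J he)

theorem card_quotient_lt {K : Subgroup G} [K.Normal] (hK : K ≠ ⊥) : Nat.card (G ⧸ K) < Nat.card G := by
  have h1 := K.card_eq_card_quotient_mul_card_subgroup
  have h2 : 1 < Nat.card K := by
    rw [Nat.one_lt_iff_ne_zero_and_ne_one]
    refine ⟨Nat.card_pos.ne', ?_⟩
    intro h; exact hK (Subgroup.eq_bot_of_card_eq K h)
  have h3 : 0 < Nat.card (G ⧸ K) := Nat.card_pos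
  rw [h1]
  exact lt_mul_of_one_lt_right h3 h2

/-- the core case: `A ∩ B = 1`, `A` and `B` normalize... -/
theorem core_case {T A B : Subgroup G} (hT : SylIn p T ⊤) (hA : A.IsSubnormal) (hB : B.IsSubnormal)
    (hAB : A ⊔ B = ⊤) (IH : ∀ (K : Subgroup G) [K.Normal], K ≠ ⊥ → P p (G ⧸ K))
    (hMB : normalClosure (A : Set G) ⊓ B ≤ A) (hNA : normalClosure (B : Set G) ⊓ A ≤ B) :
    T ≤ (T ⊓ A) ⊔ (T ⊓ B) := by
  have hS : (T ⊓ A) ⊔ (T ⊓ B) ≤ T := sup_le inf_le_left inf_le_left
  obtain ⟨M, hM⟩ : ∃ M : Subgroup G, M = normalClosure (A : Set G) := ⟨_, rfl⟩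
  obtain ⟨N, hN⟩ : ∃ N : Subgroup G, N = normalClosure (B : Set G) := ⟨_, rfl⟩
  rw [← hM] at hMB
  rw [← hN] at hNA
  have hMn : M.Normal := hM ▸ inferInstance
  have hNn : N.Normal := hN ▸ inferInstance
  have hAM : A ≤ M := hM ▸ subset_normalClosure
  have hBN : B ≤ N := hN ▸ subset_normalClosure
  have hnM : ∀ X : Subgroup G, X ≤ normalizer (M : Set G) := fun X => le_top.trans (normal_iff_top_le_normalizer.1 hMn)
  have hnN : ∀ X : Subgroup G, X ≤ normalizer (N : Set G) := fun X => le_top.trans (normal_iff_top_le_normalizer.1 hNn)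
  have h1 : M ⊓ B = A ⊓ B := le_antisymm (le_inf hMB inf_le_right) (inf_le_inf_right _ hAM)
  have h2 : N ⊓ A = A ⊓ B := le_antisymm (le_inf inf_le_right hNA) (by rw [inf_comm]; exact inf_le_inf_right _ hBN)
  have h3 : (A ⊓ B).Normal := by
    rw [normal_iff_top_le_normalizer, ← hAB]
    refine sup_le ?_ ?_
    · rw [← h2]; intro x hx
      exact normalizer_inf_le (mem_inf.2 ⟨hnN A hx, le_normalizer hx⟩)
    · rw [← h1]; intro x hx
      exact normalizer_inf_le (mem_inf.2 ⟨hnM B hx, le_normalizer hx⟩)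
  by_cases h4 : A ⊓ B = ⊥
  swap
  · apply le_of_le_sup (K := A ⊓ B) (quotient_step (IH _ h4) hT hA hB hAB) hS
    exact (inf_le_inf_left T inf_le_left).trans le_sup_left
  rw [h4] at h1 h2
  by_cases h5 : ⁅A, B⁆ = ⊥
  · -- `A` is normal
    have h6 : A.Normal := by
      rw [normal_iff_top_le_normalizer, ← hAB]
      refine sup_le le_normalizer ?_
      rw [commutator_comm, commutator_eq_bot_iff_le_centralizer] at h5
      exact h5.trans (Syl.centralizer_le_normalizer A)
    exact normal_case hT h6 hB hAB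
  · have h6 : ⊤ ≤ normalizer ((⁅A, B⁆ : Subgroup G) : Set G) := by
      rw [← hAB]
      exact sup_le (normalizer_commutator_ge_left A B) (normalizer_commutator_ge_right A B)
    obtain ⟨K, hKD, hK⟩ := exists_minN (X := (⊤ : Subgroup G)) le_top h5 h6
    have hKn : K.Normal := normal_iff_top_le_normalizer.2 hK.2.2.1
    have hDM : ⁅A, B⁆ ≤ M := (commutator_mono hAM le_rfl).trans (le_normalizer_iff_commutator_le_left.1 (hnM B))
    have hDN : ⁅A, B⁆ ≤ N := by
      rw [commutator_comm]
      exact (commutator_mono hBN le_rfl).trans (le_normalizer_iff_commutator_le_left.1 (hnN A))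
    have hKA : K ⊓ A = ⊥ := by
      rw [eq_bot_iff, ← h2]; exact inf_le_inf_right _ (hKD.trans hDN)
    have hKB : K ⊓ B = ⊥ := by
      rw [eq_bot_iff, ← h1]; exact inf_le_inf_right _ (hKD.trans hDM)
    have hcen : ∀ X : Subgroup G, X.IsSubnormal → K ⊓ X = ⊥ → X ≤ centralizer (K : Set G) := by
      intro X hX h
      have h7 := Socle.normalizes hX hK
      rw [← commutator_eq_bot_iff_le_centralizer, eq_bot_iff, ← h]
      refine le_inf ?_ ?_
      · rw [commutator_comm]
        exact le_normalizer_iff_commutator_le_left.1 (le_top.trans hK.2.2.1)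
      · exact le_normalizer_iff_commutator_le_left.1 h7
    have hKc : K ≤ center G := by
      have h7 : (⊤ : Subgroup G) ≤ centralizer (K : Set G) := by
        rw [← hAB]
        exact sup_le (hcen A hA hKA) (hcen B hB hKB)
      intro k hk
      rw [mem_center_iff]
      intro g
      exact ((mem_centralizer_iff.1 (h7 (mem_top g))) k hk).symm
    have h7 := quotient_step (IH K hK.2.1) hT hA hB hAB
    by_cases h8 : T ⊓ K ≤ (T ⊓ A) ⊔ (T ⊓ B)
    · exact le_of_le_sup h7 hS h8
    · exfalso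
      -- central subgroups are normal
      have hcn : ∀ X : Subgroup G, X ≤ K → ⊤ ≤ normalizer (X : Set G) := by
        intro X hX
        rw [← normal_iff_top_le_normalizer]
        refine ⟨fun n hn x => ?_⟩
        rw [mem_center_iff.1 (hKc (hX hn)) x, mul_inv_cancel_right]; exact hn
      have h9 : K ≤ T := by
        rcases hK.2.2.2 (T ⊓ K) inf_le_right (hcn _ inf_le_right) with h | h
        · exact absurd (h ▸ bot_le) h8
        · rw [← h]; exact inf_le_left
      have h10 : ((T ⊓ A) ⊔ (T ⊓ B)) ⊓ K = ⊥ := by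
        rcases hK.2.2.2 (((T ⊓ A) ⊔ (T ⊓ B)) ⊓ K) inf_le_right (hcn _ inf_le_right) with h | h
        · exact h
        · exfalso
          apply h8
          refine inf_le_right.trans ?_
          rw [← h]; exact inf_le_left
      exact hK.2.1 (transfer_step hT hS h9 hKc (hKD.trans (commutator_mono le_top le_top)) h7 h10)

end

theorem main [Fact p.Prime] : ∀ (n : ℕ) (G : Type u) [Group G] [Finite G], Nat.card G ≤ n → P p G := by
  intro n
  induction n with
  | zero =>
    intro G _ _ hn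
    have : 0 < Nat.card G := Nat.card_pos
    omega
  | succ n ih =>
    intro G _ _ hn T A B hT hA hB
    have IH1 : ∀ J : Subgroup G, J ≠ ⊤ → P p J := fun J hJ => ih J (by have := card_lt_of_ne_top hJ; omega)
    have IH2 : ∀ (K : Subgroup G) [K.Normal], K ≠ ⊥ → P p (G ⧸ K) := fun K _ hK =>
      ih (G ⧸ K) (by have := card_quotient_lt hK; omega)
    by_cases hAB : A ⊔ B = ⊤
    swap
    · exact of_P (IH1 _ hAB) hT (H11.SubnormalJoin.sup A B hA hB) hA hB le_sup_left le_sup_right
    have key : ∀ (m : ℕ) (A B : Subgroup G), (Nat.card G - Nat.card A) + (Nat.card G - Nat.card B) ≤ m →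
        A.IsSubnormal → B.IsSubnormal → A ⊔ B = ⊤ → T ≤ (T ⊓ A) ⊔ (T ⊓ B) := by
      intro m
      induction m with
      | zero =>
        intro A B hm _ _ _
        have h1 : Nat.card A ≤ Nat.card G := Nat.le_of_dvd Nat.card_pos (Subgroup.card_subgroup_dvd_card A)
        have h2 : A = ⊤ := eq_top_of_card_eq A (by omega)
        rw [h2, inf_top_eq]; exact le_sup_left
      | succ m ihm =>
        intro A B hm hA hB hAB
        by_cases hAt : A = ⊤
        · rw [hAt, inf_top_eq]; exact le_sup_left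
        by_cases hBt : B = ⊤
        · rw [hBt, inf_top_eq]; exact le_sup_right
        have hcl : ∀ X : Subgroup G, X.IsSubnormal → X ≠ ⊤ → normalClosure (X : Set G) ≠ ⊤ := by
          intro X hX hXt h
          obtain ⟨Y, hYn, hXY, hY⟩ := hX.exists_normal_and_le_and_lt_top_of_ne hXt
          apply hY.ne
          rw [eq_top_iff, ← h]
          exact normalClosure_le_normal hXY
        -- enlarge one of the two
        have enlarge : ∀ X Y : Subgroup G, X.IsSubnormal → Y.IsSubnormal → X ≠ ⊤ →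
            ¬ normalClosure (X : Set G) ⊓ Y ≤ X →
            Nat.card X < Nat.card (X ⊔ (normalClosure (X : Set G) ⊓ Y) : Subgroup G) ∧
            (X ⊔ (normalClosure (X : Set G) ⊓ Y)).IsSubnormal ∧
            T ⊓ (X ⊔ (normalClosure (X : Set G) ⊓ Y)) ≤ (T ⊓ X) ⊔ (T ⊓ Y) := by
          intro X Y hX hY hXt hne
          have hMn : (normalClosure (X : Set G)).Normal := inferInstance
          have h1 : (normalClosure (X : Set G) ⊓ Y).IsSubnormal := hMn.isSubnormal.inf hY
          have h2 := H11.SubnormalJoin.sup X _ hX h1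
          refine ⟨?_, h2, ?_⟩
          · have hlt : X < X ⊔ (normalClosure (X : Set G) ⊓ Y) := by
              refine lt_of_le_of_ne le_sup_left ?_
              intro he
              apply hne
              exact le_sup_right.trans he.ge
            refine lt_of_le_of_ne (Subgroup.card_le_of_le hlt.le) ?_
            intro he
            exact hlt.ne (Subgroup.eq_of_le_of_card_ge hlt.le he.ge)
          · have hle : X ⊔ (normalClosure (X : Set G) ⊓ Y) ≤ normalClosure (X : Set G) :=
              sup_le subset_normalClosure inf_le_left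
            have hnt : X ⊔ (normalClosure (X : Set G) ⊓ Y) ≠ ⊤ := by
              intro h; apply hcl X hX hXt; rw [eq_top_iff, ← h]; exact hle
            rw [of_P (IH1 _ hnt) hT h2 hX h1 le_sup_left le_sup_right]
            exact sup_le_sup_left (inf_le_inf_left T inf_le_right) _
        have hcA : Nat.card A ≤ Nat.card G := Nat.le_of_dvd Nat.card_pos (Subgroup.card_subgroup_dvd_card A)
        have hcB : Nat.card B ≤ Nat.card G := Nat.le_of_dvd Nat.card_pos (Subgroup.card_subgroup_dvd_card B)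
        by_cases h1 : normalClosure (A : Set G) ⊓ B ≤ A
        swap
        · obtain ⟨e1, e2, e3⟩ := enlarge A B hA hB hAt h1
          have e4 : Nat.card (A ⊔ (normalClosure (A : Set G) ⊓ B) : Subgroup G) ≤ Nat.card G :=
            Nat.le_of_dvd Nat.card_pos (Subgroup.card_subgroup_dvd_card _)
          have e5 := ihm _ B (by omega) e2 hB (by
            rw [eq_top_iff, ← hAB]; exact sup_le_sup_right le_sup_left _)
          exact e5.trans (sup_le e3 le_sup_right)
        by_cases h2 : normalClosure (B : Set G) ⊓ A ≤ B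
        swap
        · obtain ⟨e1, e2, e3⟩ := enlarge B A hB hA hBt h2
          have e4 : Nat.card (B ⊔ (normalClosure (B : Set G) ⊓ A) : Subgroup G) ≤ Nat.card G :=
            Nat.le_of_dvd Nat.card_pos (Subgroup.card_subgroup_dvd_card _)
          have e5 := ihm A _ (by omega) hA e2 (by
            rw [eq_top_iff, ← hAB]; exact sup_le_sup_left le_sup_left _)
          refine e5.trans (sup_le le_sup_left (e3.trans ?_))
          rw [sup_comm]
        exact core_case hT hA hB hAB IH2 h1 h2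
    rw [hAB, inf_top_eq]
    exact le_antisymm (key _ A B le_rfl hA hB hAB) (sup_le inf_le_left inf_le_left)

/-- Sylow subgroups of joins of subnormal subgroups. -/
theorem inf_sup {G : Type u} [Group G] [Finite G] [Fact p.Prime] {T A B : Subgroup G} (hT : SylIn p T ⊤)
    (hA : A.IsSubnormal) (hB : B.IsSubnormal) : T ⊓ (A ⊔ B) = (T ⊓ A) ⊔ (T ⊓ B) :=
  main _ G le_rfl T A B hT hA hB

end H52.SylJoin
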