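import Cfsg.Agent.Lib.H53.PU2

/-!
# Commuting transvections in a star configuration generate a symmetric group

`t x • v = v + [f x v = 1] c x`, `f x (c y) = 1` for `x ≠ y`, `f x (c x) = 0`, `|X|` even and nonzero.
Then `⟨t x⟩` is the symmetric group on `Option X` and `V` modulo the fixed vectors is its even weight module.
-/

set_option autoImplicit false

namespace H52.SymId

open Subgroup H53.PU

section

variable {H : Type*} [Group H] {V : Type*} [AddCommGroup V] [DistribMulAction H V]
  {X : Type*} [Fintype X]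

/-- the configuration -/
structure Cfg (t : X → H) (f : X → V →+ ZMod 2) (c : X → V) : Prop where
  faith : ∀ h : H, (∀ v : V, h • v = v) → h = 1
  two : ∀ v : V, v + v = 0
  even : Even (Fintype.card X)
  ne : Nonempty X
  act : ∀ x v, t x • v = if f x v = 1 then v + c x else v
  fc : ∀ x y, x ≠ y → f x (c y) = 1
  fcc : ∀ x, f x (c x) = 0

theorem zmod2 (a : ZMod 2) : a = 0 ∨ a = 1 := by
  revert a; decide

/-- the sum of all the functionals -/
def ss (f : X → V →+ ZMod 2) : V →+ ZMod 2 := ∑ x, f x

theorem ss_apply (f : X → V →+ ZMod 2) (v : V) : ss f v = ∑ x, f x v := by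
  unfold ss
  rw [AddMonoidHom.finsetSum_apply]

/-- the map to the permutation module -/
def Ps (f : X → V →+ ZMod 2) : V →+ (Option X → ZMod 2) where
  toFun := fun v i => match i with
    | none => ss f v
    | some x => f x v + ss f v
  map_zero' := by
    funext i
    cases i with
    | none => exact map_zero _
    | some x =>
      show f x 0 + ss f 0 = 0
      rw [map_zero, map_zero, add_zero]
  map_add' := by
    intro a b
    funext i
    cases i with
    | none => exact map_add _ _ _
    | some x =>
      show f x (a + b) + ss f (a + b) = (f x a + ss f a) + (f x b + ss f b)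
      rw [map_add, map_add]; ring

variable {t : X → H} {f : X → V →+ ZMod 2} {c : X → V}

@[simp] theorem Ps_none (v : V) : Ps f v none = ss f v := rfl
@[simp] theorem Ps_some (v : V) (x : X) : Ps f v (some x) = f x v + ss f v := rfl

theorem add_self2 (a : ZMod 2) : a + a = 0 := CharTwo.add_self_eq_zero a

variable (K : Cfg t f c)

include K in
theorem Cfg.sum_Ps (v : V) : ∑ i, Ps f v i = 0 := by
  rw [Fintype.sum_option, Ps_none]
  simp only [Ps_some]
  rw [Finset.sum_add_distrib, ← ss_apply, Finset.sum_const, Finset.card_univ, ← add_assoc, add_self2, zero_add]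
  obtain ⟨k, hk⟩ := K.even
  rw [hk, add_smul]
  exact add_self2 _

include K in
theorem Cfg.ss_c (y : X) : ss f (c y) = 1 := by
  classical
  rw [ss_apply]
  have h1 : ∀ x, f x (c y) = if x = y then 0 else 1 := by
    intro x
    split_ifs with h
    · rw [h]; exact K.fcc y
    · exact K.fc x y h
  have h2 : ∑ x, f x (c y) + 1 = ∑ x : X, (1 : ZMod 2) := by
    have h3 : (1 : ZMod 2) = ∑ x : X, (if x = y then (1 : ZMod 2) else 0) := by
      rw [Finset.sum_ite_eq' Finset.univ y]; simp
    conv_lhs => rw [h3]
    rw [← Finset.sum_add_distrib]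
    apply Finset.sum_congr rfl
    intro x _
    rw [h1 x]
    split_ifs <;> simp
  have h4 : ∑ x : X, (1 : ZMod 2) = 0 := by
    rw [Finset.sum_const, Finset.card_univ]
    obtain ⟨k, hk⟩ := K.even
    rw [hk, add_smul]
    exact add_self2 _
  rw [h4] at h2
  rcases zmod2 (∑ x, f x (c y)) with h | h
  · rw [h, zero_add] at h2
    exact absurd h2 (by decide)
  · exact h

include K in
theorem Cfg.Ps_c_none (y : X) : Ps f (c y) none = 1 := K.ss_c y

include K in
theorem Cfg.Ps_c_same (y : X) : Ps f (c y) (some y) = 1 := by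
  rw [Ps_some, K.fcc, K.ss_c, zero_add]

include K in
theorem Cfg.Ps_c_diff {x y : X} (h : x ≠ y) : Ps f (c y) (some x) = 0 := by
  rw [Ps_some, K.fc x y h, K.ss_c, add_self2]

omit [Group H] [DistribMulAction H V] in
theorem f_eq (v : V) (x : X) : f x v = Ps f v none + Ps f v (some x) := by
  rw [Ps_none, Ps_some, add_comm (f x v), ← add_assoc, add_self2, zero_add]

theorem add2_eq_zero {a b : ZMod 2} : a + b = 0 ↔ a = b := by
  revert a b; decide

open Classical in
include K in
theorem Cfg.Ps_t (x : X) (v : V) (i : Option X) :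
    Ps f (t x • v) i = Ps f v (Equiv.swap none (some x) i) := by
  rw [K.act]
  rcases zmod2 (f x v) with h0 | h1
  · rw [if_neg (by rw [h0]; decide)]
    have h2 := f_eq (f := f) v x
    rw [h0, eq_comm, add2_eq_zero] at h2
    cases i with
    | none => rw [Equiv.swap_apply_left, h2]
    | some y =>
      by_cases hy : y = x
      · rw [hy, Equiv.swap_apply_right, h2]
      · rw [Equiv.swap_apply_of_ne_of_ne (by simp) (by simpa using hy)]
  · rw [if_pos h1, map_add, Pi.add_apply]
    have h2 := f_eq (f := f) v x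
    rw [h1] at h2
    cases i with
    | none =>
      rw [Equiv.swap_apply_left, K.Ps_c_none, h2, ← add_assoc, add_self2, zero_add]
    | some y =>
      by_cases hy : y = x
      · rw [hy, Equiv.swap_apply_right, K.Ps_c_same, h2, add_comm (Ps f v none), ← add_assoc, add_self2, zero_add]
      · rw [Equiv.swap_apply_of_ne_of_ne (by simp) (by simpa using hy), K.Ps_c_diff hy, add_zero]

include K in
theorem Cfg.c_ne (x : X) : c x ≠ 0 := by
  intro h
  have h1 := K.ss_c x
  rw [h, map_zero] at h1
  exact absurd h1 (by decide)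

/-- the combination of centres -/
noncomputable def comb (c : X → V) (u : Option X → ZMod 2) : V :=
  open Classical in ∑ x, if u (some x) = 1 then c x else 0

theorem comb_mem (c : X → V) (u : Option X → ZMod 2) : comb c u ∈ AddSubgroup.closure (Set.range c) := by
  classical
  unfold comb
  apply sum_mem
  intro x _
  split_ifs
  · exact AddSubgroup.subset_closure ⟨x, rfl⟩
  · exact zero_mem _

include K in
theorem Cfg.Ps_comb_some (u : Option X → ZMod 2) (x : X) : Ps f (comb c u) (some x) = u (some x) := by
  classical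
  unfold comb
  rw [map_sum, Finset.sum_apply]
  rw [Finset.sum_eq_single x]
  · split_ifs with h
    · rw [K.Ps_c_same, h]
    · rw [map_zero]
      rcases zmod2 (u (some x)) with h1 | h1
      · rw [h1]; rfl
      · exact absurd h1 h
  · intro y _ hy
    split_ifs
    · exact K.Ps_c_diff hy.symm
    · rw [map_zero]; rfl
  · intro h; exact absurd (Finset.mem_univ _) h

theorem ext_some {u w : Option X → ZMod 2} (hu : ∑ i, u i = 0) (hw : ∑ i, w i = 0)
    (h : ∀ x, u (some x) = w (some x)) : u = w := by
  funext i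
  cases i with
  | some x => exact h x
  | none =>
    rw [Fintype.sum_option] at hu hw
    have h1 : ∑ x, u (some x) = ∑ x, w (some x) := Finset.sum_congr rfl fun x _ => h x
    rw [h1] at hu
    rw [add2_eq_zero] at hu hw
    rw [hu, hw]

include K in
theorem Cfg.Ps_comb {u : Option X → ZMod 2} (hu : ∑ i, u i = 0) : Ps f (comb c u) = u :=
  ext_some (K.sum_Ps _) hu (K.Ps_comb_some u)

include K in
/-- elements of the span of the centres are combinations -/
theorem Cfg.eq_comb {v : V} (hv : v ∈ AddSubgroup.closure (Set.range c)) : v = comb c (Ps f v) := by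
  classical
  induction hv using AddSubgroup.closure_induction with
  | mem v hv =>
    obtain ⟨y, rfl⟩ := hv
    unfold comb
    rw [Finset.sum_eq_single y]
    · rw [if_pos (K.Ps_c_same y)]
    · intro z _ hz
      rw [if_neg]
      rw [K.Ps_c_diff hz]; decide
    · intro h; exact absurd (Finset.mem_univ _) h
  | zero =>
    unfold comb
    rw [map_zero]
    rw [Finset.sum_eq_zero]
    intro x _
    rw [if_neg]
    show ¬ (0 : ZMod 2) = 1
    decide
  | add a b _ _ ha hb =>
    conv_lhs => rw [ha, hb]
    unfold comb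
    rw [← Finset.sum_add_distrib]
    apply Finset.sum_congr rfl
    intro x _
    rw [map_add, Pi.add_apply]
    rcases zmod2 (Ps f a (some x)) with h1 | h1 <;> rcases zmod2 (Ps f b (some x)) with h2 | h2 <;>
      rw [h1, h2]
    · rw [if_neg (by decide), if_neg (by decide), add_zero]
    · rw [if_neg (by decide), if_pos rfl, if_pos (by decide), zero_add]
    · rw [if_pos rfl, if_neg (by decide), if_pos (by decide), add_zero]
    · rw [if_pos rfl, if_neg (by decide), K.two]
  | neg a _ ha =>
    have h1 : -a = a := by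
      rw [neg_eq_iff_add_eq_zero]; exact K.two a
    rw [h1]
    exact ha

include K in
theorem Cfg.inter {v : V} (hv : v ∈ AddSubgroup.closure (Set.range c)) (h0 : Ps f v = 0) : v = 0 := by
  classical
  rw [K.eq_comb hv, h0]
  unfold comb
  rw [Finset.sum_eq_zero]
  intro x _
  rw [if_neg]
  show ¬ (0 : ZMod 2) = 1
  decide

include K in
theorem Cfg.Ps_zero_iff (v : V) : Ps f v = 0 ↔ ∀ h ∈ closure (Set.range t), h • v = v := by
  constructor
  · intro h0 h hh
    have h1 : ∀ x, f x v = 0 := by
      intro x
      rw [f_eq (f := f), h0]; rfl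
    induction hh using Subgroup.closure_induction with
    | mem h hh =>
      obtain ⟨x, rfl⟩ := hh
      rw [K.act, if_neg]
      rw [h1]; decide
    | one => exact one_smul _ _
    | mul a b _ _ ha hb => rw [mul_smul, hb, ha]
    | inv a _ ha => rw [inv_smul_eq_iff, ha]
  · intro h
    have h1 : ∀ x, f x v = 0 := by
      intro x
      rcases zmod2 (f x v) with h2 | h2
      · exact h2
      · exfalso
        have h3 := h (t x) (subset_closure ⟨x, rfl⟩)
        rw [K.act, if_pos h2] at h3
        exact K.c_ne x (by simpa using h3)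
    have h2 : ss f v = 0 := by
      rw [ss_apply]
      exact Finset.sum_eq_zero fun x _ => h1 x
    funext i
    cases i with
    | none => exact h2
    | some x => rw [Ps_some, h1, h2]; rfl

include K in
theorem Cfg.sub_mem {h : H} (hh : h ∈ closure (Set.range t)) (v : V) :
    h • v - v ∈ AddSubgroup.closure (Set.range c) := by
  induction hh using Subgroup.closure_induction generalizing v with
  | mem h hh =>
    obtain ⟨x, rfl⟩ := hh
    rw [K.act]
    split_ifs
    · rw [add_sub_cancel_left]
      exact AddSubgroup.subset_closure ⟨x, rfl⟩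
    · rw [sub_self]; exact zero_mem _
  | one => rw [one_smul, sub_self]; exact zero_mem _
  | mul a b _ _ ha hb =>
    have : (a * b) • v - v = (a • (b • v) - b • v) + (b • v - v) := by rw [mul_smul]; abel
    rw [this]
    exact add_mem (ha _) (hb _)
  | inv a _ ha =>
    have h1 := ha (a⁻¹ • v)
    rw [smul_inv_smul] at h1
    have : a⁻¹ • v - v = -(v - a⁻¹ • v) := by abel
    rw [this]
    exact neg_mem h1

include K in
/-- existence of the permutation -/
theorem Cfg.exists_perm {h : H} (hh : h ∈ closure (Set.range t)) :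
    ∃ σ : Equiv.Perm (Option X), ∀ v i, Ps f (h • v) i = Ps f v (σ⁻¹ i) := by
  classical
  induction hh using Subgroup.closure_induction with
  | mem h hh =>
    obtain ⟨x, rfl⟩ := hh
    refine ⟨Equiv.swap none (some x), ?_⟩
    intro v i
    rw [K.Ps_t, Equiv.swap_inv]
  | one => exact ⟨1, fun v i => by rw [one_smul, inv_one]; rfl⟩
  | mul a b _ _ ha hb =>
    obtain ⟨σ, hσ⟩ := ha
    obtain ⟨τ, hτ⟩ := hb
    refine ⟨σ * τ, ?_⟩
    intro v i
    rw [mul_smul, hσ, hτ, mul_inv_rev]; rfl
  | inv a _ ha =>
    obtain ⟨σ, hσ⟩ := ha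
    refine ⟨σ⁻¹, ?_⟩
    intro v i
    rw [inv_inv]
    have h1 := hσ (a⁻¹ • v) (σ i)
    rw [smul_inv_smul] at h1
    rw [h1]; simp

include K in
/-- uniqueness of the permutation -/
theorem Cfg.perm_unique {σ τ : Equiv.Perm (Option X)} (h : ∀ v i, Ps f v (σ⁻¹ i) = Ps f v (τ⁻¹ i)) : σ = τ := by
  classical
  rw [← inv_inj]
  ext1 i
  by_contra hne
  obtain ⟨x0⟩ := K.ne
  -- a third point
  have h3 : 3 ≤ Fintype.card (Option X) := by
    rw [Fintype.card_option]
    obtain ⟨k, hk⟩ := K.even
    have : 0 < Fintype.card X := Fintype.card_pos_iff.2 ⟨x0⟩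
    omega
  obtain ⟨j, hj⟩ : ∃ j, j ∉ ({σ⁻¹ i, τ⁻¹ i} : Finset (Option X)) := by
    by_contra hcon
    push Not at hcon
    have h4 : (Finset.univ : Finset (Option X)) ⊆ {σ⁻¹ i, τ⁻¹ i} := fun j _ => hcon j
    have h5 := Finset.card_le_card h4
    rw [Finset.card_univ] at h5
    have h6 : ({σ⁻¹ i, τ⁻¹ i} : Finset (Option X)).card ≤ 2 := Finset.card_le_two
    omega
  rw [Finset.mem_insert, Finset.mem_singleton, not_or] at hj
  let u : Option X → ZMod 2 := fun k => (if k = σ⁻¹ i then 1 else 0) + (if k = j then 1 else 0)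
  have hu : ∑ k, u k = 0 := by
    show ∑ k, ((if k = σ⁻¹ i then (1 : ZMod 2) else 0) + (if k = j then 1 else 0)) = 0
    rw [Finset.sum_add_distrib, Finset.sum_ite_eq', Finset.sum_ite_eq']
    simp only [Finset.mem_univ, if_true]
    decide
  have h7 := h (comb c u) i
  rw [K.Ps_comb hu] at h7
  have h8 : u (σ⁻¹ i) = 1 := by
    show (if σ⁻¹ i = σ⁻¹ i then (1 : ZMod 2) else 0) + (if σ⁻¹ i = j then 1 else 0) = 1
    rw [if_pos rfl, if_neg (fun h => hj.1 h.symm), add_zero]
  have h9 : u (τ⁻¹ i) = 0 := by
    show (if τ⁻¹ i = σ⁻¹ i then (1 : ZMod 2) else 0) + (if τ⁻¹ i = j then 1 else 0) = 0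
    rw [if_neg (fun h => hne h.symm), if_neg (fun h => hj.2 h.symm), add_zero]
  rw [h8, h9] at h7
  exact absurd h7 (by decide)

/-- the permutation -/
noncomputable def Cfg.pr (h : closure (Set.range t)) : Equiv.Perm (Option X) :=
  Classical.choose (K.exists_perm h.2)

theorem Cfg.pr_spec (h : closure (Set.range t)) (v : V) (i : Option X) :
    Ps f ((h : H) • v) i = Ps f v ((K.pr h)⁻¹ i) := Classical.choose_spec (K.exists_perm h.2) v i

/-- the homomorphism -/
noncomputable def Cfg.hom : closure (Set.range t) →* Equiv.Perm (Option X) where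
  toFun := K.pr
  map_one' := by
    apply K.perm_unique
    intro v i
    rw [← K.pr_spec, OneMemClass.coe_one, one_smul, inv_one]; rfl
  map_mul' := by
    intro a b
    apply K.perm_unique
    intro v i
    rw [← K.pr_spec, Subgroup.coe_mul, mul_smul, K.pr_spec, K.pr_spec, mul_inv_rev]; rfl

theorem Cfg.hom_inj : Function.Injective K.hom := by
  rw [injective_iff_map_eq_one]
  intro h hh
  apply Subtype.ext
  apply K.faith
  intro v
  have h1 : Ps f ((h : H) • v) = Ps f v := by
    funext i
    rw [K.pr_spec]
    have : K.pr h = 1 := hh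
    rw [this, inv_one]; rfl
  have h2 := K.inter (K.sub_mem h.2 v) (by rw [map_sub, h1, sub_self])
  exact sub_eq_zero.1 h2

open Classical in
theorem Cfg.hom_t (x : X) : K.hom ⟨t x, subset_closure ⟨x, rfl⟩⟩ = Equiv.swap none (some x) := by
  apply K.perm_unique
  intro v i
  have h1 := K.pr_spec ⟨t x, subset_closure ⟨x, rfl⟩⟩ v i
  show Ps f v ((K.pr ⟨t x, subset_closure ⟨x, rfl⟩⟩)⁻¹ i) = _
  rw [← h1, Equiv.swap_inv]
  exact K.Ps_t x v i

theorem Cfg.hom_surj : Function.Surjective K.hom := by
  classical
  rw [← MonoidHom.range_eq_top, eq_top_iff, ← Equiv.Perm.closure_isSwap, Subgroup.closure_le]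
  have h0 : ∀ x : X, Equiv.swap none (some x) ∈ K.hom.range := fun x => ⟨_, K.hom_t x⟩
  rintro σ ⟨i, j, hij, rfl⟩
  cases i with
  | none =>
    cases j with
    | none => exact absurd rfl hij
    | some y => exact h0 y
  | some x =>
    cases j with
    | none => rw [Equiv.swap_comm]; exact h0 x
    | some y =>
      have h1 : Equiv.swap (some x) (some y) =
          Equiv.swap none (some x) * Equiv.swap none (some y) * (Equiv.swap none (some x))⁻¹ := by
        rw [Equiv.swap_comm none (some y), ← Equiv.swap_apply_apply]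
        have h2 : Equiv.swap none (some x) none = some x := Equiv.swap_apply_left _ _
        have h3 : Equiv.swap none (some x) (some y) = some y :=
          Equiv.swap_apply_of_ne_of_ne (by simp) (fun h => hij h.symm)
        rw [h2, h3, Equiv.swap_comm]
      rw [h1]
      exact mul_mem (mul_mem (h0 x) (h0 y)) (inv_mem (h0 x))

include K in
/-- **the star theorem** -/
theorem Cfg.main : ∃ (ρ : closure (Set.range t) ≃* Equiv.Perm (Option X)) (Ψ : V →+ (Option X → ZMod 2)),
    (∀ v, ∑ i, Ψ v i = 0) ∧
    (∀ u : Option X → ZMod 2, ∑ i, u i = 0 → ∃ v ∈ AddSubgroup.closure (Set.range c), Ψ v = u) ∧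
    (∀ v, Ψ v = 0 ↔ ∀ h ∈ closure (Set.range t), h • v = v) ∧
    (∀ (h : closure (Set.range t)) v i, Ψ ((h : H) • v) i = Ψ v ((ρ h)⁻¹ i)) := by
  refine ⟨MulEquiv.ofBijective K.hom ⟨K.hom_inj, K.hom_surj⟩, Ps f, K.sum_Ps, ?_, K.Ps_zero_iff, ?_⟩
  · intro u hu
    exact ⟨comb c u, comb_mem c u, K.Ps_comb hu⟩
  · intro h v i
    exact K.pr_spec h v i

end

end H52.SymId
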