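import Cfsg.Agent.Lib.H52.ThompNPC3

/-!
# Thompson's normal p-complement theorem (abelian version of J): p = 2, S₄-free, and the final induction
-/

set_option autoImplicit false

namespace H52.ThompNPC4

open Subgroup H14.MaxIn H14.ZJ H14.ZJ2 H14.ZJ3 H14.ZJ4 H14.GlNPC H14.GlNPC2 Cfsg H38.Basic H52.ThompNPC
  H52.ThompNPC2 H52.ThompNPC3
open scoped commutatorElement

variable {G : Type*} [Group G] [Finite G]

/-- index of centralizers: the counting step -/
theorem relIndex_le_two {P A B V W : Subgroup G} {a : G} (hA : A ∈ maxIn false 2 P) (hVP : V ≤ P)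
    (hVc : V ≤ centralizer (V : Set G)) (hBA : B ≤ A) (ha : a ∈ A) (haB : a ∉ B)
    (hcov : ∀ u ∈ A, u ∈ B ∨ u * a⁻¹ ∈ B) (hW : W = V ⊓ centralizer (B : Set G)) :
    (W ⊓ centralizer ({a} : Set G)).relIndex W ≤ 2 := by
  have hAc : ∀ x ∈ A, ∀ y ∈ A, x * y = y * x := fun x hx y hy => hA.2.1.comm hx hy
  have h1 : (B.subgroupOf A).index = 2 := by
    rw [index_eq_two_iff]
    refine ⟨⟨a⁻¹, inv_mem ha⟩, ?_⟩
    rintro ⟨u, hu⟩
    by_cases huB : u ∈ B
    · right
      refine ⟨huB, ?_⟩
      intro h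
      apply haB
      have h2 : u * a⁻¹ ∈ B := h
      have h3 : a = (u * a⁻¹)⁻¹ * u := by group
      rw [h3]; exact mul_mem (inv_mem h2) huB
    · left
      exact ⟨(hcov u hu).resolve_left huB, huB⟩
  have h2 : Nat.card B * 2 = Nat.card A := by
    have h3 : Nat.card B * B.relIndex A = Nat.card A := H14.Repl2.card_mul_relIndex hBA
    have h4 : B.relIndex A = 2 := h1
    rw [h4] at h3; exact h3
  have hWV : W ≤ V := hW ▸ inf_le_left
  have hWB : W ≤ centralizer (B : Set G) := hW ▸ inf_le_right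
  have hWc : ∀ x ∈ W, ∀ y ∈ W, x * y = y * x := fun x hx y hy =>
    mem_centralizer_iff.1 (hVc (hWV hy)) x (hWV hx)
  have hBW : ∀ x ∈ B, ∀ y ∈ W, x * y = y * x := fun x hx y hy =>
    mem_centralizer_iff.1 (hWB hy) x hx
  have h5 : PrE false 2 (B ⊔ W) := prE_of (comm_sup_of (fun x hx y hy => hAc x (hBA hx) y (hBA hy)) hWc hBW)
    (by simp)
  have h6 := hA.2.2 (B ⊔ W) (sup_le (hBA.trans hA.1) (hWV.trans hVP)) h5
  have h7 := H13.Thompson.card_sup_mul_card_inf (A := B) (B := W) (by
    refine le_trans ?_ (centralizer_le_normalizer _)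
    intro x hx
    rw [mem_centralizer_iff]
    intro y hy
    exact (hBW x hx y hy).symm)
  have h8 : B ⊓ W ≤ W ⊓ centralizer ({a} : Set G) := by
    intro x hx
    refine mem_inf.2 ⟨(mem_inf.1 hx).2, ?_⟩
    rw [mem_centralizer_singleton_iff]
    exact hAc x (hBA (mem_inf.1 hx).1) a ha
  have h9 := Subgroup.card_le_of_le h8
  have h10 : Nat.card (W ⊓ centralizer ({a} : Set G) : Subgroup G) *
      (W ⊓ centralizer ({a} : Set G)).relIndex W = Nat.card W := H14.Repl2.card_mul_relIndex inf_le_left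
  have hB0 : 0 < Nat.card B := Nat.card_pos
  have hC0 : 0 < Nat.card (W ⊓ centralizer ({a} : Set G) : Subgroup G) := Nat.card_pos
  have h11 : Nat.card B * Nat.card W ≤ Nat.card B * (2 * Nat.card (B ⊓ W : Subgroup G)) := by
    rw [← h7]
    calc Nat.card (B ⊔ W : Subgroup G) * Nat.card (B ⊓ W : Subgroup G) ≤
        Nat.card A * Nat.card (B ⊓ W : Subgroup G) := Nat.mul_le_mul_right _ h6
      _ = Nat.card B * (2 * Nat.card (B ⊓ W : Subgroup G)) := by rw [← h2]; ring
  have h12 := Nat.le_of_mul_le_mul_left h11 hB0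
  have h13 : Nat.card (W ⊓ centralizer ({a} : Set G) : Subgroup G) *
      (W ⊓ centralizer ({a} : Set G)).relIndex W ≤
      Nat.card (W ⊓ centralizer ({a} : Set G) : Subgroup G) * 2 := by
    rw [h10]; omega
  exact Nat.le_of_mul_le_mul_left h13 hC0

theorem final_two [Fact (Nat.Prime 2)] (hIH : IHs 2 G) (hIHq : IHq 2 G)
    (hfree : ¬ Involves (Equiv.Perm (Fin 4)) G) (P : Sylow 2 G)
    (hN : Hyp 2 (P : Subgroup G)) : HasNormalPComplement 2 G := by
  classical
  by_contra h
  apply hfree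
  have hq := npc_quotient hIH hIHq P h hN
  have hO := pPrimeCore_eq_bot hIHq P h hN
  have hC := H37.PSolv.centralizer_pCore_le (isPSolvable_of_quotient hq) hO
  have hCV := centralizer_VV_le hO P hC hN
  have hAex := exists_maxIn_not_le P h hN
  set H := pCore 2 G with hH
  have hHn : H.Normal := H1.Cores.pCore_normal 2
  have hHp : IsPGroup 2 H := H1.Cores.isPGroup_pCore 2
  have hHP : H ≤ (P : Subgroup G) := H1.Cores.pCore_le_sylow P
  have hVn := VV_normal (p := 2) H
  have hVH : VV 2 H ≤ H := VV_le (p := 2) H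
  have hHV : H ≤ centralizer (VV 2 H : Set G) := by
    intro x hx
    rw [mem_centralizer_iff]
    intro v hv
    exact VV_comm (p := 2) H hv hx
  have hV2 : ∀ v ∈ VV 2 H, v ^ 2 = 1 := fun v hv => hv.2
  set V := VV 2 H with hVdef
  have hVc : V ≤ centralizer (V : Set G) := hVH.trans hHV
  have hVp : IsPGroup 2 V := hHp.to_le hVH
  have hVab : IsMulCommutative V := ⟨⟨fun x y => Subtype.ext (mem_centralizer_iff.1 (hVc y.2) x x.2)⟩⟩
  obtain ⟨A, hA, hAH, hVA⟩ := exists_maxIn_normalized P.2 V hVab (hVH.trans hHP)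
    (by rw [normalizer_eq_top]; exact le_top) hHP hHV hAex
  have hAc : ∀ x ∈ A, ∀ y ∈ A, x * y = y * x := fun x hx y hy => hA.2.1.comm hx hy
  have hsq : ∀ a ∈ A, a ^ 2 ∈ H := by
    intro a ha
    apply hCV
    rw [mem_centralizer_iff]
    intro v hv
    set z := v * a * v⁻¹ * a⁻¹ with hz
    have hzV : z ∈ V := by
      have : z = v * (a * v⁻¹ * a⁻¹) := by rw [hz]; group
      rw [this]; exact mul_mem hv (hVn.conj_mem _ (inv_mem hv) a)
    have hzA : z ∈ A := mul_mem ((mem_normalizer_iff.1 (hVA hv) a).1 ha) (inv_mem ha)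
    have h1 : v * a * v⁻¹ = z * a := by rw [hz]; group
    have h2 : z * a = a * z := hAc z hzA a ha
    have h3 : v * a ^ 2 * v⁻¹ = a ^ 2 := by
      calc v * a ^ 2 * v⁻¹ = (v * a * v⁻¹) * (v * a * v⁻¹) := by rw [pow_two]; group
        _ = (z * a) * (z * a) := by rw [h1]
        _ = z * (a * z) * a := by group
        _ = z * (z * a) * a := by rw [h2]
        _ = z ^ 2 * a ^ 2 := by rw [pow_two, pow_two]; group
        _ = a ^ 2 := by rw [hV2 z hzV, one_mul]
    calc v * a ^ 2 = (v * a ^ 2 * v⁻¹) * v := by group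
      _ = a ^ 2 * v := by rw [h3]
  -- the quotient
  set π := QuotientGroup.mk' H with hπ
  have hπs : Function.Surjective π := QuotientGroup.mk'_surjective H
  have hker : π.ker = H := QuotientGroup.ker_mk' H
  have hker' : ∀ x, π x = 1 ↔ x ∈ H := fun x => by rw [← MonoidHom.mem_ker, hker]
  set P' := P.mapSurjective hπs with hP'
  have hP'c : (P' : Subgroup (G ⧸ H)) = (P : Subgroup G).map π := rfl
  have hRP := (H2.NPC.isComplement'_residual_of_hasNPC hq P').sup_eq_top
  have hRc := (H2.NPC.iff_not_dvd_card_residual).mp hq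
  set R := pResidual 2 (G ⧸ H) with hR
  have hRn : R.Normal := by rw [hR]; infer_instance
  set A' := A.map π with hA'
  have hA'P : A' ≤ (P' : Subgroup (G ⧸ H)) := map_mono hA.1
  have hA'c : ∀ x ∈ A', ∀ y ∈ A', x * y = y * x := by
    rintro _ ⟨x, hx, rfl⟩ _ ⟨y, hy, rfl⟩
    rw [← map_mul, hAc x hx y hy, map_mul]
  have hA'e : ∀ x ∈ A', x ^ 2 = 1 := by
    rintro _ ⟨x, hx, rfl⟩
    rw [← map_pow]
    exact (hker' _).2 (hsq x hx)
  have hne : ¬ R ≤ centralizer (A' : Set (G ⧸ H)) := by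
    intro hle
    apply hAH
    set Z := (P' : Subgroup (G ⧸ H)) ⊓ centralizer (R : Set (G ⧸ H)) with hZ
    have hZn : Z.Normal := by
      rw [← normalizer_eq_top_iff, eq_top_iff, ← hRP]
      refine sup_le ?_ ?_
      · intro s hs
        refine centralizer_le_normalizer _ ?_
        rw [mem_centralizer_iff]
        intro z hz
        exact (mem_centralizer_iff.mp (mem_inf.mp hz).2 s hs).symm
      · exact H1.Coprime2.le_normalizer_inf le_normalizer (H1.Coprime2.le_normalizer_centralizer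
          (by rw [normalizer_eq_top]; exact le_top))
    have hZb : Z = ⊥ := by
      have h2 : Z ≤ pCore 2 (G ⧸ H) := H1.Cores.le_pCore hZn (P'.2.to_le inf_le_left)
      exact le_bot_iff.mp (h2.trans (H1.Cores.pCore_quotient_pCore (G := G) 2).le)
    intro a ha
    rw [← hker', ← mem_bot, ← hZb]
    refine mem_inf.mpr ⟨mem_map_of_mem π (hA.1 ha), ?_⟩
    rw [mem_centralizer_iff]
    intro s hs
    exact (mem_centralizer_iff.1 (hle hs) (π a) (mem_map_of_mem π ha)).symm
  have hcop : (Nat.card A').Coprime (Nat.card R) := by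
    obtain ⟨m, hm⟩ := (P'.2.to_le hA'P).exists_card_eq
    rw [hm]
    exact ((Nat.Prime.coprime_iff_not_dvd Nat.prime_two).mpr hRc).pow_left m
  obtain ⟨B', hB'A, a', haA', haB', hABa, x, hx, hxa⟩ := exists_hyperplane A' R hA'c hA'e
    (by rw [normalizer_eq_top]; exact le_top) hcop hne
  obtain ⟨a, ha, rfl⟩ := haA'
  -- the inverted element
  set y₀ := x⁻¹ * (π a * x * (π a)⁻¹) with hy₀
  have hy₀R : y₀ ∈ R := mul_mem (inv_mem (mem_inf.1 hx).1) (hRn.conj_mem _ (mem_inf.1 hx).1 _)
  have hπaA : π a ∈ A' := mem_map_of_mem π ha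
  have ha2 : π a * π a = 1 := by rw [← pow_two]; exact hA'e _ hπaA
  have ha2' : (π a)⁻¹ = π a := inv_eq_of_mul_eq_one_left ha2
  have hy₀B : ∀ b ∈ B', b * y₀ = y₀ * b := by
    intro b hb
    have h1 : Commute b x := mem_centralizer_iff.1 (mem_inf.1 hx).2 b hb
    have h2 : Commute b (π a) := hA'c b (hB'A hb) (π a) hπaA
    exact (h1.inv_right.mul_right ((h2.mul_right h1).mul_right h2.inv_right)).eq
  have hy₀1 : y₀ ≠ 1 := by
    intro h1
    apply hxa
    rw [hy₀, inv_mul_eq_one] at h1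
    calc x * π a = (π a * x * (π a)⁻¹) * π a := by rw [← h1]
      _ = π a * x := by group
  have hinv : π a * y₀ * (π a)⁻¹ = y₀⁻¹ := by
    rw [hy₀, ha2']
    calc π a * (x⁻¹ * (π a * x * π a)) * π a = π a * x⁻¹ * π a * x * (π a * π a) := by group
      _ = π a * x⁻¹ * π a * x := by rw [ha2, mul_one]
      _ = (π a)⁻¹ * x⁻¹ * (π a)⁻¹ * x := by rw [ha2']
      _ = (x⁻¹ * (π a * x * π a))⁻¹ := by group
  obtain ⟨y₁, hy₁⟩ := hπs y₀
  have hy₁H : y₁ ∉ H := fun h1 => hy₀1 (by rw [← hy₁]; exact (hker' _).2 h1)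
  obtain ⟨y, hyz, hyo, hyH⟩ := exists_pprime_power (p := 2) hy₁H ⟨Nat.card R, hRc, by
    rw [← hker', map_pow, hy₁]
    exact congrArg Subtype.val (pow_card_eq_one' (x := (⟨y₀, hy₀R⟩ : R)))⟩
  obtain ⟨k, rfl⟩ := hyz
  set y : G := y₁ ^ k with hydef
  have hπy : π y = y₀ ^ k := by rw [hydef, map_zpow, hy₁]
  have hyinv : π a * π y * (π a)⁻¹ = (π y)⁻¹ := by
    rw [hπy, ← conj_zpow, hinv, inv_zpow]
  have hyB : ∀ b ∈ B', b * π y = π y * b := by
    intro b hb
    rw [hπy]
    exact ((show Commute b y₀ from hy₀B b hb).zpow_right k).eq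
  have hyodd : Odd (orderOf y) := Nat.coprime_two_right.1 hyo
  set B := A ⊓ B'.comap π with hB
  have hBA : B ≤ A := inf_le_left
  have hBπ : ∀ b ∈ B, π b ∈ B' := fun b hb => (mem_inf.1 hb).2
  have haB : a ∉ B := fun h1 => haB' (hBπ a h1)
  have hcov : ∀ u ∈ A, u ∈ B ∨ u * a⁻¹ ∈ B := by
    intro u hu
    have h1 : π u ∈ B' ⊔ zpowers (π a) := by rw [← hABa]; exact mem_map_of_mem π hu
    obtain ⟨j, hj⟩ := mem_sup_zp_comm (fun b hb => hA'c _ hπaA b (hB'A hb)) h1
    rcases Int.even_or_odd' j with ⟨i, hi | hi⟩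
    · left
      refine mem_inf.2 ⟨hu, ?_⟩
      have h2 : π a ^ j = 1 := by
        rw [hi, zpow_mul]
        have : π a ^ (2 : ℤ) = 1 := by
          rw [show (2 : ℤ) = ((2 : ℕ) : ℤ) from rfl, zpow_natCast]; exact hA'e _ hπaA
        rw [this, one_zpow]
      rw [h2, inv_one, mul_one] at hj
      exact hj
    · right
      refine mem_inf.2 ⟨mul_mem hu (inv_mem ha), ?_⟩
      have h2 : π a ^ j = π a := by
        rw [hi, zpow_add, zpow_mul, zpow_one]
        have : π a ^ (2 : ℤ) = 1 := by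
          rw [show (2 : ℤ) = ((2 : ℕ) : ℤ) from rfl, zpow_natCast]; exact hA'e _ hπaA
        rw [this, one_zpow, one_mul]
      rw [h2, ← map_inv, ← map_mul] at hj
      exact hj
  set W := V ⊓ centralizer (B : Set G) with hW
  have hWV : W ≤ V := inf_le_left
  have hWc : W ≤ centralizer (W : Set G) :=
    hWV.trans (hVc.trans (centralizer_le (SetLike.coe_subset_coe.2 hWV)))
  have hWp : IsPGroup 2 W := hVp.to_le hWV
  have hHW : H ≤ centralizer (W : Set G) := hHV.trans (centralizer_le (SetLike.coe_subset_coe.2 hWV))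
  have hidx1 := relIndex_le_two hA (hVH.trans hHP) hVc hBA ha haB hcov hW
  have hyW : y ∈ normalizer (W : Set G) := by
    apply mem_normalizer_fintype
    intro w hw
    refine mem_inf.2 ⟨hVn.conj_mem _ (hWV hw) y, ?_⟩
    rw [mem_centralizer_iff]
    intro b hb
    have h1 : b⁻¹ * (y⁻¹ * b * y) ∈ H := by
      rw [← hker', map_mul, map_mul, map_mul, map_inv, map_inv, mul_assoc (π y)⁻¹, hyB _ (hBπ b hb)]
      group
    set g := b⁻¹ * (y⁻¹ * b * y) with hg
    have h2 : y⁻¹ * b * y = b * g := by rw [hg]; group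
    have h3 : g * w = w * g := (mem_centralizer_iff.1 (hHW h1) w hw).symm
    have h4 : b * w = w * b := mem_centralizer_iff.1 (mem_inf.1 hw).2 b hb
    calc b * (y * w * y⁻¹) = y * ((y⁻¹ * b * y) * w) * y⁻¹ := by group
      _ = y * (b * (g * w)) * y⁻¹ := by rw [h2]; group
      _ = y * ((b * w) * g) * y⁻¹ := by rw [h3]; group
      _ = y * (w * (b * g)) * y⁻¹ := by rw [h4]; group
      _ = y * w * y⁻¹ * b := by rw [← h2]; group
  have haW : a ∈ normalizer (W : Set G) := by
    apply mem_normalizer_fintype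
    intro w hw
    refine mem_inf.2 ⟨hVn.conj_mem _ (hWV hw) a, ?_⟩
    rw [mem_centralizer_iff]
    intro b hb
    have h1 : b * a = a * b := hAc b (hBA hb) a ha
    have h4 : b * w = w * b := mem_centralizer_iff.1 (mem_inf.1 hw).2 b hb
    calc b * (a * w * a⁻¹) = (b * a) * w * a⁻¹ := by group
      _ = a * (b * w) * a⁻¹ := by rw [h1]; group
      _ = a * w * (a⁻¹ * (a * b)) * a⁻¹ := by rw [h4]; group
      _ = a * w * (a⁻¹ * (b * a)) * a⁻¹ := by rw [h1]
      _ = a * w * a⁻¹ * b := by group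
  set U₁ := W ⊓ centralizer ({a} : Set G) with hU₁
  set U₂ := U₁.map (MulAut.conj y).toMonoidHom with hU₂
  have hWy : W.map (MulAut.conj y).toMonoidHom = W := H38.Basic.mem_normalizer_iff'.1 hyW
  have hidx2 : U₂.relIndex W ≤ 2 := by
    have h1 : U₂.relIndex W = U₁.relIndex W := by
      conv_lhs => rw [← hWy, hU₂]
      exact relIndex_map_map_of_injective _ _ (MulAut.conj y).injective
    rw [h1]; exact hidx1
  have hidx3 : (U₁ ⊓ U₂).relIndex W ≤ 4 := by
    refine (relIndex_inf_le).trans ?_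
    calc U₁.relIndex W * U₂.relIndex W ≤ 2 * 2 := Nat.mul_le_mul hidx1 hidx2
      _ = 4 := rfl
  have hle : U₁ ⊓ U₂ ≤ W ⊓ centralizer ({y} : Set G) := by
    intro u hu
    obtain ⟨hu1, hu2⟩ := mem_inf.1 hu
    have huW : u ∈ W := (mem_inf.1 hu1).1
    refine mem_inf.2 ⟨huW, ?_⟩
    have h1 : Commute u a := mem_centralizer_singleton_iff.1 (mem_inf.1 hu1).2
    obtain ⟨u', hu', rfl⟩ := hu2
    set u : G := (MulAut.conj y).toMonoidHom u' with hu
    have huy : u = y * u' * y⁻¹ := rfl
    have h2 : Commute u' a := mem_centralizer_singleton_iff.1 (mem_inf.1 hu').2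
    have h3 : Commute u (y * a * y⁻¹) := by
      show u * (y * a * y⁻¹) = (y * a * y⁻¹) * u
      rw [huy]
      calc y * u' * y⁻¹ * (y * a * y⁻¹) = y * (u' * a) * y⁻¹ := by group
        _ = y * (a * u') * y⁻¹ := by rw [h2.eq]
        _ = _ := by group
    have h4 : a * y * a⁻¹ * y ∈ H := by
      rw [← hker', map_mul, map_mul, map_mul, map_inv, hyinv, inv_mul_cancel]
    set g := a * y * a⁻¹ * y with hg
    have h5 : Commute u g := mem_centralizer_iff.1 (hHW h4) u huW
    have h6 : y ^ 2 = (y * a * y⁻¹) * a⁻¹ * g := by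
      rw [hg, pow_two]; group
    have h7 : Commute u (y ^ 2) := by
      rw [h6]; exact (h3.mul_right h1.inv_right).mul_right h5
    obtain ⟨m, hm⟩ := hyodd
    have h8 : y = (y ^ 2) ^ (m + 1) := by
      rw [← pow_mul]
      have h9 : 2 * (m + 1) = 1 + orderOf y := by rw [hm]; ring
      rw [h9, pow_add, pow_one, pow_orderOf_eq_one, mul_one]
    rw [mem_centralizer_singleton_iff]
    have h9 : Commute u ((y ^ 2) ^ (m + 1)) := h7.pow_right _
    rw [← h8] at h9
    exact h9.eq
  have hidx4 : (W ⊓ centralizer ({y} : Set G)).relIndex W ≤ 4 := by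
    refine (relIndex_le_of_le_left hle ?_).trans hidx3
    exact index_ne_zero_of_finite (H := (U₁ ⊓ U₂).subgroupOf W)
  have hcube := cube_centralizes hWc hWp hyW hyodd hidx4
  have hync : y ∉ centralizer (W : Set G) := by
    intro h1
    apply hyH
    apply hCV
    refine mem_centralizer_of_PQ (p := 2) hVc hVp (P.2.to_le (hBA.trans hA.1)) hyo ?_ ?_
    · intro b hb
      apply hHV
      rw [← hker', map_commutatorElement, commutatorElement_eq_one_iff_mul_comm]
      exact hyB _ (hBπ b hb)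
    · intro w hw
      exact mem_centralizer_iff.1 h1 w hw
  apply H51.S4Section3.backward hWp
  set N := normalizer (W : Set G) with hN'
  have hmk : ∀ (g : G) (hg : g ∈ N), g ∈ centralizer (W : Set G) →
      ((⟨g, hg⟩ : N) : N ⧸ (centralizer (W : Set G)).subgroupOf N) = 1 := by
    intro g hg hgc
    rw [QuotientGroup.eq_one_iff]; exact hgc
  refine involves_S3 (s := ((⟨a, haW⟩ : N) : N ⧸ (centralizer (W : Set G)).subgroupOf N))
    (r := ((⟨y, hyW⟩ : N) : N ⧸ (centralizer (W : Set G)).subgroupOf N)) ?_ ?_ ?_ ?_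
  · have h1 := hmk (a ^ 2) (pow_mem haW 2) (hHW (hsq a ha))
    rw [← QuotientGroup.mk_mul]
    have h2 : (⟨a, haW⟩ : N) * ⟨a, haW⟩ = ⟨a ^ 2, pow_mem haW 2⟩ := Subtype.ext (pow_two a).symm
    rw [h2]; exact h1
  · have h1 := hmk (y ^ 3) (pow_mem hyW 3) hcube
    rw [← QuotientGroup.mk_pow]
    exact h1
  · intro h1
    rw [QuotientGroup.eq_one_iff] at h1
    exact hync h1
  · have h4 : a * y * a⁻¹ * y ∈ H := by
      rw [← hker', map_mul, map_mul, map_mul, map_inv, hyinv, inv_mul_cancel]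
    have h1 := hmk (a * y * a⁻¹ * y) (mul_mem (mul_mem (mul_mem haW hyW) (inv_mem haW)) hyW) (hHW h4)
    rw [eq_inv_iff_mul_eq_one, ← QuotientGroup.mk_inv, ← QuotientGroup.mk_mul, ← QuotientGroup.mk_mul,
      ← QuotientGroup.mk_mul]
    exact h1

theorem npc_two [Fact (Nat.Prime 2)] : ∀ (n : ℕ) (G : Type*) [Group G] [Finite G]
    (P : Sylow 2 G), Nat.card G ≤ n → ¬ Involves (Equiv.Perm (Fin 4)) G → Hyp 2 (P : Subgroup G) →
      HasNormalPComplement 2 G := by
  intro n
  induction n with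
  | zero =>
    intro G _ _ P hn
    have := Nat.card_pos (α := G)
    omega
  | succ n ih =>
    intro G _ _ P hn hfree hN
    refine final_two ?_ ?_ hfree P hN
    · intro M hM T hT
      refine ih M T ?_ ?_ hT
      · have h1 := card_lt_of_lt (lt_top_iff_ne_top.mpr hM)
        rw [card_top] at h1
        omega
      · exact fun h => hfree (H51.Involves.involves_of_injective M.subtype M.subtype_injective h)
    · intro N _ hN1 T hT
      refine ih (G ⧸ N) T ?_ ?_ hT
      · have h1 := N.card_mul_index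
        rw [index_eq_card] at h1
        have h2 : 1 < Nat.card N := by
          have h3 : Nat.card N ≠ 1 := fun h => hN1 (Subgroup.card_eq_one.mp h)
          have h4 := Nat.card_pos (α := N)
          omega
        have h3 : 0 < Nat.card (G ⧸ N) := Nat.card_pos
        nlinarith
      · exact fun h => hfree (H51.Involves.involves_of_hom (QuotientGroup.mk' N)
          (QuotientGroup.mk'_surjective N) h)

theorem npc_odd {p : ℕ} [Fact p.Prime] (hp2 : p ≠ 2) : ∀ (n : ℕ) (G : Type*) [Group G] [Finite G]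
    (P : Sylow p G), Nat.card G ≤ n → Hyp p (P : Subgroup G) → HasNormalPComplement p G := by
  intro n
  induction n with
  | zero =>
    intro G _ _ P hn
    have := Nat.card_pos (α := G)
    omega
  | succ n ih =>
    intro G _ _ P hn hN
    refine final_odd hp2 ?_ ?_ P hN
    · intro M hM T hT
      refine ih M T ?_ hT
      have h1 := card_lt_of_lt (lt_top_iff_ne_top.mpr hM)
      rw [card_top] at h1
      omega
    · intro N _ hN1 T hT
      refine ih (G ⧸ N) T ?_ hT
      have h1 := N.card_mul_index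
      rw [index_eq_card] at h1
      have h2 : 1 < Nat.card N := by
        have h3 : Nat.card N ≠ 1 := fun h => hN1 (Subgroup.card_eq_one.mp h)
        have h4 := Nat.card_pos (α := N)
        omega
      have h3 : 0 < Nat.card (G ⧸ N) := Nat.card_pos
      nlinarith

/-- Thompson's normal `p`-complement theorem, abelian version of `J`, `p` odd or `S₄`-free. -/
theorem main {G : Type*} [Group G] [Finite G] {p : ℕ} [Fact p.Prime] (S : Sylow p G)
    (h : p ≠ 2 ∨ ¬ Involves (Equiv.Perm (Fin 4)) G) (hS : Hyp p (S : Subgroup G)) :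
    HasNormalPComplement p G := by
  by_cases hp : p = 2
  · subst hp
    exact npc_two _ G S le_rfl (h.resolve_left (fun h => h rfl)) hS
  · exact npc_odd hp _ G S le_rfl hS

end H52.ThompNPC4
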