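import Cfsg.Agent.Lib.H52.Sub
import Cfsg.Agent.Lib.H53.CharP

set_option autoImplicit false
set_option linter.unusedSectionVars false
set_option linter.unusedVariables false
set_option linter.dupNamespace false

/-! Weakly closed subgroups and large subgroups. -/

namespace H52.WC

open Subgroup Cfsg H52.PCore H52.PRes H52.Cop H52.Syl H52.Red H52.YL H52.YL2 H52.Sub
open scoped commutatorElement

variable {G : Type*} [Group G] {p : ℕ}

/-- Strong form of weak closure: every `p`-subgroup containing `Q` contains no other conjugate of `Q`. -/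
def WC (p : ℕ) (Q : Subgroup G) : Prop :=
  ∀ R : Subgroup G, IsPGroup p R → Q ≤ R → ∀ g : G, cj g Q ≤ R → cj g Q = Q

theorem WC.cj {Q : Subgroup G} (h : WC p Q) (a : G) : WC p (cj a Q) := by
  intro R hR hQR g hg
  rw [Syl.cj_cj] at hg ⊢
  have h1 := h (Syl.cj a⁻¹ R) (isPGroup_cj hR) (by rw [le_cj_iff, inv_inv]; exact hQR) (a⁻¹ * (g * a)) (by
    rw [← Syl.cj_cj]; exact cj_mono hg)
  rw [← Syl.cj_cj, ← cj_inj (g := a), cj_cj_inv] at h1
  exact h1

theorem WC.unique {Q : Subgroup G} (h : WC p Q) {R : Subgroup G} (hR : IsPGroup p R) {a b : G}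
    (ha : Syl.cj a Q ≤ R) (hb : Syl.cj b Q ≤ R) : Syl.cj a Q = Syl.cj b Q := by
  have h1 := (h.cj b) R hR hb (a * b⁻¹) (by rw [Syl.cj_cj]; simpa using ha)
  rw [Syl.cj_cj] at h1
  simpa using h1

theorem WC.normalizer_le {Q : Subgroup G} (h : WC p Q) {R : Subgroup G} (hR : IsPGroup p R) (hQR : Q ≤ R) :
    normalizer (R : Set G) ≤ normalizer (Q : Set G) := by
  intro x hx
  apply mem_normalizer_of_cj_eq
  apply h R hR hQR
  calc Syl.cj x Q ≤ Syl.cj x R := cj_mono hQR
    _ = R := cj_eq_of_mem_normalizer hx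

/-- A `p`-subgroup normalized by `Q` normalizes `Q`. -/
theorem WC.le_normalizer {Q : Subgroup G} (h : WC p Q) (hQ : IsPGroup p Q) {R : Subgroup G}
    (hR : IsPGroup p R) (hn : Q ≤ normalizer (R : Set G)) : R ≤ normalizer (Q : Set G) := by
  have h1 : IsPGroup p ((Q ⊔ R : Subgroup G)) := by
    rw [sup_comm]
    exact hR.to_sup_of_normal_left' hQ hn
  have h2 := h.normalizer_le h1 le_sup_left
  exact (le_sup_right.trans Subgroup.le_normalizer).trans h2

/-- The conjugates of `Q` in an overgroup `K` are conjugate in `K`. -/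
theorem WC.conj [Finite G] [Fact p.Prime] {Q : Subgroup G} (h : WC p Q) (hQ : IsPGroup p Q) {K : Subgroup G} (hQK : Q ≤ K)
    {g : G} (hg : Syl.cj g Q ≤ K) : ∃ k ∈ K, Syl.cj g Q = Syl.cj k Q := by
  obtain ⟨S, hS, hQS⟩ := exists_sylIn_le hQK hQ
  obtain ⟨k, hk, hle⟩ := hS.exists_conj_le hg (isPGroup_cj hQ)
  refine ⟨k, hk, ?_⟩
  exact h.unique (isPGroup_cj hS.isPGroup) hle (cj_mono hQS)

theorem WC.sylIn_le_normalizer {Q S : Subgroup G} (h : WC p Q) (hS : IsPGroup p S) (hQS : Q ≤ S) :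
    S ≤ normalizer (Q : Set G) := Subgroup.le_normalizer.trans (h.normalizer_le hS hQS)

theorem iff_WC [Finite G] [Fact p.Prime] {Q : Subgroup G} (hQ : IsPGroup p Q) : IsWeaklyClosedSubgroup p Q ↔ WC p Q := by
  constructor
  · rintro ⟨T, hQT, hT⟩ R hR hQR g hg
    obtain ⟨x, -, hx⟩ := (sylIn_top T).exists_conj_le le_top hR
    have h1 : Syl.cj x⁻¹ Q = Q := hT x⁻¹ (by
      have := hQR.trans hx
      rw [le_cj_iff] at this; exact this)
    have h2 : Syl.cj (x⁻¹ * g) Q = Q := hT (x⁻¹ * g) (by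
      have := hg.trans hx
      rw [le_cj_iff, Syl.cj_cj] at this; exact this)
    rw [← Syl.cj_cj] at h2
    rw [← cj_inj (g := x⁻¹), h2, h1]
  · intro h
    obtain ⟨T, hT⟩ := hQ.exists_le_sylow
    exact ⟨T, hT, fun g hg => h T T.isPGroup' hT g hg⟩

/-- Frattini argument for weakly closed subgroups: `M ⊴ X`, `Q ≤ M`. -/
theorem WC.frattini [Finite G] [Fact p.Prime] {Q : Subgroup G} (h : WC p Q) (hQ : IsPGroup p Q) {M X : Subgroup G}
    (hQM : Q ≤ M) (hn : X ≤ normalizer (M : Set G)) {x : G} (hx : x ∈ X) :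
    ∃ n ∈ normalizer (Q : Set G), ∃ m ∈ M, x = m * n := by
  have h1 : Syl.cj x Q ≤ M := by
    calc Syl.cj x Q ≤ Syl.cj x M := cj_mono hQM
      _ = M := cj_eq_of_mem_normalizer (hn hx)
  obtain ⟨m, hm, he⟩ := h.conj hQ hQM h1
  refine ⟨m⁻¹ * x, ?_, m, hm, by group⟩
  apply mem_normalizer_of_cj_eq
  rw [← Syl.cj_cj, he, cj_inv_cj]

theorem weakClosure_eq (Q K : Subgroup G) :
    weakClosure Q K = ⨆ g : {g : G // Syl.cj g Q ≤ K}, Syl.cj (g : G) Q := rfl

theorem WC.weakClosure_eq_ncl [Finite G] [Fact p.Prime] {Q : Subgroup G} (h : WC p Q) (hQ : IsPGroup p Q) {K : Subgroup G}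
    (hQK : Q ≤ K) : weakClosure Q K = ncl K Q := by
  rw [weakClosure_eq]
  apply le_antisymm
  · apply iSup_le
    rintro ⟨g, hg⟩
    obtain ⟨k, hk, he⟩ := h.conj hQ hQK hg
    show Syl.cj g Q ≤ _
    rw [he]
    exact cj_le_ncl hk
  · rw [ncl_le_iff]
    intro l hl
    have h1 : Syl.cj l Q ≤ K := by
      calc Syl.cj l Q ≤ Syl.cj l K := cj_mono hQK
        _ = K := cj_of_mem hl
    exact le_iSup (fun g : {g : G // Syl.cj g Q ≤ K} => Syl.cj (g : G) Q) ⟨l, h1⟩

theorem le_normalizer_sup_commutator (Q C : Subgroup G) :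
    C ≤ normalizer ((Q ⊔ ⁅Q, C⁆ : Subgroup G) : Set G) := by
  have key : ∀ c ∈ C, Syl.cj c (Q ⊔ ⁅Q, C⁆) ≤ Q ⊔ ⁅Q, C⁆ := by
    intro c hc
    rw [cj_sup]
    refine sup_le ?_ ?_
    · rintro _ ⟨q, hq, rfl⟩
      have h1 : ⁅q, c⁆⁻¹ * q ∈ Q ⊔ ⁅Q, C⁆ :=
        mul_mem (inv_mem (mem_sup_right (commutator_mem_commutator hq hc))) (mem_sup_left hq)
      have h2 : (MulAut.conj c).toMonoidHom q = ⁅q, c⁆⁻¹ * q := by
        simp only [MulEquiv.toMonoidHom_eq_coe, MonoidHom.coe_coe, MulAut.conj_apply, commutatorElement_def]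
        group
      rw [h2]; exact h1
    · rw [cj_eq_of_mem_normalizer (normalizer_commutator_ge_right Q C hc)]
      exact le_sup_right
  intro c hc
  rw [mem_normalizer_iff_cj]
  apply le_antisymm (key c hc)
  rw [le_cj_iff]
  exact key _ (inv_mem hc)

/-- If `[Q, C]` is a `p`-group then `C` normalizes `Q`. -/
theorem WC.le_normalizer_of_isPGroup_commutator {Q C : Subgroup G} (h : WC p Q)
    (hQ : IsPGroup p Q) (hp : IsPGroup p (⁅Q, C⁆ : Subgroup G)) : C ≤ normalizer (Q : Set G) := by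
  have h1 : Q ≤ normalizer ((⁅Q, C⁆ : Subgroup G) : Set G) := normalizer_commutator_ge_left Q C
  have h3 : IsPGroup p ((Q ⊔ ⁅Q, C⁆ : Subgroup G)) := hQ.to_sup_of_normal_right' hp h1
  exact (le_normalizer_sup_commutator Q C).trans (h.normalizer_le h3 le_sup_left)

/-- Large `p`-subgroups are weakly closed. -/
theorem wc_of_isLarge [Fact p.Prime] [Finite G] {Q : Subgroup G} (hQ1 : Q ≠ ⊥) (hL : IsLarge Q) :
    WC p Q := by
  intro R hR hQR g hg
  -- every `p`-subgroup `R ≥ Q` satisfies `N(R) ≤ N(Q)`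
  have key : ∀ R : Subgroup G, IsPGroup p R → Q ≤ R → normalizer (R : Set G) ≤ normalizer (Q : Set G) := by
    intro R hR hQR
    set Z := R ⊓ centralizer (R : Set G) with hZ
    have hZ1 : Z ≠ ⊥ := by
      intro hbot
      have hRn : Nontrivial R := by
        rw [nontrivial_iff_ne_bot]
        intro h0; apply hQ1; rw [eq_bot_iff, ← h0]; exact hQR
      have := hR.center_nontrivial
      rw [nontrivial_iff_ne_bot] at this
      apply this
      rw [eq_bot_iff]
      intro x hx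
      have hx' : (x : G) ∈ Z := by
        refine mem_inf.2 ⟨x.2, ?_⟩
        rw [mem_centralizer_iff]
        intro y hy
        exact congrArg Subtype.val (mem_center_iff.1 hx ⟨y, hy⟩)
      rw [hbot] at hx'
      exact Subtype.ext hx'
    have h1 : Z ≤ centralizer (Q : Set G) := inf_le_right.trans (centralizer_le hQR)
    have h2 := hL.2 Z h1 hZ1
    refine le_trans ?_ h2
    intro x hx
    exact normalizer_inf_le (mem_inf.2 ⟨hx, normalizer_le_normalizer_centralizer R hx⟩)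
  have hQp : IsPGroup p Q := hR.to_le hQR
  obtain ⟨T, hT⟩ := hR.exists_le_sylow
  have hQT := hQR.trans hT
  have h1 := key T T.isPGroup' hQT
  have h2 : Q ≤ Syl.cj g⁻¹ T := by rw [le_cj_iff, inv_inv]; exact hg.trans hT
  have h3 : SylIn p (Syl.cj g⁻¹ (T : Subgroup G)) ⊤ := by
    have := (sylIn_top T).cj g⁻¹
    rwa [cj_normal (inferInstance : (⊤ : Subgroup G).Normal)] at this
  have h4 := key _ h3.isPGroup h2
  have h5 : SylIn p (T : Subgroup G) (normalizer (Q : Set G)) :=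
    (sylIn_top T).of_le (Subgroup.le_normalizer.trans h1) le_top
  have h6 : SylIn p (Syl.cj g⁻¹ (T : Subgroup G)) (normalizer (Q : Set G)) :=
    h3.of_le (Subgroup.le_normalizer.trans h4) le_top
  obtain ⟨n, hn, he⟩ := h5.conj h6
  have h7 : n⁻¹ * g⁻¹ ∈ normalizer ((T : Subgroup G) : Set G) := by
    apply mem_normalizer_of_cj_eq
    rw [← Syl.cj_cj, he, cj_inv_cj]
  have h8 : g⁻¹ ∈ normalizer (Q : Set G) := by
    have : g⁻¹ = n * (n⁻¹ * g⁻¹) := by group
    rw [this]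
    exact mul_mem hn (h1 h7)
  exact cj_eq_of_mem_normalizer (by simpa using inv_mem h8)

theorem isLarge_cj {Q : Subgroup G} (hL : IsLarge Q) (g : G) : IsLarge (Syl.cj g Q) := by
  refine ⟨?_, ?_⟩
  · rw [← cj_centralizer]; exact cj_mono hL.1
  · intro U hU hU1
    have h1 : Syl.cj g⁻¹ U ≤ centralizer (Q : Set G) := by
      rw [cj_le_iff, inv_inv, cj_centralizer]; exact hU
    have h2 : Syl.cj g⁻¹ U ≠ ⊥ := by
      intro h0; apply hU1
      have : Syl.cj g (Syl.cj g⁻¹ U) = Syl.cj g ⊥ := by rw [h0]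
      rw [cj_cj_inv] at this
      rw [this]; exact Subgroup.map_bot _
    have h3 := hL.2 _ h1 h2
    rw [← cj_normalizer, cj_le_iff, inv_inv] at h3
    rw [← cj_normalizer]; exact h3

/-- distinct conjugates of a large subgroup have disjoint centralizers -/
theorem centralizer_inf_eq_bot [Fact p.Prime] [Finite G] {Q : Subgroup G} (hQ : IsPGroup p Q) (hQ1 : Q ≠ ⊥)
    (hL : IsLarge Q) {g : G} (hg : g ∉ normalizer (Q : Set G)) :
    centralizer (Q : Set G) ⊓ centralizer (Syl.cj g Q : Set G) = ⊥ := by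
  by_contra hne
  apply hg
  set U := centralizer (Q : Set G) ⊓ centralizer (Syl.cj g Q : Set G) with hU
  have h1 := hL.2 U inf_le_left hne
  have h2 : Syl.cj g Q ≤ normalizer (Q : Set G) := by
    refine le_trans ?_ h1
    refine le_trans ?_ (Syl.centralizer_le_normalizer U)
    rw [le_centralizer_iff]
    exact inf_le_right
  have hwc := wc_of_isLarge (p := p) hQ1 hL
  have h3 : IsPGroup p ((Q ⊔ Syl.cj g Q : Subgroup G)) :=
    hQ.to_sup_of_normal_left' (isPGroup_cj hQ) h2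
  exact mem_normalizer_of_cj_eq (hwc _ h3 le_sup_left g le_sup_right)

/-- `C_H(y)` has characteristic `p` and normalizes the large subgroup `Q`, for `1 ≠ y ∈ C_H(Q)`. -/
theorem centralizer_le_normalizer_of_isLarge {Q : Subgroup G} (hL : IsLarge Q) {y : G} (hy1 : y ≠ 1)
    (hy : y ∈ centralizer (Q : Set G)) : centralizer ({y} : Set G) ≤ normalizer (Q : Set G) := by
  have h1 : zpowers y ≤ centralizer (Q : Set G) := by rwa [zpowers_le]
  have h2 : zpowers y ≠ ⊥ := by rwa [Ne, zpowers_eq_bot]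
  refine le_trans ?_ (hL.2 _ h1 h2)
  refine le_trans ?_ (Syl.centralizer_le_normalizer _)
  intro x hx
  rw [mem_centralizer_iff] at hx ⊢
  rintro _ ⟨n, rfl⟩
  have h3 : Commute y x := hx y rfl
  exact h3.zpow_left n

open H53.CharP in
theorem cp_centralizer_of_isLarge [Fact p.Prime] [Finite G] {Q : Subgroup G} (hQ : IsPGroup p Q)
    (hL : IsLarge Q) {y : G} (hy1 : y ≠ 1) (hy : y ∈ centralizer (Q : Set G)) :
    CP p (centralizer ({y} : Set G)) := by
  have h1 := centralizer_le_normalizer_of_isLarge hL hy1 hy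
  have h2 : Q ≤ centralizer ({y} : Set G) := by
    intro x hx
    rw [mem_centralizer_iff] at hy ⊢
    rintro _ rfl
    exact (hy x hx).symm
  have h3 : Q ≤ pCoreOf p (centralizer ({y} : Set G)) := le_pCoreOf h2 h1 hQ
  exact inf_le_right.trans ((centralizer_le h3).trans (hL.1.trans h3))

open H53.CharP in
/-- core of the statement about `[Q, C_H(O_p(L))]`. -/
theorem core [Fact p.Prime] [Finite G] {Q L : Subgroup G} (hQ : IsPGroup p Q) (hwc : WC p Q)
    (hCQ : centralizer (Q : Set G) ≤ Q) (hQL : Q ≤ L)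
    (hcp : CP p (normalizer ((pCoreOf p L : Subgroup G) : Set G))) :
    ⁅Q, centralizer ((pCoreOf p L : Subgroup G) : Set G)⁆ ≤ Q ⊓ pCoreOf p L ∧
    IsPGroup p (centralizer ((pCoreOf p L : Subgroup G) : Set G)) ∧ CP p L := by
  obtain ⟨P, hP⟩ : ∃ P : Subgroup G, P = pCoreOf p L := ⟨_, rfl⟩
  rw [← hP] at hcp ⊢
  have hPL : P ≤ L := hP ▸ pCoreOf_le L
  have hLP : L ≤ normalizer (P : Set G) := hP ▸ le_normalizer_pCoreOf L
  have hPmax : ∀ N : Subgroup G, N ≤ L → L ≤ normalizer (N : Set G) → IsPGroup p N → N ≤ P := by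
    intro N h1 h2 h3; rw [hP]; exact le_pCoreOf h1 h2 h3
  obtain ⟨C, hC⟩ : ∃ C : Subgroup G, C = centralizer (P : Set G) := ⟨_, rfl⟩
  rw [← hC]
  have hCn : C ≤ normalizer (P : Set G) := hC ▸ Syl.centralizer_le_normalizer P
  have hNC : normalizer (P : Set G) ≤ normalizer (C : Set G) := hC ▸ normalizer_le_normalizer_centralizer P
  have hLC : L ≤ normalizer (C : Set G) := hLP.trans hNC
  have hQC : Q ≤ normalizer (C : Set G) := hQL.trans hLC
  have hcpC : CP p C := hcp.of_normal hCn hNC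
  have hPC : ⁅P, C⁆ = ⊥ := by
    rw [commutator_comm, commutator_eq_bot_iff_le_centralizer, hC]
  -- a subgroup of `L ⊓ C` normalized by `C` which is a `p`-group lies in `P`
  have hsub : ∀ N : Subgroup G, N ≤ L → N ≤ C → C ≤ normalizer (N : Set G) → IsPGroup p N → N ≤ P := by
    intro N h1 h2 h3 h4
    have h5 : N ≤ pCoreOf p (L ⊓ C) := le_pCoreOf (le_inf h1 h2) (inf_le_right.trans h3) h4
    refine h5.trans (hPmax _ ((pCoreOf_le _).trans inf_le_left) ?_ (isPGroup_pCoreOf _))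
    have h6 : L ≤ normalizer ((L ⊓ C : Subgroup G) : Set G) := by
      intro l hl
      exact normalizer_inf_le (mem_inf.2 ⟨Subgroup.le_normalizer hl, hLC hl⟩)
    exact h6.trans (normalizer_le_normalizer_pCoreOf _)
  -- the `p`-core of `C`
  obtain ⟨D, hD⟩ : ∃ D : Subgroup G, D = pCoreOf p C := ⟨_, rfl⟩
  have hDC : D ≤ C := hD ▸ pCoreOf_le C
  have hDp : IsPGroup p D := hD ▸ isPGroup_pCoreOf C
  have hCD : normalizer (C : Set G) ≤ normalizer (D : Set G) := hD ▸ normalizer_le_normalizer_pCoreOf C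
  have hQD : Q ≤ normalizer (D : Set G) := hQC.trans hCD
  have hDQ : D ≤ normalizer (Q : Set G) := hwc.le_normalizer hQ hDp hQD
  obtain ⟨W, hW⟩ : ∃ W : Subgroup G, W = ⁅D, Q⁆ := ⟨_, rfl⟩
  have hWQ : W ≤ Q := by
    rw [hW, commutator_comm]; exact le_normalizer_iff_commutator_le_left.1 hDQ
  have hWD : W ≤ D := by
    rw [hW]; exact le_normalizer_iff_commutator_le_left.1 hQD
  have hWP : W ≤ P := by
    refine le_trans (le_inf (hWQ.trans hQL) hWD) ?_
    refine hPmax _ inf_le_left ?_ (hDp.to_le inf_le_right)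
    intro l hl
    exact normalizer_inf_le (mem_inf.2 ⟨Subgroup.le_normalizer hl, hCD (hLC hl)⟩)
  have hCW : C ≤ centralizer (W : Set G) := hC ▸ centralizer_le hWP
  have hCWn : C ≤ normalizer (W : Set G) := hCW.trans (Syl.centralizer_le_normalizer W)
  have hQWn : Q ≤ normalizer (W : Set G) := by
    rw [hW]; exact normalizer_commutator_ge_right D Q
  -- `[D, ⟨Q^C⟩] ≤ W`
  have hCDn : C ≤ normalizer (D : Set G) := Subgroup.le_normalizer.trans hCD
  have h1 : ⁅D, ncl (C ⊔ Q) Q⁆ ≤ W :=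
    commutator_ncl_le le_sup_right (sup_le hCWn hQWn) (sup_le hCDn hQD) hW.ge
  have h2 : ⁅Q, C⁆ ≤ ncl (C ⊔ Q) Q := by
    rw [commutator_le]
    intro q hq c hc
    have h3 : ⁅q, c⁆ = q * (c * q⁻¹ * c⁻¹) := by
      rw [commutatorElement_def]; group
    rw [h3]
    refine mul_mem (le_ncl _ _ hq) ?_
    exact cj_le_ncl (mem_sup_left hc) (conj_mem_cj (inv_mem hq))
  have hQCC : ⁅Q, C⁆ ≤ C := by
    rw [commutator_comm]; exact le_normalizer_iff_commutator_le_left.1 hQC
  have h4 : ⁅⁅D, ⁅Q, C⁆⁆, ⁅Q, C⁆⁆ = ⊥ := by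
    rw [eq_bot_iff]
    calc ⁅⁅D, ⁅Q, C⁆⁆, ⁅Q, C⁆⁆ ≤ ⁅W, C⁆ := commutator_mono ((commutator_mono le_rfl h2).trans h1) hQCC
      _ ≤ ⊥ := by
        rw [commutator_comm, commutator_eq_bot_iff_le_centralizer.2 hCW]
  have h5 : resOf p ⁅Q, C⁆ ≤ centralizer (D : Set G) := by
    apply resOf_le_centralizer_of_two hDp
    · exact (hQCC.trans hCDn)
    · exact h4
  have h6 : IsPGroup p (⁅Q, C⁆ : Subgroup G) := by
    have h7 : resOf p ⁅Q, C⁆ ≤ D := by
      have hcpC' : C ⊓ centralizer (D : Set G) ≤ D := by rw [hD]; exact hcpC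
      exact le_trans (le_inf ((resOf_le _).trans hQCC) h5) hcpC'
    rw [← resOf_eq_bot_iff, ← resOf_resOf]
    exact resOf_eq_bot_iff.2 (hDp.to_le h7)
  have h8 : C ≤ normalizer (Q : Set G) := hwc.le_normalizer_of_isPGroup_commutator hQ h6
  have h9 : ⁅Q, C⁆ ≤ Q := le_normalizer_iff_commutator_le_left.1 h8
  have h10 : Q ⊓ C ≤ P := by
    refine hsub _ (inf_le_left.trans hQL) inf_le_right ?_ (hQ.to_le inf_le_left)
    intro c hc
    exact normalizer_inf_le (mem_inf.2 ⟨h8 hc, Subgroup.le_normalizer hc⟩)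
  have h11 : ⁅Q, C⁆ ≤ P := (le_inf h9 hQCC).trans h10
  have h12 : IsPGroup p C := by
    have h13 : resOf p C ≤ centralizer (Q : Set G) := by
      apply resOf_le_centralizer_of_two hQ h8
      rw [eq_bot_iff, ← hPC]
      exact commutator_mono h11 le_rfl
    rw [← resOf_eq_bot_iff, ← resOf_resOf]
    exact resOf_eq_bot_iff.2 (hQ.to_le (h13.trans hCQ))
  refine ⟨le_inf h9 h11, h12, ?_⟩
  unfold CP
  rw [← hP, ← hC]
  refine hPmax _ inf_le_left ?_ (h12.to_le inf_le_right)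
  intro l hl
  exact normalizer_inf_le (mem_inf.2 ⟨Subgroup.le_normalizer hl, hLC hl⟩)

end H52.WC
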