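import Cfsg.Agent.Lib.H52.Irr
import Cfsg.Agent.Lib.H52.Sub

set_option autoImplicit false
set_option linter.unusedSectionVars false
set_option linter.unusedVariables false

/-! Groups minimal over a `p`-subgroup. -/

namespace H52.YMin

open Subgroup Cfsg H52.PCore H52.PRes H52.Cop H52.Syl H52.Red H52.YL H52.YL2 H52.Sub H52.Irr
open scoped commutatorElement

variable {G : Type*} [Group G] [Finite G] {p : ℕ} [Fact p.Prime] {Y M : Subgroup G}

theorem normal_of_isCoatom_of_isPGroup (hG : IsPGroup p G) (hM : IsCoatom M) : M.Normal := by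
  have h1 : Group.IsNilpotent G := hG.isNilpotent
  exact NormalizerCondition.normal_of_coatom M Group.normalizerCondition_of_isNilpotent hM

theorem pCore_le_of_minimal (h : IsMinimalOver Y) (hM : IsCoatom M) (hYM : Y ≤ M)
    (hYp : IsPGroup p Y) : pCore p G ≤ M := by
  by_cases hX : Y ⊔ pCore p G = ⊤
  · exfalso
    have h1 : IsPGroup p ((Y ⊔ pCore p G : Subgroup G)) := hYp.to_sup_of_normal_right (isPGroup_pCore)
    rw [hX] at h1
    have h2 : IsPGroup p G := h1.of_equiv Subgroup.topEquiv
    exact hM.1 (eq_top_of_normal_of_minimal h (normal_of_isCoatom_of_isPGroup h2 hM) hYM)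
  · exact le_sup_right.trans (le_of_minimal h hM hYM le_sup_left hX)

/-- a normal subgroup inside `M` is `p`-closed -/
theorem sylow_normal_of_le (h : IsMinimalOver Y) (hM : IsCoatom M) (hYM : Y ≤ M)
    {T : Subgroup G} (hT : SylIn p T ⊤) (hYT : Y ≤ T) {N : Subgroup G} (hN : N.Normal) (hNM : N ≤ M) :
    T ⊓ N ≤ pCore p G := by
  have hS := hT.inf_subnormal hN.isSubnormal
  have hNn := normal_iff_top_le_normalizer.1 hN
  have hTN : T ≤ normalizer ((T ⊓ N : Subgroup G) : Set G) := by
    intro t ht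
    exact normalizer_inf_le (mem_inf.2 ⟨le_normalizer ht, hNn trivial⟩)
  have h1 : normalizer ((T ⊓ N : Subgroup G) : Set G) = ⊤ := by
    by_contra hne
    have h2 := le_of_minimal h hM hYM (hYT.trans hTN) hne
    apply hM.1
    rw [eq_top_iff]
    intro g hg
    obtain ⟨k, hk, n, hn, rfl⟩ := hS.frattini le_top hNn hg
    exact mul_mem (hNM hk) (h2 (mem_inf.1 hn).2)
  exact le_pCore (normalizer_eq_top_iff.1 h1) hS.isPGroup

theorem isPClosed_of_le_of_minimal (h : IsMinimalOver Y) (hM : IsCoatom M) (hYM : Y ≤ M)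
    (hYp : IsPGroup p Y) {N : Subgroup G} (hN : N.Normal) (hNM : N ≤ M) : IsPClosed p N := by
  obtain ⟨T, hT, hYT⟩ := exists_sylIn_le (p := p) (L := (⊤ : Subgroup G)) (le_top : Y ≤ ⊤) hYp
  rw [isPClosed_iff_sylow hN.isSubnormal hT]
  exact sylow_normal_of_le h hM hYM hT hYT hN hNM

theorem normal_normalCore' (M : Subgroup G) : M.normalCore.Normal := inferInstance

/-- maximal subgroups containing `O_p(G)` contain the core of `M`. -/
theorem core_le_coatom (h : IsMinimalOver Y) (hM : IsCoatom M) (hYM : Y ≤ M)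
    (hYp : IsPGroup p Y) {N : Subgroup G} (hN : N.Normal) (hNM : N ≤ M) {U : Subgroup G} (hU : IsCoatom U)
    (hOU : pCore p G ≤ U) : N ≤ U := by
  by_contra hNU
  have hNn := normal_iff_top_le_normalizer.1 hN
  have hsup : U ⊔ N = ⊤ := hU.2 _ (lt_of_le_of_ne le_sup_left
    (fun he => hNU (by rw [he]; exact le_sup_right)))
  obtain ⟨T, hT, hYT⟩ := exists_sylIn_le (p := p) (L := (⊤ : Subgroup G)) (le_top : Y ≤ ⊤) hYp
  have hTN := hT.inf_subnormal hN.isSubnormal
  have h1 := sylow_normal_of_le h hM hYM hT hYT hN hNM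
  obtain ⟨R, hR⟩ := exists_sylIn (p := p) U
  -- index argument
  have h2 : SylIn p R ⊤ := by
    apply sylIn_of_relIndex le_top hR.isPGroup
    rw [← relIndex_mul_relIndex R U ⊤ hR.le le_top]
    intro hd
    rcases (Nat.Prime.dvd_mul Fact.out).1 hd with h | h
    · exact hR.relIndex h
    · have h3 : (N ⊓ U).relIndex U * U.relIndex ⊤ = (N ⊓ U).relIndex N * N.relIndex ⊤ := by
        rw [relIndex_mul_relIndex _ _ _ inf_le_right le_top, relIndex_mul_relIndex _ _ _ inf_le_left le_top]
      have h4 : (N ⊓ U).relIndex U = N.relIndex ⊤ := by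
        rw [inf_relIndex_right, ← hsup, relIndex_sup_right]
      have h5 : 0 < N.relIndex ⊤ := by
        rw [relIndex_top_right]; exact Nat.pos_of_ne_zero N.index_ne_zero_of_finite
      have h6 : U.relIndex ⊤ = (N ⊓ U).relIndex N := by
        rw [h4, mul_comm] at h3
        exact Nat.eq_of_mul_eq_mul_right h5 h3
      rw [h6] at h
      apply hTN.relIndex
      refine h.trans ?_
      rw [← relIndex_mul_relIndex (T ⊓ N) (N ⊓ U) N (le_inf inf_le_right (h1.trans hOU)) inf_le_left]
      exact dvd_mul_left _ _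
  obtain ⟨g, -, hg⟩ := h2.exists_conj_le le_top hYp
  have h3 : Y ≤ cj g U := hg.trans (cj_mono hR.le)
  have h4 : cj g U ≤ M := by
    apply le_of_minimal h hM hYM h3
    exact (isCoatom_cj hU g).1
  have h5 : cj g U = M := by
    rcases (isCoatom_cj hU g).le_iff.1 h4 with h6 | h6
    · exact absurd h6 hM.1
    · exact h6.symm
  apply hNU
  have h6 := cj_normal (g := g) hN
  rw [← cj_le_cj_iff (g := g), h5, h6]
  exact hNM

end H52.YMin
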